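import Groth.Agent.Lib.Helper39.KrullAkizuki

/-!
# Discrete valuation rings dominating one-dimensional Noetherian domains (helper39)

Consequences of Krull–Akizuki for subrings of a field `K`:
* `KA.isDiscreteValuationRing_of_le`: a valuation subring `V ≠ ⊤` of `K` containing a
  one-dimensional Noetherian subring `A` with `Frac A = K` is a DVR.
* `KA.exists_valuationSubring_ne_top`: a subring `C ≠ ⊤` containing such an `A` lies in a
  valuation subring `≠ ⊤`.
* `KA.valuationSubring_ne_top_of_isDiscreteValuationRing`.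
-/

namespace Groth.Agent.Lib.Helper39.KA

open Module

section DVR
variable {K : Type*} [Field K]

/-- The scalar tower `A → V → K` for a subring contained in a valuation subring. -/
theorem isNoetherianRing_valuationSubring_of_le (A : Subring K) [IsFractionRing A K]
    [IsNoetherianRing A] [Ring.KrullDimLE 1 A] (V : ValuationSubring K) (hAV : A ≤ V.toSubring) :
    IsNoetherianRing V := by
  let _ : Algebra A V := (Subring.inclusion hAV).toAlgebra
  have : IsScalarTower A V K := IsScalarTower.of_algebraMap_eq (fun x => rfl)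
  have hinj : Function.Injective (algebraMap V K) := Subtype.val_injective
  exact isNoetherianRing_of_between A K hinj

theorem valuationSubring_not_isField {V : ValuationSubring K} (hV : V ≠ ⊤) : ¬ IsField V := by
  intro hf
  apply hV
  rw [eq_top_iff]
  intro z _
  rcases V.mem_or_inv_mem z with h | h
  · exact h
  · by_cases hz : z = 0
    · rw [hz]; exact V.zero_mem
    · have hne : (⟨z⁻¹, h⟩ : V) ≠ 0 := by
        intro h0
        exact inv_ne_zero hz (congrArg Subtype.val h0)
      obtain ⟨w, hw⟩ := hf.mul_inv_cancel hne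
      have : z⁻¹ * (w : K) = 1 := congrArg Subtype.val hw
      have hzw : z = w := by
        field_simp at this
        exact this.symm
      rw [hzw]; exact w.2

/-- A valuation subring `≠ K` containing a one-dimensional Noetherian domain with fraction field
`K` is a discrete valuation ring. -/
theorem isDiscreteValuationRing_of_le (A : Subring K) [IsFractionRing A K]
    [IsNoetherianRing A] [Ring.KrullDimLE 1 A] (V : ValuationSubring K) (hAV : A ≤ V.toSubring)
    (hV : V ≠ ⊤) : IsDiscreteValuationRing V := by
  have := isNoetherianRing_valuationSubring_of_le A V hAV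
  exact ((IsDiscreteValuationRing.TFAE V (valuationSubring_not_isField hV)).out 0 1).mpr
    (inferInstance : ValuationRing V)

/-- A DVR valuation subring is not everything. -/
theorem valuationSubring_ne_top_of_isDiscreteValuationRing (V : ValuationSubring K)
    [IsDiscreteValuationRing V] : V.toSubring ≠ ⊤ := by
  intro h
  apply IsDiscreteValuationRing.not_isField V
  refine ⟨⟨0, 1, zero_ne_one⟩, mul_comm, ?_⟩
  intro a ha
  have hmem : (a : K)⁻¹ ∈ V.toSubring := by rw [h]; trivial
  refine ⟨⟨(a : K)⁻¹, hmem⟩, ?_⟩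
  ext
  have : (a : K) ≠ 0 := fun h0 => ha (Subtype.ext h0)
  simp [this]

/-- A subring `C ≠ K` containing a subring with fraction field `K` lies in a valuation subring
`≠ K`. -/
theorem exists_valuationSubring_ne_top (A C : Subring K) [IsFractionRing A K] (hAC : A ≤ C)
    (hC : C ≠ ⊤) : ∃ V : ValuationSubring K, C ≤ V.toSubring ∧ V ≠ ⊤ := by
  -- some nonzero element of `C` is not invertible in `C`
  have hex : ∃ c : C, c ≠ 0 ∧ ¬ IsUnit c := by
    by_contra hcon
    push Not at hcon
    apply hC
    rw [eq_top_iff]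
    intro z _
    obtain ⟨a, b, hb, rfl⟩ := IsFractionRing.div_surjective (A := A) z
    have hb0 : (⟨b.1, hAC b.2⟩ : C) ≠ 0 := by
      intro h0
      have : (b : K) = 0 := congrArg Subtype.val h0
      exact nonZeroDivisors.ne_zero hb (Subtype.ext this)
    obtain ⟨u, hu⟩ := hcon _ hb0
    have h1 : ((u⁻¹ : Cˣ) : C) * ⟨b.1, hAC b.2⟩ = 1 := by rw [← hu]; simp
    have h2 : (((u⁻¹ : Cˣ) : C) : K) * (b : K) = 1 := congrArg Subtype.val h1
    have hb' : (b : K) ≠ 0 := fun h => by simp [h] at h2
    have : algebraMap A K a / algebraMap A K b = (a : K) * (((u⁻¹ : Cˣ) : C) : K) := by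
      change (a : K) / (b : K) = _
      rw [div_eq_iff hb', mul_assoc, h2, mul_one]
    rw [this]
    exact C.mul_mem (hAC a.2) (SetLike.coe_mem _)
  obtain ⟨c, hc0, hcu⟩ := hex
  have hI : (Ideal.span {c} : Ideal C) ≠ ⊤ := by
    rwa [Ne, Ideal.span_singleton_eq_top]
  obtain ⟨V, hCV, hV⟩ := Ideal.image_subset_nonunits_valuationSubring _ hI
  refine ⟨V, hCV, ?_⟩
  rintro rfl
  have hmem : (c : K) ∈ (⊤ : ValuationSubring K).nonunits :=
    hV ⟨c, Ideal.subset_span rfl, rfl⟩
  rw [ValuationSubring.mem_nonunits_iff_exists_mem_maximalIdeal] at hmem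
  obtain ⟨hc, hc'⟩ := hmem
  apply (IsLocalRing.mem_maximalIdeal _).mp hc'
  have hcK : (c : K) ≠ 0 := fun h => hc0 (Subtype.ext h)
  exact isUnit_iff_exists_inv.mpr ⟨⟨(c : K)⁻¹, trivial⟩, by ext; simp [hcK]⟩

end DVR

end Groth.Agent.Lib.Helper39.KA
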