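import Mathlib

/-!
# Krull–Akizuki (helper39)

Core length estimate: for a one-dimensional Noetherian domain `R` with fraction field `K`, an
`R`-module `N` embedded `R`-linearly in an `r`-dimensional `K`-vector space and `x ≠ 0` in `R`:
`ℓ_R(N/xN) ≤ r · ℓ_R(R/xR) < ∞` (`KA.length_quotient_smul_le`, `KA.length_quotient_span_smul_le`,
`KA.length_quotient_span_smul_ne_top`).

Auxiliary results of independent use:
* `KA.length_quotient_map`: for injective `g : A → B`, `P ≤ A`: `ℓ(B/g(P)) = ℓ(A/P) + ℓ(B/g(A))`.
* `KA.length_le_of_forall_fg`: length is the sup of lengths of f.g. submodules.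
* `KA.length_quotient_smul_eq_of_injective`: "Herbrand" invariance `ℓ(N/xN) = ℓ(M/xM)` for
  `N ↪ M` of finite colength, `x` injective on `M`.
* `KA.length_quotient_smul_of_finite`: `ℓ(M/xM) = rank M · ℓ(R/xR)` for f.g. `M`, `x` injective.

Rings `A` between `R` and a finite extension `L` of `K` (`Algebra R A`, `Algebra A L` injective):
* `KA.exists_ne_zero_algebraMap_mem`, `KA.length_quotient_ideal_ne_top` (`ℓ_R(A/I) < ∞`, `I ≠ 0`),
  `KA.isNoetherianRing_of_between`, `KA.krullDimLE_one_of_between`.
-/

namespace Groth.Agent.Lib.Helper39.KA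

open Module Pointwise

section LemmaG
variable {R : Type*} [Ring R] {A B : Type*} [AddCommGroup A] [Module R A]
  [AddCommGroup B] [Module R B]

/-- For an injective map `g : A → B` and `P ≤ A`:
`ℓ(B/g(P)) = ℓ(A/P) + ℓ(B/g(A))`. -/
theorem length_quotient_map (g : A →ₗ[R] B) (hg : Function.Injective g) (P : Submodule R A) :
    Module.length R (B ⧸ P.map g) =
      Module.length R (A ⧸ P) + Module.length R (B ⧸ LinearMap.range g) := by
  have hle : P.map g ≤ LinearMap.range g := by
    rw [← Submodule.map_top]; exact Submodule.map_mono le_top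
  apply Module.length_eq_add_of_exact
    (Submodule.mapQ P (P.map g) g (Submodule.le_comap_map g P)) (Submodule.factor hle)
  · rw [← LinearMap.ker_eq_bot, Submodule.mapQ, Submodule.ker_liftQ_eq_bot']
    rw [LinearMap.ker_comp, Submodule.ker_mkQ, Submodule.comap_map_eq_of_injective hg]
  · exact Submodule.factor_surjective hle
  · rw [LinearMap.exact_iff]
    ext y
    induction y using Submodule.Quotient.induction_on with | H y => ?_
    simp only [LinearMap.mem_ker, Submodule.factor, Submodule.mapQ_apply, LinearMap.id_coe, id_eq,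
      Submodule.Quotient.mk_eq_zero, LinearMap.mem_range]
    constructor
    · rintro ⟨a, rfl⟩
      exact ⟨Submodule.Quotient.mk a, by simp [Submodule.mapQ_apply]⟩
    · rintro ⟨a, ha⟩
      induction a using Submodule.Quotient.induction_on with | H a => ?_
      rw [Submodule.mapQ_apply, Submodule.Quotient.eq] at ha
      have h2 : g a - y ∈ LinearMap.range g := hle ha
      have h3 : g a ∈ LinearMap.range g := ⟨a, rfl⟩
      have := sub_mem h3 h2
      simpa using this

/-- The length of a module is bounded by `n` as soon as the length of every finitely generated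
submodule is. -/
theorem length_le_of_forall_fg {Q : Type*} [AddCommGroup Q] [Module R Q] {n : ℕ∞}
    (h : ∀ Q' : Submodule R Q, Q'.FG → Module.length R Q' ≤ n) : Module.length R Q ≤ n := by
  rw [Module.length_eq_height]
  apply Order.height_le
  intro p _
  have hstep : ∀ i : Fin p.length, ∃ y : Q, y ∈ p i.succ ∧ y ∉ p i.castSucc := fun i =>
    SetLike.exists_of_lt (p.step i)
  choose y hy1 hy2 using hstep
  let Q' : Submodule R Q := Submodule.span R (Set.range y)
  have hQ' : Q'.FG := Submodule.fg_span (Set.finite_range y)
  let q : LTSeries (Submodule R Q') :=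
    { length := p.length
      toFun := fun i => (p i).comap Q'.subtype
      step := by
        intro i
        refine lt_of_le_of_ne (Submodule.comap_mono (p.step i).le) ?_
        intro heq
        have hmem : (⟨y i, Submodule.subset_span ⟨i, rfl⟩⟩ : Q') ∈ (p i.succ).comap Q'.subtype := by
          simpa using hy1 i
        rw [← heq] at hmem
        exact hy2 i (by simpa using hmem) }
  calc (p.length : ℕ∞) = q.length := rfl
    _ ≤ Order.height q.last := Order.length_le_height_last
    _ ≤ Order.height (⊤ : Submodule R Q') := Order.height_mono le_top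
    _ = Module.length R Q' := (Module.length_eq_height R Q').symm
    _ ≤ n := h Q' hQ'

end LemmaG

section Herbrand
variable {R : Type*} [CommRing R] {N M : Type*} [AddCommGroup N] [Module R N]
  [AddCommGroup M] [Module R M]

theorem range_lsmul (x : R) : LinearMap.range (LinearMap.lsmul R M x) = x • (⊤ : Submodule R M) := by
  ext m
  simp [Submodule.mem_smul_pointwise_iff_exists]

theorem length_quotient_smul_eq_of_injective (φ : N →ₗ[R] M) (hφ : Function.Injective φ) (x : R)
    (hx : ∀ m : M, x • m = 0 → m = 0)
    (hfin : Module.length R (M ⧸ LinearMap.range φ) ≠ ⊤) :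
    Module.length R (N ⧸ (x • ⊤ : Submodule R N)) =
      Module.length R (M ⧸ (x • ⊤ : Submodule R M)) := by
  have hx' : Function.Injective (LinearMap.lsmul R M x) := by
    rw [← LinearMap.ker_eq_bot, LinearMap.ker_eq_bot']
    intro m hm
    exact hx m (by simpa using hm)
  have h1 := length_quotient_map φ hφ (x • ⊤ : Submodule R N)
  have h2 := length_quotient_map (LinearMap.lsmul R M x) hx' (LinearMap.range φ)
  have e1 : (x • ⊤ : Submodule R N).map φ = (LinearMap.range φ).map (LinearMap.lsmul R M x) := by
    ext m
    simp only [Submodule.mem_map, Submodule.mem_smul_pointwise_iff_exists, Submodule.mem_top,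
      true_and, LinearMap.mem_range, exists_exists_eq_and, LinearMap.lsmul_apply]
    constructor
    · rintro ⟨n, rfl⟩
      exact ⟨n, by simp⟩
    · rintro ⟨n, rfl⟩
      exact ⟨n, by simp⟩
  rw [e1, h2, range_lsmul] at h1
  rw [add_comm] at h1
  exact (WithTop.add_right_cancel hfin h1).symm

end Herbrand



section Free
variable {R : Type*} [CommRing R]

theorem smul_top_pi (ι : Type*) [Fintype ι] (x : R) :
    (x • ⊤ : Submodule R (ι → R)) = Submodule.pi Set.univ (fun _ => Ideal.span {x}) := by
  ext f
  simp only [Submodule.mem_smul_pointwise_iff_exists, Submodule.mem_top, true_and,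
    Submodule.mem_pi, Set.mem_univ, forall_const, Ideal.mem_span_singleton']
  constructor
  · rintro ⟨g, rfl⟩ i
    exact ⟨g i, by simp [mul_comm]⟩
  · intro h
    choose g hg using h
    exact ⟨g, by ext i; simp [← hg i, mul_comm]⟩

theorem length_pi_quotient_smul (ι : Type*) [Fintype ι] (x : R) :
    Module.length R ((ι → R) ⧸ (x • ⊤ : Submodule R (ι → R))) =
      Fintype.card ι * Module.length R (R ⧸ Ideal.span {x}) := by
  classical
  rw [smul_top_pi]
  rw [(Submodule.quotientPi (fun _ : ι => (Ideal.span {x} : Submodule R R))).length_eq]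
  rw [Module.length_pi_of_fintype]
  simp

/-- A finitely generated module killed by a nonzero element over a one-dimensional Noetherian
domain has finite length. -/
theorem length_ne_top_of_finite_of_smul_eq_zero [IsDomain R] [IsNoetherianRing R]
    [Ring.KrullDimLE 1 R] (Q : Type*) [AddCommGroup Q] [Module R Q] [Module.Finite R Q]
    (d : R) (hd : d ≠ 0) (hdQ : ∀ q : Q, d • q = 0) : Module.length R Q ≠ ⊤ := by
  classical
  obtain ⟨t, ht⟩ := (Module.Finite.fg_top : (⊤ : Submodule R Q).FG)
  let ψ : (t → R) →ₗ[R] Q := Fintype.linearCombination R (Subtype.val : t → Q)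
  have hψ : Function.Surjective ψ := by
    rw [← LinearMap.range_eq_top, Fintype.range_linearCombination]
    simpa using ht
  have hker : (d • ⊤ : Submodule R (t → R)) ≤ LinearMap.ker ψ := by
    intro f hf
    obtain ⟨g, -, rfl⟩ := (Submodule.mem_smul_pointwise_iff_exists _ _ _).mp hf
    simp [hdQ]
  have hsurj : Function.Surjective ((d • ⊤ : Submodule R (t → R)).liftQ ψ hker) := by
    intro q
    obtain ⟨f, rfl⟩ := hψ q
    exact ⟨Submodule.Quotient.mk f, by simp⟩
  have h1 := Module.length_le_of_surjective _ hsurj
  rw [length_pi_quotient_smul] at h1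
  have h2 : Module.length R (R ⧸ Ideal.span {d}) ≠ ⊤ := by
    rw [Module.length_ne_top_iff]
    exact isFiniteLength_quotient_span_singleton R (mem_nonZeroDivisors_of_ne_zero hd)
  have h3 : (Fintype.card t : ℕ∞) * Module.length R (R ⧸ Ideal.span {d}) ≠ ⊤ :=
    WithTop.mul_ne_top (ENat.natCast_ne_top _) h2
  exact ne_top_of_le_ne_top h3 h1

end Free


section FG

/-- A finitely generated torsion module over a domain is killed by a nonzero element. -/
theorem exists_ne_zero_smul_eq_zero_of_rank_eq_zero {R : Type*} [CommRing R] [IsDomain R]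
    (Q : Type*) [AddCommGroup Q] [Module R Q]
    [Module.Finite R Q] (hQ : Module.rank R Q = 0) : ∃ d : R, d ≠ 0 ∧ ∀ q : Q, d • q = 0 := by
  classical
  rw [rank_eq_zero_iff] at hQ
  obtain ⟨t, ht⟩ := (Module.Finite.fg_top : (⊤ : Submodule R Q).FG)
  choose a ha1 ha2 using hQ
  refine ⟨∏ q ∈ t, a q, Finset.prod_ne_zero_iff.mpr fun q _ => ha1 q, ?_⟩
  intro q
  have hq : q ∈ Submodule.span R (t : Set Q) := by rw [ht]; trivial
  induction hq using Submodule.span_induction with
  | mem q hq =>
    rw [← Finset.mul_prod_erase t a hq, mul_comm, mul_smul, ha2, smul_zero]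
  | zero => simp
  | add x y _ _ hx hy => rw [smul_add, hx, hy, add_zero]
  | smul r x _ hx => rw [smul_comm, hx, smul_zero]

variable {R : Type*} [CommRing R] [IsDomain R] [IsNoetherianRing R] [Ring.KrullDimLE 1 R]

/-- **Krull–Akizuki, finitely generated case**: for a finitely generated module `M` on which
`x ≠ 0` acts injectively, `ℓ(M/xM) = rank(M) · ℓ(R/xR)`. -/
theorem length_quotient_smul_of_finite (M : Type*) [AddCommGroup M] [Module R M]
    [Module.Finite R M] (x : R) (hx : ∀ m : M, x • m = 0 → m = 0) :
    Module.length R (M ⧸ (x • ⊤ : Submodule R M)) =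
      Module.finrank R M * Module.length R (R ⧸ Ideal.span {x}) := by
  classical
  obtain ⟨s, hs, hli⟩ := exists_set_linearIndependent R M
  have hsfin : s.Finite := by
    rw [← Cardinal.lt_aleph0_iff_set_finite, hs]
    exact Module.rank_lt_aleph0 R M
  let _ : Fintype s := hsfin.fintype
  have hli' : LinearIndependent R (Subtype.val : s → M) := hli
  let φ : (s → R) →ₗ[R] M :=
    Finsupp.linearCombination R (Subtype.val : s → M) ∘ₗ
      (Finsupp.linearEquivFunOnFinite R R s).symm.toLinearMap
  have hφ : Function.Injective φ := by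
    have : Function.Injective (Finsupp.linearCombination R (Subtype.val : s → M)) := hli'
    exact this.comp (Finsupp.linearEquivFunOnFinite R R s).symm.injective
  have hrange : LinearMap.range φ = Submodule.span R s := by
    rw [LinearMap.range_comp_of_range_eq_top _ (LinearEquiv.range _), Finsupp.range_linearCombination]
    simp
  -- the quotient has rank zero
  have hrk : Module.rank R (M ⧸ LinearMap.range φ) = 0 := by
    have h1 := Submodule.rank_quotient_add_rank (LinearMap.range φ)
    have h2 : Module.rank R (LinearMap.range φ) = Module.rank R M := by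
      rw [hrange, rank_span_set hli, hs]
    rw [h2] at h1
    have h3 : Module.rank R (M ⧸ LinearMap.range φ) + Module.rank R M = 0 + Module.rank R M := by
      rw [h1, zero_add]
    exact Cardinal.eq_of_add_eq_add_right h3 (Module.rank_lt_aleph0 R M)
  obtain ⟨d, hd, hdQ⟩ := exists_ne_zero_smul_eq_zero_of_rank_eq_zero _ hrk
  have hfin := length_ne_top_of_finite_of_smul_eq_zero _ d hd hdQ
  rw [← length_quotient_smul_eq_of_injective φ hφ x hx hfin, length_pi_quotient_smul]
  congr 2
  rw [Module.finrank, ← hs]
  simp

end FG


section Main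
universe uV uN
variable {R : Type*} [CommRing R] [IsDomain R] [IsNoetherianRing R] [Ring.KrullDimLE 1 R]
  {K : Type*} [Field K] [Algebra R K] [IsFractionRing R K]
  {V : Type uV} [AddCommGroup V] [Module K V] [Module R V] [IsScalarTower R K V]

omit [IsDomain R] [IsNoetherianRing R] [Ring.KrullDimLE 1 R] in
include K in
theorem smul_injective_of_injective_to_vectorSpace {N : Type*} [AddCommGroup N] [Module R N]
    (ι : N →ₗ[R] V) (hι : Function.Injective ι) (x : R) (hx : x ≠ 0) (m : N)
    (hm : x • m = 0) : m = 0 := by
  apply hι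
  have h1 : ι (x • m) = 0 := by rw [hm, map_zero]
  rw [map_smul, ← algebraMap_smul K x (ι m)] at h1
  rw [map_zero]
  have hx' : algebraMap R K x ≠ 0 := by
    rwa [Ne, map_eq_zero_iff _ (IsFractionRing.injective R K)]
  exact (smul_eq_zero.mp h1).resolve_left hx'

/-- **Krull–Akizuki length bound**: if the `R`-module `N` embeds `R`-linearly in a `K`-vector space
of dimension `r`, then `ℓ(N/xN) ≤ r · ℓ(R/xR)` for all `x ≠ 0`. -/
theorem length_quotient_smul_le [FiniteDimensional K V]
    {N : Type uN} [AddCommGroup N] [Module R N] (ι : N →ₗ[R] V) (hι : Function.Injective ι)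
    (x : R) (hx : x ≠ 0) :
    Module.length R (N ⧸ (x • ⊤ : Submodule R N)) ≤
      Module.finrank K V * Module.length R (R ⧸ Ideal.span {x}) := by
  classical
  apply length_le_of_forall_fg
  intro Q' hQ'
  obtain ⟨t, ht⟩ := hQ'
  let mk := (x • ⊤ : Submodule R N).mkQ
  have hmk : Function.Surjective mk := Submodule.mkQ_surjective _
  let N' : Submodule R N := Submodule.span R ((t.image (Function.surjInv hmk) : Finset N) : Set N)
  have hN'fg : N'.FG := Submodule.fg_span (Finset.finite_toSet _)
  have : Module.Finite R N' := Module.Finite.iff_fg.mpr hN'fg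
  let h₀ : N' →ₗ[R] (N ⧸ (x • ⊤ : Submodule R N)) := mk ∘ₗ N'.subtype
  have hQ'eq : Q' = LinearMap.range h₀ := by
    rw [LinearMap.range_comp, Submodule.range_subtype, Submodule.map_span, ← ht, Finset.coe_image,
      Set.image_image]
    congr 1
    ext q
    simp [Function.surjInv_eq hmk]
  subst hQ'eq
  have hker : (x • ⊤ : Submodule R N') ≤ LinearMap.ker h₀.rangeRestrict := by
    intro f hf
    obtain ⟨g, -, rfl⟩ := (Submodule.mem_smul_pointwise_iff_exists _ _ _).mp hf
    rw [LinearMap.mem_ker, map_smul]
    ext
    simp only [LinearMap.codRestrict_apply, Submodule.coe_smul, Submodule.coe_zero,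
      LinearMap.rangeRestrict]
    simp only [h₀, LinearMap.comp_apply, Submodule.subtype_apply, mk, Submodule.mkQ_apply]
    rw [← Submodule.Quotient.mk_smul, Submodule.Quotient.mk_eq_zero]
    exact Submodule.smul_mem_pointwise_smul _ _ _ trivial
  have hsurj : Function.Surjective ((x • ⊤ : Submodule R N').liftQ h₀.rangeRestrict hker) := by
    intro q
    obtain ⟨f, rfl⟩ := LinearMap.surjective_rangeRestrict h₀ q
    exact ⟨Submodule.Quotient.mk f, by simp⟩
  refine (Module.length_le_of_surjective _ hsurj).trans ?_
  have hinj : Function.Injective (ι ∘ₗ N'.subtype) := hι.comp N'.subtype_injective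
  rw [length_quotient_smul_of_finite N' x
    (smul_injective_of_injective_to_vectorSpace (K := K) _ hinj x hx)]
  gcongr
  have h1 : Cardinal.lift.{uV} (Module.rank R N') ≤ Cardinal.lift.{uN} (Module.rank K V) := by
    rw [IsFractionRing.rank_right_eq (S := K) R V]
    exact LinearMap.lift_rank_le_of_injective _ hinj
  have h2 := Cardinal.toNat_le_toNat h1 (by simpa using Module.rank_lt_aleph0 K V)
  simpa [Module.finrank] using h2

end Main


section Corollaries
variable {R : Type*} [CommRing R] [IsDomain R] [IsNoetherianRing R]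
  {K : Type*} [Field K] [Algebra R K] [IsFractionRing R K]

omit [IsDomain R] [IsNoetherianRing R] in
theorem krullDimLE_one_of_eq (hdim : ringKrullDim R = 1) : Ring.KrullDimLE 1 R := by
  rw [Ring.krullDimLE_iff, hdim]; rfl

/-- `ℓ(R/xR) < ∞`. -/
theorem length_quotient_span_singleton_ne_top [Ring.KrullDimLE 1 R] (x : R) (hx : x ≠ 0) :
    Module.length R (R ⧸ Ideal.span {x}) ≠ ⊤ := by
  rw [Module.length_ne_top_iff]
  exact isFiniteLength_quotient_span_singleton R (mem_nonZeroDivisors_of_ne_zero hx)

/-- The form used by the statements: quotient by `Ideal.span {x} • ⊤`. -/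
theorem length_quotient_span_smul_le [Ring.KrullDimLE 1 R]
    {V : Type*} [AddCommGroup V] [Module K V] [Module R V] [IsScalarTower R K V]
    [FiniteDimensional K V]
    {N : Type*} [AddCommGroup N] [Module R N] (ι : N →ₗ[R] V) (hι : Function.Injective ι)
    (x : R) (hx : x ≠ 0) :
    Module.length R (N ⧸ (Ideal.span {x} • ⊤ : Submodule R N)) ≤
      Module.finrank K V * Module.length R (R ⧸ Ideal.span {x}) := by
  rw [Submodule.ideal_span_singleton_smul]
  exact length_quotient_smul_le ι hι x hx

theorem length_quotient_span_smul_ne_top [Ring.KrullDimLE 1 R]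
    {V : Type*} [AddCommGroup V] [Module K V] [Module R V] [IsScalarTower R K V]
    [FiniteDimensional K V]
    {N : Type*} [AddCommGroup N] [Module R N] (ι : N →ₗ[R] V) (hι : Function.Injective ι)
    (x : R) (hx : x ≠ 0) :
    Module.length R (N ⧸ (Ideal.span {x} • ⊤ : Submodule R N)) ≠ ⊤ :=
  ne_top_of_le_ne_top
    (WithTop.mul_ne_top (ENat.natCast_ne_top _) (length_quotient_span_singleton_ne_top x hx))
    (length_quotient_span_smul_le (K := K) ι hι x hx)

end Corollaries



section Between
variable (R : Type*) [CommRing R] [IsDomain R] [IsNoetherianRing R] [Ring.KrullDimLE 1 R]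
  (K : Type*) [Field K] [Algebra R K] [IsFractionRing R K]
  {L : Type*} [Field L] [Algebra K L] [FiniteDimensional K L] [Algebra R L] [IsScalarTower R K L]
  {A : Type*} [CommRing A] [Algebra R A] [Algebra A L] [IsScalarTower R A L]

omit [IsNoetherianRing R] [Ring.KrullDimLE 1 R] in
include K in
theorem exists_ne_zero_algebraMap_mem (hA : Function.Injective (algebraMap A L))
    (I : Ideal A) (hI : I ≠ ⊥) : ∃ x : R, x ≠ 0 ∧ algebraMap R A x ∈ I := by
  have : IsDomain A := hA.isDomain
  obtain ⟨b, hbI, hb0⟩ := Submodule.exists_mem_ne_zero_of_ne_bot hI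
  have halg : IsAlgebraic R b := by
    rw [← isAlgebraic_algebraMap_iff hA, IsFractionRing.isAlgebraic_iff R K L]
    exact IsAlgebraic.of_finite K _
  have h := Ideal.comap_ne_bot_of_algebraic_mem hb0 hbI halg
  obtain ⟨x, hxI, hx0⟩ := Submodule.exists_mem_ne_zero_of_ne_bot h
  exact ⟨x, hx0, hxI⟩

include K in
/-- **Krull–Akizuki**: quotients of an intermediate ring by nonzero ideals have finite length
over the base. -/
theorem length_quotient_ideal_ne_top (hA : Function.Injective (algebraMap A L))
    (I : Ideal A) (hI : I ≠ ⊥) : Module.length R (A ⧸ I) ≠ ⊤ := by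
  obtain ⟨x, hx0, hxI⟩ := exists_ne_zero_algebraMap_mem R K hA I hI
  let ι : A →ₗ[R] L := (IsScalarTower.toAlgHom R A L).toLinearMap
  have hι : Function.Injective ι := hA
  have h1 := length_quotient_span_smul_ne_top (K := K) ι hι x hx0
  rw [Submodule.ideal_span_singleton_smul] at h1
  have hker : (x • ⊤ : Submodule R A) ≤ LinearMap.ker (I.mkQ.restrictScalars R) := by
    intro f hf
    obtain ⟨g, -, rfl⟩ := (Submodule.mem_smul_pointwise_iff_exists _ _ _).mp hf
    simp only [LinearMap.mem_ker, LinearMap.coe_restrictScalars, Submodule.mkQ_apply,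
      Submodule.Quotient.mk_eq_zero]
    rw [Algebra.smul_def]
    exact I.mul_mem_right _ hxI
  have hsurj : Function.Surjective ((x • ⊤ : Submodule R A).liftQ (I.mkQ.restrictScalars R) hker) := by
    intro q
    obtain ⟨f, rfl⟩ := Submodule.mkQ_surjective I q
    exact ⟨Submodule.Quotient.mk f, by simp⟩
  exact ne_top_of_le_ne_top h1 (Module.length_le_of_surjective _ hsurj)

include R K in
theorem isNoetherian_quotient_ideal (hA : Function.Injective (algebraMap A L))
    (I : Ideal A) (hI : I ≠ ⊥) : IsNoetherian A (A ⧸ I) := by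
  have h := length_quotient_ideal_ne_top R K hA I hI
  rw [Module.length_ne_top_iff, isFiniteLength_iff_isNoetherian_isArtinian] at h
  exact isNoetherian_of_tower R h.1

include R K in
theorem isArtinian_quotient_ideal (hA : Function.Injective (algebraMap A L))
    (I : Ideal A) (hI : I ≠ ⊥) : IsArtinian A (A ⧸ I) := by
  have h := length_quotient_ideal_ne_top R K hA I hI
  rw [Module.length_ne_top_iff, isFiniteLength_iff_isNoetherian_isArtinian] at h
  exact isArtinian_of_tower R h.2

include R K in
/-- **Krull–Akizuki**: a ring between a one-dimensional Noetherian domain and a finite extension of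
its fraction field is Noetherian. -/
theorem isNoetherianRing_of_between (hA : Function.Injective (algebraMap A L)) :
    IsNoetherianRing A := by
  rw [isNoetherianRing_iff_ideal_fg]
  intro I
  by_cases hI : I = ⊥
  · rw [hI]; exact Submodule.fg_bot
  obtain ⟨x, hx0, hxI⟩ := exists_ne_zero_algebraMap_mem R K hA I hI
  let a := algebraMap R A x
  have ha0 : a ≠ 0 := by
    intro h
    have h2 : algebraMap R L x = 0 := by
      rw [IsScalarTower.algebraMap_apply R A L]; change algebraMap A L a = 0; rw [h, map_zero]
    rw [IsScalarTower.algebraMap_apply R K L, map_eq_zero, map_eq_zero_iff _ (IsFractionRing.injective R K)] at h2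
    exact hx0 h2
  have hJ : (Ideal.span {a} : Ideal A) ≠ ⊥ := by
    rw [Ne, Ideal.span_singleton_eq_bot]; exact ha0
  have := isNoetherian_quotient_ideal R K hA _ hJ
  apply Submodule.fg_of_fg_map_of_fg_inf_ker (Ideal.span {a} : Ideal A).mkQ
  · exact IsNoetherian.noetherian _
  · rw [Submodule.ker_mkQ]
    have : I ⊓ Ideal.span {a} = Ideal.span {a} := by
      rw [inf_eq_right, Ideal.span_singleton_le_iff_mem]; exact hxI
    rw [this]
    exact ⟨{a}, by simp⟩

include R K in
/-- **Krull–Akizuki**: a ring between a one-dimensional Noetherian domain and a finite extension of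
its fraction field has dimension at most one. -/
theorem krullDimLE_one_of_between (hA : Function.Injective (algebraMap A L)) :
    Ring.KrullDimLE 1 A := by
  have : IsDomain A := hA.isDomain
  rw [Ring.krullDimLE_one_iff_of_noZeroDivisors]
  intro P hP0 hP
  have h1 := isArtinian_quotient_ideal R K hA P hP0
  have h2 : IsArtinianRing (A ⧸ P) := isArtinian_of_tower A h1
  exact Ideal.Quotient.maximal_of_isField _ (IsArtinianRing.isField_of_isDomain _)

end Between




section Between2
variable (R : Type*) [CommRing R] [IsDomain R] [IsNoetherianRing R] [Ring.KrullDimLE 1 R]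
  (K : Type*) [Field K] [Algebra R K] [IsFractionRing R K]
  {L : Type*} [Field L] [Algebra K L] [FiniteDimensional K L] [Algebra R L] [IsScalarTower R K L]
  {A : Type*} [CommRing A] [Algebra R A] [Algebra A L] [IsScalarTower R A L]

include K in
theorem finite_quotient_ideal (hA : Function.Injective (algebraMap A L))
    (I : Ideal A) (hI : I ≠ ⊥) : Module.Finite R (A ⧸ I) := by
  have h := length_quotient_ideal_ne_top R K hA I hI
  rw [Module.length_ne_top_iff, isFiniteLength_iff_isNoetherian_isArtinian] at h
  have := h.1
  infer_instance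

include R K in
theorem isArtinianRing_quotient_ideal (hA : Function.Injective (algebraMap A L))
    (I : Ideal A) (hI : I ≠ ⊥) : IsArtinianRing (A ⧸ I) :=
  isArtinian_of_tower A (isArtinian_quotient_ideal R K hA I hI)

include R K in
/-- Only finitely many primes contain a given nonzero ideal of an intermediate ring. -/
theorem finite_primes_ge (hA : Function.Injective (algebraMap A L))
    (I : Ideal A) (hI : I ≠ ⊥) : {P : Ideal A | P.IsPrime ∧ I ≤ P}.Finite := by
  have := isArtinianRing_quotient_ideal R K hA I hI
  have hfin : (Set.univ : Set (PrimeSpectrum (A ⧸ I))).Finite := Set.finite_univ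
  refine (hfin.image (fun Q => Q.asIdeal.comap (Ideal.Quotient.mk I))).subset ?_
  rintro P ⟨hP, hIP⟩
  refine ⟨⟨P.map (Ideal.Quotient.mk I), ?_⟩, trivial, ?_⟩
  · exact Ideal.map_isPrime_of_surjective Ideal.Quotient.mk_surjective (by simpa using hIP)
  · simp only
    rw [Ideal.comap_map_of_surjective _ Ideal.Quotient.mk_surjective, ← RingHom.ker_eq_comap_bot,
      Ideal.mk_ker]
    simpa using hIP

end Between2


end Groth.Agent.Lib.Helper39.KA
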