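import Mathlib
import Groth.Agent.Lib.Helper39.KrullAkizuki

namespace Groth.Agent.Lib.Helper39.KA

open IsLocalRing

/-- A local ring mapping to a field `K`: some valuation subring of `K` contains the image, and the
image of the maximal ideal consists of nonunits. -/
theorem exists_valuationSubring_dominating {R K : Type*} [CommRing R] [IsLocalRing R] [Field K]
    (f : R →+* K) :
    ∃ V : ValuationSubring K, (∀ a, f a ∈ V) ∧ ∀ a ∈ maximalIdeal R, f a ∈ V.nonunits := by
  let A : Subring K := f.range
  let I : Ideal A := (maximalIdeal R).map f.rangeRestrict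
  have hI : I ≠ ⊤ := by
    intro h
    have h1 := Ideal.comap_map_of_surjective f.rangeRestrict f.rangeRestrict_surjective
      (maximalIdeal R)
    rw [show Ideal.map f.rangeRestrict (maximalIdeal R) = ⊤ from h, Ideal.comap_top] at h1
    have hker : Ideal.comap f.rangeRestrict ⊥ ≤ maximalIdeal R := by
      apply IsLocalRing.le_maximalIdeal
      rw [Ne, Ideal.eq_top_iff_one, Ideal.mem_comap, Ideal.mem_bot, map_one]
      exact one_ne_zero
    rw [sup_eq_left.mpr hker] at h1
    exact (maximalIdeal.isMaximal R).ne_top h1.symm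
  obtain ⟨V, hAV, hV⟩ := Ideal.image_subset_nonunits_valuationSubring I hI
  refine ⟨V, fun a => hAV ⟨a, rfl⟩, fun a ha => ?_⟩
  apply hV
  exact ⟨f.rangeRestrict a, Ideal.mem_map_of_mem _ ha, rfl⟩

/-- Stacks 00PH: a Noetherian local domain which is not a field is dominated by a one-dimensional
Noetherian local ring, essentially of finite type, inside its fraction field. -/
theorem exists_dimOne_dominating (R K : Type*) [CommRing R] [IsDomain R] [IsNoetherianRing R]
    [IsLocalRing R] [Field K] [Algebra R K] [IsFractionRing R K] (hR : ¬ IsField R) :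
    ∃ R' : Subalgebra R K, ∃ _ : IsLocalRing R',
      IsNoetherianRing R' ∧ ringKrullDim R' = 1 ∧ IsLocalHom (algebraMap R R') ∧
        Algebra.EssFiniteType R R' := by
  classical
  have hinj : Function.Injective (algebraMap R K) := IsFractionRing.injective R K
  -- generators of the maximal ideal
  obtain ⟨G, hG⟩ := (isNoetherianRing_iff_ideal_fg R).mp inferInstance (maximalIdeal R)
  have hm0 : maximalIdeal R ≠ ⊥ := fun h => hR (IsLocalRing.isField_iff_maximalIdeal_eq.mpr h)
  let G' : Finset R := G.filter (· ≠ 0)
  have hG' : Ideal.span (G' : Set R) = maximalIdeal R := by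
    rw [← hG]
    apply le_antisymm
    · apply Ideal.span_mono
      intro x hx
      exact (Finset.mem_filter.mp hx).1
    · rw [Ideal.span_le]
      intro x hx
      by_cases hx0 : x = 0
      · rw [hx0]; exact Ideal.zero_mem _
      · exact Ideal.subset_span (Finset.mem_filter.mpr ⟨hx, hx0⟩)
  have hG'ne : G'.Nonempty := by
    rw [Finset.nonempty_iff_ne_empty]
    intro h
    rw [h] at hG'
    simp at hG'
    exact hm0 hG'.symm
  -- a dominating valuation ring
  obtain ⟨V, hV1, hV2⟩ := exists_valuationSubring_dominating (algebraMap R K)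
  obtain ⟨g₀, hg₀, hmax⟩ := Finset.exists_max_image G' (fun g => V.valuation (algebraMap R K g)) hG'ne
  have hg₀0 : g₀ ≠ 0 := (Finset.mem_filter.mp hg₀).2
  have hg₀K : algebraMap R K g₀ ≠ 0 := fun h => hg₀0 (hinj (by rw [h, map_zero]))
  have hg₀m : g₀ ∈ maximalIdeal R := by rw [← hG']; exact Ideal.subset_span hg₀
  let φ : R → K := fun g => algebraMap R K g / algebraMap R K g₀
  have hφV : ∀ g ∈ G', φ g ∈ V := by
    intro g hg
    rw [← V.valuation_le_one_iff]
    simp only [φ, map_div₀]
    exact div_le_one_of_le₀ (hmax g hg) zero_le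
  -- the chart
  let S : Subalgebra R K := Algebra.adjoin R ((G'.image φ : Finset K) : Set K)
  have hSV : ∀ z ∈ S, z ∈ V := by
    intro z hz
    induction hz using Algebra.adjoin_induction with
    | mem x hx =>
      obtain ⟨g, hg, rfl⟩ := Finset.mem_image.mp hx
      exact hφV g hg
    | algebraMap r => exact hV1 r
    | add x y _ _ hx hy => exact V.add_mem _ _ hx hy
    | mul x y _ _ hx hy => exact V.mul_mem _ _ hx hy
  have hSfg : S.FG := Subalgebra.fg_adjoin_finset _
  have hSft : Algebra.FiniteType R S := (Subalgebra.fg_iff_finiteType S).mp hSfg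
  have hSnoeth : IsNoetherianRing S := Algebra.FiniteType.isNoetherianRing R S
  let xr : S := algebraMap R S g₀
  have hxr0 : xr ≠ 0 := by
    intro h
    apply hg₀K
    have := congrArg (algebraMap S K) h
    simpa [xr] using this
  -- the images of the generators are multiples of `xr`
  have hmul : ∀ g ∈ G', algebraMap R S g ∈ Ideal.span {xr} := by
    intro g hg
    rw [Ideal.mem_span_singleton']
    refine ⟨⟨φ g, Algebra.subset_adjoin (Finset.mem_coe.mpr (Finset.mem_image_of_mem φ hg))⟩, ?_⟩
    apply Subtype.ext
    change φ g * algebraMap R K g₀ = algebraMap R K g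
    simp only [φ]
    field_simp
  have hmS : (maximalIdeal R).map (algebraMap R S) ≤ Ideal.span {xr} := by
    rw [← hG', Ideal.map_span, Ideal.span_le]
    rintro _ ⟨g, hg, rfl⟩
    exact hmul g hg
  have hxr_top : Ideal.span {xr} ≠ ⊤ := by
    intro h
    rw [Ideal.span_singleton_eq_top] at h
    obtain ⟨s, hs⟩ := isUnit_iff_exists_inv.mp h
    have h1 : algebraMap R K g₀ * (s : K) = 1 := congrArg Subtype.val hs
    have h2 := hV2 g₀ hg₀m
    rw [ValuationSubring.mem_nonunits_iff] at h2
    have h3 : V.valuation (s : K) ≤ 1 := (V.valuation_le_one_iff _).mpr (hSV _ s.2)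
    have h4 : V.valuation (algebraMap R K g₀ * (s : K)) < 1 := by
      rw [map_mul]
      calc _ ≤ V.valuation (algebraMap R K g₀) * 1 := by gcongr
        _ = _ := mul_one _
        _ < 1 := h2
    rw [h1, map_one] at h4
    exact lt_irrefl _ h4
  obtain ⟨q, hq⟩ := Ideal.nonempty_minimalPrimes hxr_top
  have hqprime : q.IsPrime := hq.isPrime
  have hxrq : xr ∈ q := hq.1.2 (Ideal.mem_span_singleton_self xr)
  have hqh : q.height = 1 := by
    apply le_antisymm
    · exact Ideal.height_le_one_of_isPrincipal_of_mem_minimalPrimes (Ideal.span {xr}) q hq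
    · rw [Order.one_le_iff_pos, pos_iff_ne_zero, Ne, Ideal.height_eq_zero_iff_eq_bot]
      intro h
      rw [h] at hxrq
      exact hxr0 hxrq
  have hqm : ∀ a ∈ maximalIdeal R, algebraMap R S a ∈ q := fun a ha =>
    hq.1.2 (hmS (Ideal.mem_map_of_mem _ ha))
  -- localize
  have hqnzd : q.primeCompl ≤ nonZeroDivisors S := by
    intro s hs
    rw [mem_nonZeroDivisors_iff_ne_zero]
    rintro rfl
    exact hs q.zero_mem
  let T : Subalgebra S K := Localization.subalgebra.ofField K q.primeCompl hqnzd
  have hTloc : IsLocalization.AtPrime T q := Localization.subalgebra.isLocalization_ofField K q.primeCompl hqnzd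
  have hTlocal : IsLocalRing T := IsLocalization.AtPrime.isLocalRing T q
  have hTnoeth : IsNoetherianRing T := IsLocalization.isNoetherianRing q.primeCompl T hSnoeth
  have hTdim : ringKrullDim T = 1 := by
    rw [IsLocalization.AtPrime.ringKrullDim_eq_height q T, hqh]; rfl
  have hTess : Algebra.EssFiniteType R T := by
    have : Algebra.EssFiniteType S T := Algebra.EssFiniteType.of_isLocalization T q.primeCompl
    exact Algebra.EssFiniteType.comp R S T
  have hTlh : IsLocalHom (algebraMap R T) := by
    constructor
    intro a ha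
    by_contra hna
    have ham : a ∈ maximalIdeal R := hna
    have h1 := hqm a ham
    have h2 : algebraMap S T (algebraMap R S a) ∈ maximalIdeal T :=
      (IsLocalization.AtPrime.to_map_mem_maximal_iff T q _).mpr h1
    exact h2 ha
  refine ⟨T.restrictScalars R, hTlocal, hTnoeth, hTdim, hTlh, hTess⟩

end Groth.Agent.Lib.Helper39.KA
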