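import Mathlib
import Groth.Agent.Lib.Helper39.KrullAkizuki
import Groth.Agent.Lib.Helper39.DimOneDVR
import Groth.Agent.Lib.Helper39.DimOneDominate

/-
Helper39 library: existence of discrete valuation rings dominating a Noetherian local domain
(EGA II 7.1.7 / Stacks 00PH).
-/

namespace Groth.Agent.Lib.Helper39.KA

open IsLocalRing

/-- A Noetherian local domain which is not a field is dominated by a discrete valuation ring of its
fraction field. -/
theorem exists_dvr_dominating (R L : Type*) [CommRing R] [IsDomain R] [IsNoetherianRing R]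
    [IsLocalRing R] [Field L] [Algebra R L] [IsFractionRing R L] (hR : ¬ IsField R) :
    ∃ V : ValuationSubring L, IsDiscreteValuationRing V ∧ (∀ a, algebraMap R L a ∈ V) ∧
      ∀ a ∈ maximalIdeal R, V.valuation (algebraMap R L a) < 1 := by
  obtain ⟨R', hloc, hnoeth, hdim, hlh, -⟩ := exists_dimOne_dominating R L hR
  have hinjR : Function.Injective (algebraMap R L) := IsFractionRing.injective R L
  have hdim1 : Ring.KrullDimLE 1 R' := by
    rw [Ring.krullDimLE_iff, hdim]; rfl
  obtain ⟨V, hV1, hV2⟩ := exists_valuationSubring_dominating (algebraMap R' L)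
  -- a nonzero element of the maximal ideal
  have hm0 : maximalIdeal R ≠ ⊥ := fun h => hR (IsLocalRing.isField_iff_maximalIdeal_eq.mpr h)
  obtain ⟨x, hxm, hx0⟩ := Submodule.exists_mem_ne_zero_of_ne_bot hm0
  have hdom : ∀ a ∈ maximalIdeal R, algebraMap R L a ∈ V.nonunits := by
    intro a ha
    have h1 : algebraMap R R' a ∈ maximalIdeal R' := by
      intro hu
      exact ha (hlh.map_nonunit a hu)
    exact hV2 _ h1
  have hVtop : V ≠ ⊤ := by
    intro h
    have h1 := hdom x hxm
    rw [ValuationSubring.mem_nonunits_iff_or] at h1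
    rcases h1 with h1 | h1
    · exact hx0 (hinjR (by rw [h1, map_zero]))
    · apply h1; rw [h]; trivial
  -- `V` is Noetherian by Krull–Akizuki
  let ι : R' →+* V :=
    { toFun := fun r => ⟨r.1, hV1 r⟩
      map_one' := rfl
      map_mul' := fun _ _ => rfl
      map_zero' := rfl
      map_add' := fun _ _ => rfl }
  let _ : Algebra R' V := ι.toAlgebra
  have : IsScalarTower R' V L := IsScalarTower.of_algebraMap_eq (fun x => rfl)
  have hinj : Function.Injective (algebraMap V L) := Subtype.val_injective
  have hVnoeth : IsNoetherianRing V := isNoetherianRing_of_between R' L hinj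
  have hVdvr : IsDiscreteValuationRing V :=
    ((IsDiscreteValuationRing.TFAE V (valuationSubring_not_isField hVtop)).out 0 1).mpr
      (inferInstance : ValuationRing V)
  refine ⟨V, hVdvr, fun a => hV1 (algebraMap R R' a), fun a ha => ?_⟩
  exact (ValuationSubring.mem_nonunits_iff (A := V)).mp (hdom a ha)

/-- A subalgebra `B ⊆ L` (over a domain `A` with fraction field `K ⊆ L`) containing, up to
inversion, a set of field generators of `L/K` has fraction field `L`. -/
theorem isFractionRing_of_adjoin_eq_top (A K L : Type*) [CommRing A] [Field K] [Algebra A K]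
    [IsFractionRing A K] [Field L] [Algebra K L] [Algebra A L] [IsScalarTower A K L]
    (B : Subalgebra A L) (s : Set L) (hs : IntermediateField.adjoin K s = ⊤)
    (hsB : ∀ y ∈ s, y ∈ B ∨ y⁻¹ ∈ B) : IsFractionRing B L := by
  have hinj : Function.Injective (algebraMap B L) := Subtype.val_injective
  have : FaithfulSMul B L := (faithfulSMul_iff_algebraMap_injective B L).mpr hinj
  apply IsFractionRing.of_field
  -- the subfield of fractions
  let F : Subfield L :=
    { carrier := {z | ∃ x y : B, y ≠ 0 ∧ z = (x : L) / (y : L)}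
      one_mem' := ⟨1, 1, one_ne_zero, by simp⟩
      zero_mem' := ⟨0, 1, one_ne_zero, by simp⟩
      mul_mem' := by
        rintro _ _ ⟨x, y, hy, rfl⟩ ⟨x', y', hy', rfl⟩
        refine ⟨x * x', y * y', mul_ne_zero hy hy', ?_⟩
        push_cast
        rw [div_mul_div_comm]
      add_mem' := by
        rintro _ _ ⟨x, y, hy, rfl⟩ ⟨x', y', hy', rfl⟩
        refine ⟨x * y' + x' * y, y * y', mul_ne_zero hy hy', ?_⟩
        have h1 : (y : L) ≠ 0 := fun h => hy (Subtype.ext h)
        have h2 : (y' : L) ≠ 0 := fun h => hy' (Subtype.ext h)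
        push_cast
        field_simp
      neg_mem' := by
        rintro _ ⟨x, y, hy, rfl⟩
        refine ⟨-x, y, hy, ?_⟩
        push_cast
        rw [neg_div]
      inv_mem' := by
        rintro _ ⟨x, y, hy, rfl⟩
        by_cases hx : x = 0
        · refine ⟨0, 1, one_ne_zero, ?_⟩
          simp [hx]
        · refine ⟨y, x, hx, ?_⟩
          rw [inv_div] }
  have hBF : ∀ b : B, (b : L) ∈ F := fun b => ⟨b, 1, one_ne_zero, by simp⟩
  have hKF : ∀ k : K, algebraMap K L k ∈ F := by
    intro k
    obtain ⟨a, b, hb, rfl⟩ := IsFractionRing.div_surjective (A := A) k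
    rw [map_div₀, ← IsScalarTower.algebraMap_apply, ← IsScalarTower.algebraMap_apply]
    exact F.div_mem (hBF (algebraMap A B a)) (hBF (algebraMap A B b))
  let F' : IntermediateField K L := F.toIntermediateField hKF
  have hF' : F' = ⊤ := by
    rw [eq_top_iff, ← hs, IntermediateField.adjoin_le_iff]
    intro y hy
    rcases hsB y hy with h | h
    · exact hBF ⟨y, h⟩
    · have := F.inv_mem (hBF ⟨y⁻¹, h⟩)
      rwa [inv_inv] at this
  intro z
  have hz : z ∈ F' := by rw [hF']; trivial
  obtain ⟨x, y, -, h⟩ := hz
  exact ⟨x, y, h⟩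

/-- A Noetherian local domain, not a field, is dominated by a discrete valuation ring of any
finitely generated extension of its fraction field. -/
theorem exists_dvr_dominating_of_fg (A K L : Type*) [CommRing A] [IsDomain A] [IsNoetherianRing A]
    [IsLocalRing A] (hA : ¬ IsField A) [Field K] [Algebra A K] [IsFractionRing A K]
    [Field L] [Algebra K L] [Algebra A L] [IsScalarTower A K L]
    (hfg : (⊤ : IntermediateField K L).FG) :
    ∃ R : ValuationSubring L, IsDiscreteValuationRing R ∧ (∀ a : A, algebraMap A L a ∈ R) ∧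
      ∀ a ∈ maximalIdeal A, R.valuation (algebraMap A L a) < 1 := by
  classical
  have hinjAL : Function.Injective (algebraMap A L) := by
    rw [IsScalarTower.algebraMap_eq A K L]
    exact (algebraMap K L).injective.comp (IsFractionRing.injective A K)
  obtain ⟨V₀, hV₀1, hV₀2⟩ := exists_valuationSubring_dominating (algebraMap A L)
  obtain ⟨s, hs⟩ := hfg
  let ψ : L → L := fun y => if y ∈ V₀ then y else y⁻¹
  have hψ : ∀ y, ψ y ∈ V₀ := by
    intro y
    simp only [ψ]
    split_ifs with h
    · exact h
    · exact (V₀.mem_or_inv_mem y).resolve_left h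
  let B : Subalgebra A L := Algebra.adjoin A ((s.image ψ : Finset L) : Set L)
  have hBV : ∀ z ∈ B, z ∈ V₀ := by
    intro z hz
    induction hz using Algebra.adjoin_induction with
    | mem x hx =>
      obtain ⟨g, -, rfl⟩ := Finset.mem_image.mp hx
      exact hψ g
    | algebraMap r => exact hV₀1 r
    | add x y _ _ hx hy => exact V₀.add_mem _ _ hx hy
    | mul x y _ _ hx hy => exact V₀.mul_mem _ _ hx hy
  have hBft : Algebra.FiniteType A B :=
    (Subalgebra.fg_iff_finiteType B).mp (Subalgebra.fg_adjoin_finset _)
  have hBnoeth : IsNoetherianRing B := Algebra.FiniteType.isNoetherianRing A B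
  have hBfrac : IsFractionRing B L := by
    refine isFractionRing_of_adjoin_eq_top A K L B (s : Set L) hs ?_
    intro y hy
    have hmem : ψ y ∈ B :=
      Algebra.subset_adjoin (Finset.mem_coe.mpr (Finset.mem_image_of_mem ψ hy))
    simp only [ψ] at hmem
    split_ifs at hmem with h
    · exact Or.inl hmem
    · exact Or.inr hmem
  -- the centre of `V₀` on `B`
  let ι : B →+* V₀ :=
    { toFun := fun b => ⟨b.1, hBV b.1 b.2⟩
      map_one' := rfl
      map_mul' := fun _ _ => rfl
      map_zero' := rfl
      map_add' := fun _ _ => rfl }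
  let q : Ideal B := (maximalIdeal V₀).comap ι
  have hqprime : q.IsPrime := Ideal.comap_isPrime ι _
  have hqm : ∀ a ∈ maximalIdeal A, algebraMap A B a ∈ q := by
    intro a ha
    have h1 := hV₀2 a ha
    rw [ValuationSubring.mem_nonunits_iff_exists_mem_maximalIdeal] at h1
    obtain ⟨h2, h3⟩ := h1
    exact h3
  have hqnzd : q.primeCompl ≤ nonZeroDivisors B := by
    intro b hb
    have : IsDomain B := inferInstance
    rw [mem_nonZeroDivisors_iff_ne_zero]
    rintro rfl
    exact hb q.zero_mem
  let T : Subalgebra B L := Localization.subalgebra.ofField L q.primeCompl hqnzd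
  have hTloc : IsLocalization.AtPrime T q :=
    Localization.subalgebra.isLocalization_ofField L q.primeCompl hqnzd
  have hTlocal : IsLocalRing T := IsLocalization.AtPrime.isLocalRing T q
  have hTnoeth : IsNoetherianRing T := IsLocalization.isNoetherianRing q.primeCompl T hBnoeth
  have hTfrac : IsFractionRing T L := inferInstance
  -- a nonzero element of the maximal ideal of `A`
  have hm0 : maximalIdeal A ≠ ⊥ := fun h => hA (IsLocalRing.isField_iff_maximalIdeal_eq.mpr h)
  obtain ⟨x, hxm, hx0⟩ := Submodule.exists_mem_ne_zero_of_ne_bot hm0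
  have hmT : ∀ a ∈ maximalIdeal A, algebraMap B T (algebraMap A B a) ∈ maximalIdeal T :=
    fun a ha => (IsLocalization.AtPrime.to_map_mem_maximal_iff T q _).mpr (hqm a ha)
  have hTnf : ¬ IsField T := by
    intro hf
    have h1 := hmT x hxm
    rw [IsLocalRing.isField_iff_maximalIdeal_eq.mp hf, Ideal.mem_bot] at h1
    apply hx0
    apply hinjAL
    rw [map_zero]
    exact congrArg (algebraMap T L) h1
  obtain ⟨V, hVdvr, hV1, hV2⟩ := exists_dvr_dominating T L hTnf
  refine ⟨V, hVdvr, fun a => hV1 (algebraMap B T (algebraMap A B a)), fun a ha => ?_⟩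
  exact hV2 _ (hmT a ha)

end Groth.Agent.Lib.Helper39.KA
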