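import Mathlib
import Groth.Agent.Lib.Helper39.DVRDominate

/-
Helper39 library: refining valuation rings to discrete ones; integral closure as an intersection
of discrete valuation rings (EGA II 7.1.7).
-/

namespace Groth.Agent.Lib.Helper39.KA

open IsLocalRing Polynomial

/-- A subalgebra `B ⊆ L` containing, up to inversion, a set `s` such that `L` is generated as a
field by the image of `A` and `s`, has fraction field `L`. -/
theorem isFractionRing_of_closure_eq_top (A L : Type*) [CommRing A] [Field L] [Algebra A L]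
    (B : Subalgebra A L) (s : Set L)
    (hs : Subfield.closure (Set.range (algebraMap A L) ∪ s) = ⊤)
    (hsB : ∀ y ∈ s, y ∈ B ∨ y⁻¹ ∈ B) : IsFractionRing B L := by
  have hinj : Function.Injective (algebraMap B L) := Subtype.val_injective
  have : FaithfulSMul B L := (faithfulSMul_iff_algebraMap_injective B L).mpr hinj
  apply IsFractionRing.of_field
  let F : Subfield L :=
    { carrier := {z | ∃ x y : B, y ≠ 0 ∧ z = (x : L) / (y : L)}
      one_mem' := ⟨1, 1, one_ne_zero, by simp⟩
      zero_mem' := ⟨0, 1, one_ne_zero, by simp⟩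
      mul_mem' := by
        rintro _ _ ⟨x, y, hy, rfl⟩ ⟨x', y', hy', rfl⟩
        refine ⟨x * x', y * y', mul_ne_zero hy hy', ?_⟩
        push_cast
        rw [div_mul_div_comm]
      add_mem' := by
        rintro _ _ ⟨x, y, hy, rfl⟩ ⟨x', y', hy', rfl⟩
        refine ⟨x * y' + x' * y, y * y', mul_ne_zero hy hy', ?_⟩
        have h1 : (y : L) ≠ 0 := fun h => hy (Subtype.ext h)
        have h2 : (y' : L) ≠ 0 := fun h => hy' (Subtype.ext h)
        push_cast
        field_simp
      neg_mem' := by
        rintro _ ⟨x, y, hy, rfl⟩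
        refine ⟨-x, y, hy, ?_⟩
        push_cast
        rw [neg_div]
      inv_mem' := by
        rintro _ ⟨x, y, hy, rfl⟩
        by_cases hx : x = 0
        · refine ⟨0, 1, one_ne_zero, ?_⟩
          simp [hx]
        · refine ⟨y, x, hx, ?_⟩
          rw [inv_div] }
  have hBF : ∀ b : B, (b : L) ∈ F := fun b => ⟨b, 1, one_ne_zero, by simp⟩
  have hF : F = ⊤ := by
    rw [eq_top_iff, ← hs, Subfield.closure_le]
    rintro y (⟨a, rfl⟩ | hy)
    · exact hBF (algebraMap A B a)
    · rcases hsB y hy with h | h
      · exact hBF ⟨y, h⟩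
      · have := F.inv_mem (hBF ⟨y⁻¹, h⟩)
        rwa [inv_inv] at this
  intro z
  have hz : z ∈ F := by rw [hF]; trivial
  obtain ⟨x, y, -, h⟩ := hz
  exact ⟨x, y, h⟩

/-- Refining a valuation ring to a discrete one: if `V₀ ⊆ L` is a valuation subring containing the
image of a Noetherian ring `A`, `L` is finitely generated as a field over the image of `A`, and `W`
is a finite set of nonunits of `V₀`, not all zero, then some discrete valuation subring of `L`
contains the image of `A` and has `W` among its nonunits. -/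
theorem exists_dvr_of_valuationSubring (A L : Type*) [CommRing A] [IsNoetherianRing A] [Field L]
    [Algebra A L] (s : Finset L)
    (hs : Subfield.closure (Set.range (algebraMap A L) ∪ (s : Set L)) = ⊤)
    (V₀ : ValuationSubring L) (hAV₀ : ∀ a, algebraMap A L a ∈ V₀)
    (W : Finset L) (hW : ∀ w ∈ W, w ∈ V₀.nonunits) (hW0 : ∃ w ∈ W, w ≠ 0) :
    ∃ V : ValuationSubring L, IsDiscreteValuationRing V ∧ (∀ a, algebraMap A L a ∈ V) ∧
      ∀ w ∈ W, w ∈ V.nonunits := by
  classical
  let ψ : L → L := fun y => if y ∈ V₀ then y else y⁻¹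
  have hψ : ∀ y, ψ y ∈ V₀ := by
    intro y
    simp only [ψ]
    split_ifs with h
    · exact h
    · exact (V₀.mem_or_inv_mem y).resolve_left h
  let B : Subalgebra A L := Algebra.adjoin A ((s.image ψ ∪ W : Finset L) : Set L)
  have hBV : ∀ z ∈ B, z ∈ V₀ := by
    intro z hz
    induction hz using Algebra.adjoin_induction with
    | mem x hx =>
      rcases Finset.mem_union.mp (Finset.mem_coe.mp hx) with hx | hx
      · obtain ⟨g, -, rfl⟩ := Finset.mem_image.mp hx
        exact hψ g
      · exact ValuationSubring.nonunits_subset (hW x hx)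
    | algebraMap r => exact hAV₀ r
    | add x y _ _ hx hy => exact V₀.add_mem _ _ hx hy
    | mul x y _ _ hx hy => exact V₀.mul_mem _ _ hx hy
  have hBft : Algebra.FiniteType A B :=
    (Subalgebra.fg_iff_finiteType B).mp (Subalgebra.fg_adjoin_finset _)
  have hBnoeth : IsNoetherianRing B := Algebra.FiniteType.isNoetherianRing A B
  have hBfrac : IsFractionRing B L := by
    refine isFractionRing_of_closure_eq_top A L B (s : Set L) hs ?_
    intro y hy
    have hmem : ψ y ∈ B :=
      Algebra.subset_adjoin (Finset.mem_coe.mpr (Finset.mem_union_left _ (Finset.mem_image_of_mem ψ hy)))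
    simp only [ψ] at hmem
    split_ifs at hmem with h
    · exact Or.inl hmem
    · exact Or.inr hmem
  have hWB : ∀ w ∈ W, w ∈ B := fun w hw =>
    Algebra.subset_adjoin (Finset.mem_coe.mpr (Finset.mem_union_right _ hw))
  let ι : B →+* V₀ :=
    { toFun := fun b => ⟨b.1, hBV b.1 b.2⟩
      map_one' := rfl
      map_mul' := fun _ _ => rfl
      map_zero' := rfl
      map_add' := fun _ _ => rfl }
  let q : Ideal B := (maximalIdeal V₀).comap ι
  have hqprime : q.IsPrime := Ideal.comap_isPrime ι _
  have hqW : ∀ w (hw : w ∈ W), (⟨w, hWB w hw⟩ : B) ∈ q := by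
    intro w hw
    have h1 := hW w hw
    rw [ValuationSubring.mem_nonunits_iff_exists_mem_maximalIdeal] at h1
    obtain ⟨h2, h3⟩ := h1
    exact h3
  have hqnzd : q.primeCompl ≤ nonZeroDivisors B := by
    intro b hb
    rw [mem_nonZeroDivisors_iff_ne_zero]
    rintro rfl
    exact hb q.zero_mem
  let T : Subalgebra B L := Localization.subalgebra.ofField L q.primeCompl hqnzd
  have hTloc : IsLocalization.AtPrime T q :=
    Localization.subalgebra.isLocalization_ofField L q.primeCompl hqnzd
  have hTlocal : IsLocalRing T := IsLocalization.AtPrime.isLocalRing T q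
  have hTnoeth : IsNoetherianRing T := IsLocalization.isNoetherianRing q.primeCompl T hBnoeth
  have hTfrac : IsFractionRing T L := inferInstance
  have hmT : ∀ w (hw : w ∈ W), algebraMap B T ⟨w, hWB w hw⟩ ∈ maximalIdeal T :=
    fun w hw => (IsLocalization.AtPrime.to_map_mem_maximal_iff T q _).mpr (hqW w hw)
  have hTnf : ¬ IsField T := by
    intro hf
    obtain ⟨w, hw, hw0⟩ := hW0
    have h1 := hmT w hw
    rw [IsLocalRing.isField_iff_maximalIdeal_eq.mp hf, Ideal.mem_bot] at h1
    apply hw0
    exact congrArg (algebraMap T L) h1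
  obtain ⟨V, hVdvr, hV1, hV2⟩ := exists_dvr_dominating T L hTnf
  refine ⟨V, hVdvr, fun a => hV1 (algebraMap B T (algebraMap A B a)), fun w hw => ?_⟩
  exact (ValuationSubring.mem_nonunits_iff (A := V)).mpr (hV2 _ (hmT w hw))

/-- From a finitely generated field extension to the `Subfield.closure` form. -/
theorem closure_eq_top_of_adjoin_eq_top (A K L : Type*) [CommRing A] [Field K] [Algebra A K]
    [IsFractionRing A K] [Field L] [Algebra K L] [Algebra A L] [IsScalarTower A K L]
    (s : Set L) (hs : IntermediateField.adjoin K s = ⊤) :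
    Subfield.closure (Set.range (algebraMap A L) ∪ s) = ⊤ := by
  have h1 : Subfield.closure (Set.range (algebraMap K L) ∪ s) = ⊤ := by
    rw [← IntermediateField.adjoin_toSubfield, hs]; rfl
  rw [eq_top_iff, ← h1, Subfield.closure_le]
  rintro y (⟨k, rfl⟩ | hy)
  · obtain ⟨a, b, hb, rfl⟩ := IsFractionRing.div_surjective (A := A) k
    rw [map_div₀, ← IsScalarTower.algebraMap_apply, ← IsScalarTower.algebraMap_apply]
    exact div_mem (Subfield.subset_closure (Or.inl ⟨a, rfl⟩))
      (Subfield.subset_closure (Or.inl ⟨b, rfl⟩))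
  · exact Subfield.subset_closure (Or.inr hy)

/-- Elements integral over `A` lie in every valuation subring containing the image of `A`. -/
theorem mem_valuationSubring_of_isIntegral {A L : Type*} [CommRing A] [Field L] [Algebra A L]
    (R : ValuationSubring L) (hR : ∀ a : A, algebraMap A L a ∈ R) {x : L} (hx : IsIntegral A x) :
    x ∈ R := by
  let ι : A →+* R :=
    { toFun := fun a => ⟨algebraMap A L a, hR a⟩
      map_one' := by ext; simp
      map_mul' := fun _ _ => by ext; simp
      map_zero' := by ext; simp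
      map_add' := fun _ _ => by ext; simp }
  let _ : Algebra A R := ι.toAlgebra
  have : IsScalarTower A R L := IsScalarTower.of_algebraMap_eq (fun x => rfl)
  have h1 : IsIntegral R x := hx.tower_top
  obtain ⟨y, hy⟩ := (IsIntegrallyClosed.isIntegral_iff (R := R) (K := L)).mp h1
  rw [← hy]
  exact y.2

/-- EGA II 7.1.7-style: the integral closure of a Noetherian domain in a finitely generated
extension of its fraction field is the intersection of the discrete valuation rings containing it. -/
theorem isIntegral_iff_forall_dvr (A K L : Type*) [CommRing A] [IsDomain A] [IsNoetherianRing A]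
    [Field K] [Algebra A K] [IsFractionRing A K]
    [Field L] [Algebra K L] [Algebra A L] [IsScalarTower A K L]
    (hfg : (⊤ : IntermediateField K L).FG) (x : L) :
    IsIntegral A x ↔ ∀ R : ValuationSubring L, IsDiscreteValuationRing R →
      (∀ a : A, algebraMap A L a ∈ R) → x ∈ R := by
  constructor
  · intro hx R _ hR
    exact mem_valuationSubring_of_isIntegral R hR hx
  · intro h
    by_contra hx
    have hx0 : x ≠ 0 := by
      rintro rfl
      exact hx isIntegral_zero
    obtain ⟨s, hs⟩ := hfg
    have hs' := closure_eq_top_of_adjoin_eq_top A K L (s : Set L) hs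
    -- `x⁻¹` is not a unit of `A[x⁻¹]`
    let _ : Invertible x⁻¹ := invertibleOfNonzero (inv_ne_zero hx0)
    let B₀ : Subalgebra A L := Algebra.adjoin A {x⁻¹}
    let xinv : B₀ := ⟨x⁻¹, Algebra.subset_adjoin rfl⟩
    have hspan : Ideal.span {xinv} ≠ ⊤ := by
      intro htop
      apply hx
      obtain ⟨p, hp, hpx⟩ := Algebra.exists_aeval_invOf_eq_zero_of_idealMap_adjoin_sup_span_eq_top
        (R := A) x⁻¹ (⊥ : Ideal A) bot_ne_top (top_unique (htop.ge.trans le_sup_right))
      have hmonic : p.Monic := by
        rw [Ideal.mem_bot, sub_eq_zero] at hp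
        exact hp
      refine ⟨p, hmonic, ?_⟩
      have : ⅟(x⁻¹) = x := by
        rw [invOf_eq_inv, inv_inv]
      rw [this] at hpx
      exact hpx
    obtain ⟨V₀, hV₀1, hV₀2⟩ := Ideal.image_subset_nonunits_valuationSubring
      (A := B₀.toSubring) (Ideal.span {xinv}) hspan
    have hAV₀ : ∀ a, algebraMap A L a ∈ V₀ := fun a => hV₀1 (B₀.algebraMap_mem a)
    have hxV₀ : x⁻¹ ∈ V₀.nonunits := hV₀2 ⟨xinv, Ideal.mem_span_singleton_self _, rfl⟩
    obtain ⟨V, hVdvr, hV1, hV2⟩ := exists_dvr_of_valuationSubring A L s hs' V₀ hAV₀ {x⁻¹}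
      (by intro w hw; rw [Finset.mem_singleton.mp hw]; exact hxV₀)
      ⟨x⁻¹, Finset.mem_singleton_self _, inv_ne_zero hx0⟩
    have h3 := hV2 x⁻¹ (Finset.mem_singleton_self _)
    rw [ValuationSubring.inv_mem_nonunits_iff] at h3
    rcases h3 with h3 | h3
    · exact hx0 h3
    · exact h3 (h V hVdvr hV1)

end Groth.Agent.Lib.Helper39.KA
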