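import Groth.Prelude.Def_Found
import Groth.Agent.S0566
import Groth.Agent.S0573
import Mathlib

set_option autoImplicit false
universe u

namespace Groth.Agent.Lib.Helper39.NormFin

open Groth.Agent.Lib.Helper88 Groth.Agent.Lib.Helper39.Nag

section Aux

/-- if all elements of `L` integral over `R` come from `P'`, then finiteness of the integral
closure of `R` in `P'` gives that of the integral closure in `L` -/
theorem finite_integralClosure_of_range {R P' L : Type*} [CommRing R] [IsNoetherianRing R]
    [CommRing P'] [CommRing L]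
    [Algebra R P'] [Algebra P' L] [Algebra R L] [IsScalarTower R P' L]
    (hinj : Function.Injective (algebraMap P' L))
    (h : ∀ y : L, IsIntegral R y → ∃ z : P', algebraMap P' L z = y)
    (hfin : Module.Finite R (integralClosure R P')) : Module.Finite R (integralClosure R L) := by
  have hsurj : Function.Surjective ((IsScalarTower.toAlgHom R P' L).mapIntegralClosure) := by
    intro y
    obtain ⟨z, hz⟩ := h y.1 y.2
    have hzint : IsIntegral R z := by
      have := y.2
      rw [← hz] at this
      exact (isIntegral_algHom_iff (IsScalarTower.toAlgHom R P' L) hinj).mp this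
    exact ⟨⟨z, hzint⟩, Subtype.ext hz⟩
  exact Module.Finite.of_surjective
    ((IsScalarTower.toAlgHom R P' L).mapIntegralClosure).toLinearMap hsurj

end Aux

section Alg

variable {R : Type u} [CommRing R] {K L : Type u} [Field K] [Field L] [Algebra R K] [Algebra K L]
  [Algebra R L] [IsScalarTower R K L]

/-- elements of `K[T]` are quotients of elements of `R[T]` by elements of `R`, when `K` consists of
fractions of `R` -/
theorem exists_smul_mem_adjoin (hK : ∀ x : K, ∃ a b : R, algebraMap R K b ≠ 0 ∧
    x * algebraMap R K b = algebraMap R K a) (T : Set L) {y : L} (hy : y ∈ Algebra.adjoin K T) :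
    ∃ b : R, algebraMap R L b ≠ 0 ∧ algebraMap R L b * y ∈ Algebra.adjoin R T := by
  have hne : ∀ b : R, algebraMap R K b ≠ 0 → algebraMap R L b ≠ 0 := by
    intro b hb
    rw [IsScalarTower.algebraMap_apply R K L]
    exact (map_ne_zero_iff _ (algebraMap K L).injective).mpr hb
  induction hy using Algebra.adjoin_induction with
  | mem x hx => exact ⟨1, by rw [map_one]; exact one_ne_zero, by
      rw [map_one, one_mul]; exact Algebra.subset_adjoin hx⟩
  | algebraMap k =>
    obtain ⟨a, b, hb, hab⟩ := hK k
    refine ⟨b, hne b hb, ?_⟩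
    have : algebraMap R L b * algebraMap K L k = algebraMap R L a := by
      rw [IsScalarTower.algebraMap_apply R K L, ← map_mul, mul_comm, hab,
        ← IsScalarTower.algebraMap_apply]
    rw [this]
    exact Subalgebra.algebraMap_mem _ _
  | add y₁ y₂ _ _ h₁ h₂ =>
    obtain ⟨b₁, hb₁, h₁⟩ := h₁
    obtain ⟨b₂, hb₂, h₂⟩ := h₂
    refine ⟨b₁ * b₂, by rw [map_mul]; exact mul_ne_zero hb₁ hb₂, ?_⟩
    have : algebraMap R L (b₁ * b₂) * (y₁ + y₂) =
        algebraMap R L b₂ * (algebraMap R L b₁ * y₁) +
        algebraMap R L b₁ * (algebraMap R L b₂ * y₂) := by rw [map_mul]; ring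
    rw [this]
    exact Subalgebra.add_mem _ (Subalgebra.mul_mem _ (Subalgebra.algebraMap_mem _ _) h₁)
      (Subalgebra.mul_mem _ (Subalgebra.algebraMap_mem _ _) h₂)
  | mul y₁ y₂ _ _ h₁ h₂ =>
    obtain ⟨b₁, hb₁, h₁⟩ := h₁
    obtain ⟨b₂, hb₂, h₂⟩ := h₂
    refine ⟨b₁ * b₂, by rw [map_mul]; exact mul_ne_zero hb₁ hb₂, ?_⟩
    have : algebraMap R L (b₁ * b₂) * (y₁ * y₂) =
        (algebraMap R L b₁ * y₁) * (algebraMap R L b₂ * y₂) := by rw [map_mul]; ring
    rw [this]
    exact Subalgebra.mul_mem _ h₁ h₂

set_option synthInstance.maxHeartbeats 400000 in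
set_option maxHeartbeats 1600000 in
/-- **integral closure in an essentially finite type field extension of a residue field of a
Nagata ring is finite** -/
theorem finite_integralClosure_of_essFiniteType (hR : CAlg.IsNagata R)
    (hK : ∀ x : K, ∃ a b : R, algebraMap R K b ≠ 0 ∧ x * algebraMap R K b = algebraMap R K a)
    [Algebra.EssFiniteType K L] : Module.Finite R (integralClosure R L) := by
  classical
  haveI := hR.1
  obtain ⟨T, hT⟩ := IntermediateField.fg_top K L
  -- the finite type subalgebra
  let P := Algebra.adjoin R (T : Set L)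
  haveI : Algebra.FiniteType R P := (Subalgebra.fg_iff_finiteType _).mp ⟨T, rfl⟩
  have hP : CAlg.IsNagata P := Groth.Agent.S0566.result R hR P
  haveI := hP.1
  haveI : FaithfulSMul P L := (faithfulSMul_iff_algebraMap_injective P L).mpr Subtype.val_injective
  haveI : IsFractionRing P L := by
    apply IsFractionRing.of_field
    intro z
    have hz : z ∈ IntermediateField.adjoin K (T : Set L) := by rw [hT]; trivial
    obtain ⟨r, hr, s, hs, rfl⟩ := IntermediateField.mem_adjoin_iff_div.mp hz
    obtain ⟨b₁, hb₁, h₁⟩ := exists_smul_mem_adjoin hK (T : Set L) hr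
    obtain ⟨b₂, hb₂, h₂⟩ := exists_smul_mem_adjoin hK (T : Set L) hs
    by_cases hs0 : s = 0
    · refine ⟨0, 1, ?_⟩
      rw [hs0, div_zero, map_zero, zero_div]
    refine ⟨⟨algebraMap R L b₂ * (algebraMap R L b₁ * r), Subalgebra.mul_mem _
      (Subalgebra.algebraMap_mem _ _) h₁⟩, ⟨algebraMap R L b₁ * (algebraMap R L b₂ * s),
      Subalgebra.mul_mem _ (Subalgebra.algebraMap_mem _ _) h₂⟩, ?_⟩
    change r / s = (algebraMap R L b₂ * (algebraMap R L b₁ * r)) /
      (algebraMap R L b₁ * (algebraMap R L b₂ * s))
    field_simp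
  -- `P` is N-1
  have hN1 : Module.Finite P (integralClosure P L) :=
    (isN1_iff P).mp (AnUnram2.isN1_of_isNagata P hP) L
  haveI := hN1
  -- `P' := integralClosure P L` is a reduced finite type `R`-algebra
  haveI : Algebra.FiniteType P (integralClosure P L) := inferInstance
  haveI : Algebra.FiniteType R (integralClosure P L) := Algebra.FiniteType.trans ‹_› ‹_›
  have hfin : Module.Finite R (integralClosure R (integralClosure P L)) :=
    Groth.Agent.S0573.result R hR (integralClosure P L)
  refine finite_integralClosure_of_range (P' := integralClosure P L) Subtype.val_injective ?_ hfin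
  intro y hy
  exact ⟨⟨y, hy.tower_top⟩, rfl⟩

end Alg

end Groth.Agent.Lib.Helper39.NormFin
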