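import Mathlib
import Groth.Agent.Lib.Helper39.DVRIntersect

/-
Helper39 library: scheme-level finite generation of residue fields over local rings at
specializations (for DVR refinements of valuative criteria).
-/

universe u
open CategoryTheory CategoryTheory.Limits AlgebraicGeometry

namespace Groth.Agent.Lib.Helper39.KA

/-- An essentially-of-finite-type ring map followed by a surjection onto a field: the field is
finitely generated over the image of the source. -/
theorem exists_finset_closure_eq_top_of_essFiniteType {R S L : Type*} [CommRing R] [CommRing S]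
    [Field L] (f : R →+* S) (hf : f.EssFiniteType) (π : S →+* L) (hπ : Function.Surjective π) :
    ∃ s : Finset L, Subfield.closure (Set.range (π.comp f) ∪ (s : Set L)) = ⊤ := by
  classical
  algebraize [f]
  have hf' : Algebra.EssFiniteType R S := hf
  obtain ⟨σ, hσ⟩ := (Algebra.essFiniteType_iff (R := R) (S := S)).mp hf'
  refine ⟨σ.image π, ?_⟩
  set F := Subfield.closure (Set.range (π.comp f) ∪ ((σ.image π : Finset L) : Set L)) with hF
  have hadj : ∀ z ∈ Algebra.adjoin R (σ : Set S), π z ∈ F := by
    intro z hz
    induction hz using Algebra.adjoin_induction with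
    | mem x hx =>
      exact Subfield.subset_closure (Or.inr (Finset.mem_coe.mpr (Finset.mem_image_of_mem π hx)))
    | algebraMap r => exact Subfield.subset_closure (Or.inl ⟨r, rfl⟩)
    | add x y _ _ hx hy => rw [map_add]; exact F.add_mem hx hy
    | mul x y _ _ hx hy => rw [map_mul]; exact F.mul_mem hx hy
  rw [eq_top_iff]
  intro l _
  obtain ⟨z, rfl⟩ := hπ l
  obtain ⟨t, ht, htu, hzt⟩ := hσ z
  have h1 : π t ≠ 0 := (htu.map π).ne_zero
  have h2 : π z = π (z * t) / π t := by
    rw [map_mul, mul_div_assoc, div_self h1, mul_one]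
  rw [h2]
  exact F.div_mem (hadj _ hzt) (hadj _ ht)

/-- If every element of `R` is a fraction of elements coming from `R'`, then the subfield
generated by the image of `R` is already generated by the image of `R'`. -/
theorem closure_range_comp_eq_top {R' R L : Type*} [CommRing R'] [CommRing R] [Field L]
    (g : R' →+* R) (hg : ∀ r : R, ∃ a b : R', IsUnit (g b) ∧ r * g b = g a)
    (h : R →+* L) (s : Set L) (hs : Subfield.closure (Set.range h ∪ s) = ⊤) :
    Subfield.closure (Set.range (h.comp g) ∪ s) = ⊤ := by
  rw [eq_top_iff, ← hs, Subfield.closure_le]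
  rintro y (⟨r, rfl⟩ | hy)
  · obtain ⟨a, b, hb, hab⟩ := hg r
    have h1 : h (g b) ≠ 0 := (hb.map h).ne_zero
    have h2 : h r = h (g a) / h (g b) := by
      rw [← hab, map_mul, mul_div_assoc, div_self h1, mul_one]
    rw [h2]
    exact div_mem (Subfield.subset_closure (Or.inl ⟨a, rfl⟩))
      (Subfield.subset_closure (Or.inl ⟨b, rfl⟩))
  · exact Subfield.subset_closure (Or.inr hy)

/-- Elements of the stalk at a generization are fractions of elements of the stalk at the
specialization. -/
theorem stalkSpecializes_fraction (Y : Scheme.{u}) {y y' : Y} (hsp : y ⤳ y')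
    (r : Y.presheaf.stalk y) :
    ∃ a b : Y.presheaf.stalk y', IsUnit ((Y.presheaf.stalkSpecializes hsp).hom b) ∧
      r * (Y.presheaf.stalkSpecializes hsp).hom b = (Y.presheaf.stalkSpecializes hsp).hom a := by
  obtain ⟨_, ⟨U, hU, rfl⟩, hy'U, -⟩ := Y.isBasis_affineOpens.exists_subset_of_mem_open
    (Set.mem_univ y') isOpen_univ
  have hyU : y ∈ U := hsp.mem_open U.isOpen hy'U
  let _ : Algebra Γ(Y, U) (Y.presheaf.stalk y) :=
    TopCat.Presheaf.algebra_section_stalk Y.presheaf ⟨y, hyU⟩
  have hloc : IsLocalization.AtPrime (Y.presheaf.stalk y) (hU.primeIdealOf ⟨y, hyU⟩).asIdeal :=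
    IsAffineOpen.isLocalization_stalk hU ⟨y, hyU⟩
  obtain ⟨⟨a, b⟩, hab⟩ := IsLocalization.surj (hU.primeIdealOf ⟨y, hyU⟩).asIdeal.primeCompl r
  have hgerm : ∀ c : Γ(Y, U), (Y.presheaf.stalkSpecializes hsp).hom
      ((Y.presheaf.germ U y' hy'U).hom c) = (Y.presheaf.germ U y hyU).hom c := by
    intro c
    have := TopCat.Presheaf.germ_stalkSpecializes Y.presheaf hy'U hsp
    exact congrArg (fun φ => φ.hom c) this
  refine ⟨(Y.presheaf.germ U y' hy'U).hom a, (Y.presheaf.germ U y' hy'U).hom b.1, ?_, ?_⟩
  · rw [hgerm]
    exact IsLocalization.map_units (M := (hU.primeIdealOf ⟨y, hyU⟩).asIdeal.primeCompl)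
      (Y.presheaf.stalk y) b
  · rw [hgerm, hgerm]
    exact hab

/-- For a morphism locally of finite type, the residue field at `x` is finitely generated as a
field over the image of the local ring at any specialization of the image point. -/
theorem exists_finset_closure_residueField_eq_top {X Y : Scheme.{u}} (p : X ⟶ Y)
    [LocallyOfFiniteType p] (x : X) (y' : Y) (hsp : p.base x ⤳ y') :
    ∃ s : Finset (X.residueField x), Subfield.closure
      (Set.range (Y.presheaf.stalkSpecializes hsp ≫ p.stalkMap x ≫ X.residue x).hom ∪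
        (s : Set (X.residueField x))) = ⊤ := by
  have hsurj : Function.Surjective (X.residue x).hom := by
    intro z
    exact Ideal.Quotient.mk_surjective z
  obtain ⟨s, hs⟩ := exists_finset_closure_eq_top_of_essFiniteType (p.stalkMap x).hom
    (LocallyOfFiniteType.stalkMap p x) (X.residue x).hom hsurj
  refine ⟨s, ?_⟩
  rw [CommRingCat.hom_comp, CommRingCat.hom_comp]
  exact closure_range_comp_eq_top (R' := Y.presheaf.stalk y') (R := Y.presheaf.stalk (p.base x))
    (L := X.residueField x) (Y.presheaf.stalkSpecializes hsp).hom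
    (stalkSpecializes_fraction Y hsp) ((X.residue x).hom.comp (p.stalkMap x).hom)
    (s : Set (X.residueField x)) hs

end Groth.Agent.Lib.Helper39.KA
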