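import Mathlib

universe u
open CategoryTheory CategoryTheory.Limits AlgebraicGeometry

namespace Groth.Agent.Lib.Helper39.KA

/-- For a quasi-compact morphism, every point in the closure of the image is a specialization of
a point of the image (Stacks 01K9-style). -/
theorem exists_specializes_of_mem_closure_range {U P : Scheme.{u}} (g : U ⟶ P) [QuasiCompact g]
    (z' : P) (hz' : z' ∈ closure (Set.range g.base)) : ∃ u : U, g.base u ⤳ z' := by
  obtain ⟨_, ⟨V, hV, rfl⟩, hzV, -⟩ := P.isBasis_affineOpens.exists_subset_of_mem_open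
    (Set.mem_univ z') isOpen_univ
  have hcomp : IsCompact (g.base ⁻¹' (V : Set P)) :=
    QuasiCompact.isCompact_preimage _ V.isOpen hV.isCompact
  have hopen : IsOpen (g.base ⁻¹' (V : Set P)) := V.isOpen.preimage g.base.hom.continuous
  obtain ⟨s, hsfin, hs⟩ :=
    isCompact_and_isOpen_iff_finite_and_eq_biUnion_affineOpens.mp ⟨hcomp, hopen⟩
  -- `z'` lies in the closure of the image of one of the affine pieces
  have h1 : z' ∈ closure ((V : Set P) ∩ Set.range g.base) :=
    V.isOpen.inter_closure ⟨hzV, hz'⟩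
  have h2 : (V : Set P) ∩ Set.range g.base = ⋃ W ∈ s, g.base '' (W : Set U) := by
    ext p
    constructor
    · rintro ⟨hpV, u, rfl⟩
      have : u ∈ g.base ⁻¹' (V : Set P) := hpV
      rw [hs] at this
      obtain ⟨W, hW, huW⟩ := Set.mem_iUnion₂.mp this
      exact Set.mem_iUnion₂.mpr ⟨W, hW, u, huW, rfl⟩
    · intro hp
      obtain ⟨W, hW, u, huW, rfl⟩ := Set.mem_iUnion₂.mp hp
      have : u ∈ g.base ⁻¹' (V : Set P) := by
        rw [hs]; exact Set.mem_iUnion₂.mpr ⟨W, hW, huW⟩
      exact ⟨this, u, rfl⟩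
  rw [h2, hsfin.closure_biUnion] at h1
  obtain ⟨W, hWs, hzW⟩ := Set.mem_iUnion₂.mp h1
  have hWle : (W : U.Opens) ≤ g ⁻¹ᵁ V := by
    intro u hu
    have : u ∈ g.base ⁻¹' (V : Set P) := by
      rw [hs]; exact Set.mem_iUnion₂.mpr ⟨W, hWs, hu⟩
    exact this
  have hW : IsAffineOpen (W : U.Opens) := W.2
  let φ := g.appLE V W hWle
  have hcomm : Spec.map φ ≫ hV.fromSpec = hW.fromSpec ≫ g :=
    hV.SpecMap_appLE_fromSpec g hW hWle
  -- the prime of `z'`
  let q := hV.primeIdealOf ⟨z', hzV⟩
  have hq : hV.fromSpec.base q = z' := hV.fromSpec_primeIdealOf ⟨z', hzV⟩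
  have himg : g.base '' (W : Set U) = hV.fromSpec.base '' Set.range (Spec.map φ).base := by
    have hr : (W : Set U) = Set.range hW.fromSpec.base := hW.range_fromSpec.symm
    rw [hr, ← Set.range_comp, ← Set.range_comp]
    have : g.base ∘ hW.fromSpec.base = hV.fromSpec.base ∘ (Spec.map φ).base := by
      funext y
      exact (congr(($hcomm).base y)).symm
    rw [this]
  rw [himg, ← hq] at hzW
  have hoi : IsOpenImmersion hV.fromSpec := hV.isOpenImmersion_fromSpec
  have hind : Topology.IsInducing hV.fromSpec.base :=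
    hV.fromSpec.isOpenEmbedding.isInducing
  have hq2 : q ∈ closure (Set.range (Spec.map φ).base) := by
    rw [hind.closure_eq_preimage_closure_image]
    exact hzW
  have hq3 : RingHom.ker φ.hom ≤ q.asIdeal := by
    have : closure (Set.range (Spec.map φ).base) =
        PrimeSpectrum.zeroLocus (RingHom.ker φ.hom) := PrimeSpectrum.closure_range_comap φ.hom
    rw [this] at hq2
    exact hq2
  obtain ⟨Q, -, hQprime, hQle⟩ := Ideal.exists_ideal_comap_le_prime q.asIdeal
    (⊥ : Ideal Γ(U, W)) (f := φ.hom) hq3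
  let Qp : Spec Γ(U, W) := ⟨Q, hQprime⟩
  refine ⟨hW.fromSpec.base Qp, ?_⟩
  have h3 : g.base (hW.fromSpec.base Qp) = hV.fromSpec.base ((Spec.map φ).base Qp) :=
    (congr(($hcomm).base Qp)).symm
  rw [h3, ← hq]
  apply Specializes.map _ hV.fromSpec.base.hom.continuous
  exact (PrimeSpectrum.le_iff_specializes _ _).mp hQle

end Groth.Agent.Lib.Helper39.KA
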