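import Mathlib

set_option autoImplicit false
set_option linter.style.haveILetI false
set_option linter.unusedSectionVars false
universe u

open TensorProduct

namespace Groth.Agent.Lib.Helper39.UCFT

section Algebra

variable {A C B : Type*} [CommRing A] [CommRing C] [CommRing B] [Algebra A C] [Algebra A B]

/-- The map `C ⊗ B₀ → C ⊗ B` for a subalgebra `B₀ ⊆ B`. -/
noncomputable abbrev tmap (B₀ : Subalgebra A B) : C ⊗[A] B₀ →ₐ[A] C ⊗[A] B :=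
  Algebra.TensorProduct.map (AlgHom.id A C) B₀.val

theorem exists_finset_mem_range (d : C ⊗[A] B) :
    ∃ s : Finset B, ∀ B₀ : Subalgebra A B, (s : Set B) ⊆ B₀ →
      d ∈ Set.range (tmap (C := C) B₀) := by
  classical
  induction d using TensorProduct.induction_on with
  | zero => exact ⟨∅, fun B₀ _ => ⟨0, map_zero _⟩⟩
  | tmul c b =>
    refine ⟨{b}, fun B₀ h => ⟨c ⊗ₜ ⟨b, h (by simp)⟩, ?_⟩⟩
    simp [tmap]
  | add x y hx hy =>
    obtain ⟨s, hs⟩ := hx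
    obtain ⟨t, ht⟩ := hy
    refine ⟨s ∪ t, fun B₀ h => ?_⟩
    obtain ⟨x', hx'⟩ := hs B₀ (fun b hb => h (by simp [Finset.mem_coe.mp hb]))
    obtain ⟨y', hy'⟩ := ht B₀ (fun b hb => h (by simp [Finset.mem_coe.mp hb]))
    exact ⟨x' + y', by rw [map_add, hx', hy']⟩

theorem exists_finset_mem_map (𝔭 : Ideal B) (y : C ⊗[A] B)
    (hy : y ∈ Ideal.map (Algebra.TensorProduct.includeRight : B →ₐ[A] C ⊗[A] B) 𝔭) :
    ∃ s : Finset B, ∀ B₀ : Subalgebra A B, (s : Set B) ⊆ B₀ →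
      ∃ y₀ ∈ Ideal.map (Algebra.TensorProduct.includeRight : B₀ →ₐ[A] C ⊗[A] B₀)
        (𝔭.comap B₀.val), tmap (C := C) B₀ y₀ = y := by
  classical
  unfold Ideal.map at hy
  induction hy using Submodule.span_induction with
  | mem x hx =>
    obtain ⟨p, hp, rfl⟩ := hx
    refine ⟨{p}, fun B₀ h => ⟨Algebra.TensorProduct.includeRight ⟨p, h (by simp)⟩, ?_, ?_⟩⟩
    · apply Ideal.mem_map_of_mem
      exact hp
    · simp [tmap]
  | zero => exact ⟨∅, fun B₀ _ => ⟨0, Ideal.zero_mem _, map_zero _⟩⟩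
  | add x y _ _ hx hy =>
    obtain ⟨s, hs⟩ := hx
    obtain ⟨t, ht⟩ := hy
    refine ⟨s ∪ t, fun B₀ h => ?_⟩
    obtain ⟨x', hx'm, hx'⟩ := hs B₀ (fun b hb => h (by simp [Finset.mem_coe.mp hb]))
    obtain ⟨y', hy'm, hy'⟩ := ht B₀ (fun b hb => h (by simp [Finset.mem_coe.mp hb]))
    exact ⟨x' + y', Ideal.add_mem _ hx'm hy'm, by rw [map_add, hx', hy']⟩
  | smul d y _ hy =>
    obtain ⟨s, hs⟩ := exists_finset_mem_range d
    obtain ⟨t, ht⟩ := hy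
    refine ⟨s ∪ t, fun B₀ h => ?_⟩
    obtain ⟨d', hd'⟩ := hs B₀ (fun b hb => h (by simp [Finset.mem_coe.mp hb]))
    obtain ⟨y', hy'm, hy'⟩ := ht B₀ (fun b hb => h (by simp [Finset.mem_coe.mp hb]))
    exact ⟨d' * y', Ideal.mul_mem_left _ _ hy'm, by rw [map_mul, hd', hy', smul_eq_mul]⟩

/-- Core lemma: an ideal `I` of `C ⊗ B` with no prime over `𝔭` containing it is already witnessed
at a finitely generated level. -/
theorem core (I : Ideal (C ⊗[A] B)) (𝔭 : Ideal B) [𝔭.IsPrime]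
    (h : ∀ q : Ideal (C ⊗[A] B), q.IsPrime → I ≤ q →
      q.comap (Algebra.TensorProduct.includeRight : B →ₐ[A] C ⊗[A] B) ≠ 𝔭) :
    ∃ s : Finset B, ∀ B₀ : Subalgebra A B, (s : Set B) ⊆ B₀ →
      ∃ z₀ : C ⊗[A] B₀, tmap (C := C) B₀ z₀ ∈ I ∧
        ∀ q₀ : Ideal (C ⊗[A] B₀), q₀.IsPrime → z₀ ∈ q₀ →
          q₀.comap (Algebra.TensorProduct.includeRight : B₀ →ₐ[A] C ⊗[A] B₀) ≠ 𝔭.comap B₀.val := by
  classical
  let ι : B →ₐ[A] C ⊗[A] B := Algebra.TensorProduct.includeRight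
  let M : Submonoid (C ⊗[A] B) := 𝔭.primeCompl.map (ι : B →* C ⊗[A] B)
  let J : Ideal (C ⊗[A] B) := I ⊔ Ideal.map ι 𝔭
  have hnd : ¬ Disjoint (J : Set (C ⊗[A] B)) (M : Set (C ⊗[A] B)) := by
    intro hd
    obtain ⟨q, hq, hJq, hqM⟩ := Ideal.exists_le_prime_disjoint J M hd
    apply h q hq (le_sup_left.trans hJq)
    apply le_antisymm
    · intro b hb
      by_contra hb'
      exact Set.disjoint_left.mp hqM hb ⟨b, hb', rfl⟩
    · rw [← Ideal.map_le_iff_le_comap]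
      exact le_sup_right.trans hJq
  rw [Set.not_disjoint_iff] at hnd
  obtain ⟨_, hxJ, ⟨s₀, hs₀, rfl⟩⟩ := hnd
  obtain ⟨z, hz, y, hy, hzy⟩ := Submodule.mem_sup.mp hxJ
  obtain ⟨s, hs⟩ := exists_finset_mem_map 𝔭 y hy
  refine ⟨insert s₀ s, fun B₀ hB₀ => ?_⟩
  have hs₀B : s₀ ∈ B₀ := hB₀ (by simp)
  obtain ⟨y₀, hy₀m, hy₀⟩ := hs B₀ (fun b hb => hB₀ (by simp [Finset.mem_coe.mp hb]))
  let ι₀ : B₀ →ₐ[A] C ⊗[A] B₀ := Algebra.TensorProduct.includeRight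
  refine ⟨ι₀ ⟨s₀, hs₀B⟩ - y₀, ?_, ?_⟩
  · have : tmap (C := C) B₀ (ι₀ ⟨s₀, hs₀B⟩ - y₀) = z := by
      rw [map_sub, hy₀]
      have : tmap (C := C) B₀ (ι₀ ⟨s₀, hs₀B⟩) = ι s₀ := by simp [tmap, ι₀, ι]
      rw [this]
      have : ι s₀ = z + y := hzy.symm
      rw [this]; ring
    rw [this]; exact hz
  · intro q₀ hq₀ hzq₀ hcomap
    have h1 : y₀ ∈ q₀ := by
      have : Ideal.map ι₀ (𝔭.comap B₀.val) ≤ q₀ := by
        rw [Ideal.map_le_iff_le_comap, hcomap]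
      exact this hy₀m
    have h2 : ι₀ ⟨s₀, hs₀B⟩ ∈ q₀ := by
      have := Ideal.add_mem _ hzq₀ h1
      simpa using this
    have h3 : (⟨s₀, hs₀B⟩ : B₀) ∈ q₀.comap ι₀ := h2
    rw [hcomap] at h3
    exact hs₀ h3

end Algebra

end Groth.Agent.Lib.Helper39.UCFT
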