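import Mathlib
import Groth.Agent.Lib.Helper39.UCFTAlg

set_option autoImplicit false
set_option linter.style.haveILetI false
set_option linter.unusedSectionVars false
universe u

open TensorProduct CategoryTheory Limits AlgebraicGeometry

namespace Groth.Agent.Lib.Helper39.UCFT

section Piece

variable (A : Type u) [CommRing A] (C : Type u) [CommRing C] [Algebra A C]
  (B : Type u) [CommRing B] [Algebra A B]

/-- The structure map `Spec B ⟶ Spec A`. -/
noncomputable abbrev gmap : Spec (.of B) ⟶ Spec (.of A) :=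
  Spec.map (CommRingCat.ofHom (algebraMap A B))

noncomputable abbrev inlMap : Spec (.of (C ⊗[A] B)) ⟶ Spec (.of C) :=
  Spec.map (CommRingCat.ofHom
    (Algebra.TensorProduct.includeLeftRingHom : C →+* C ⊗[A] B))

noncomputable abbrev inrMap : Spec (.of (C ⊗[A] B)) ⟶ Spec (.of B) :=
  Spec.map (CommRingCat.ofHom
    ((Algebra.TensorProduct.includeRight : B →ₐ[A] C ⊗[A] B) : B →+* C ⊗[A] B))

theorem isPullback_inl_inr :
    IsPullback (inlMap A C B) (inrMap A C B) (gmap A C) (gmap A B) :=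
  isPullback_SpecMap_of_isPushout _ _ _ _ (CommRingCat.isPushout_tensorProduct A C B)

variable {A C} {X : Scheme.{u}} (f : X ⟶ Spec (.of A)) (h : Spec (.of C) ⟶ X)
  (hf : h ≫ f = gmap A C)

/-- The map from the affine piece of the base change. -/
noncomputable def kmap : Spec (.of (C ⊗[A] B)) ⟶ pullback f (gmap A B) :=
  pullback.lift (inlMap A C B ≫ h) (inrMap A C B) (by
    rw [Category.assoc, hf]
    exact (isPullback_inl_inr A C B).w)

@[reassoc]
theorem kmap_fst : kmap B f h hf ≫ pullback.fst f (gmap A B) = inlMap A C B ≫ h :=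
  pullback.lift_fst _ _ _

@[reassoc]
theorem kmap_snd : kmap B f h hf ≫ pullback.snd f (gmap A B) = inrMap A C B :=
  pullback.lift_snd _ _ _

theorem isPullback_kmap :
    IsPullback (kmap B f h hf) (inlMap A C B) (pullback.fst f (gmap A B)) h := by
  have s : IsPullback (kmap B f h hf ≫ pullback.snd f (gmap A B)) (inlMap A C B)
      (gmap A B) (h ≫ f) := by
    rw [kmap_snd, hf]
    exact (isPullback_inl_inr A C B).flip
  exact IsPullback.of_right s (kmap_fst B f h hf) (IsPullback.of_hasPullback f (gmap A B)).flip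

theorem isOpenImmersion_kmap [IsOpenImmersion h] : IsOpenImmersion (kmap B f h hf) :=
  MorphismProperty.of_isPullback (P := @IsOpenImmersion) (isPullback_kmap B f h hf).flip
    inferInstance

theorem range_kmap :
    Set.range (kmap B f h hf) = (pullback.fst f (gmap A B)) ⁻¹' Set.range h := by
  have := Scheme.image_preimage_eq_of_isPullback (isPullback_kmap B f h hf).flip Set.univ
  simpa using this

end Piece

section Nat

variable {A : Type u} [CommRing A] {C : Type u} [CommRing C] [Algebra A C]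
  {B₀ B : Type u} [CommRing B₀] [Algebra A B₀] [CommRing B] [Algebra A B] (φ : B₀ →ₐ[A] B)
  {X : Scheme.{u}} (f : X ⟶ Spec (.of A)) (h : Spec (.of C) ⟶ X) (hf : h ≫ f = gmap A C)

noncomputable abbrev piT : Spec (.of B) ⟶ Spec (.of B₀) :=
  Spec.map (CommRingCat.ofHom (φ : B₀ →+* B))

theorem piT_gmap : piT φ ≫ gmap A B₀ = gmap A B := by
  unfold piT gmap
  rw [← Spec.map_comp]
  congr 1
  ext a
  simp

noncomputable def piX : pullback f (gmap A B) ⟶ pullback f (gmap A B₀) :=
  pullback.lift (pullback.fst f (gmap A B)) (pullback.snd f (gmap A B) ≫ piT φ) (by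
    rw [Category.assoc, piT_gmap]
    exact pullback.condition)

@[reassoc]
theorem piX_fst : piX φ f ≫ pullback.fst f (gmap A B₀) = pullback.fst f (gmap A B) :=
  pullback.lift_fst _ _ _

@[reassoc]
theorem piX_snd : piX φ f ≫ pullback.snd f (gmap A B₀) = pullback.snd f (gmap A B) ≫ piT φ :=
  pullback.lift_snd _ _ _

noncomputable abbrev piC : Spec (.of (C ⊗[A] B)) ⟶ Spec (.of (C ⊗[A] B₀)) :=
  Spec.map (CommRingCat.ofHom
    ((Algebra.TensorProduct.map (AlgHom.id A C) φ : C ⊗[A] B₀ →ₐ[A] C ⊗[A] B) :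
      C ⊗[A] B₀ →+* C ⊗[A] B))

theorem kmap_piX : kmap B f h hf ≫ piX φ f = piC (C := C) φ ≫ kmap B₀ f h hf := by
  apply pullback.hom_ext
  · rw [Category.assoc, piX_fst, kmap_fst, Category.assoc, kmap_fst, ← Category.assoc]
    congr 1
    unfold piC inlMap
    rw [← Spec.map_comp]
    congr 1
    ext c
    simp
  · rw [Category.assoc, piX_snd, kmap_snd_assoc, Category.assoc, kmap_snd]
    unfold piC inrMap piT
    rw [← Spec.map_comp, ← Spec.map_comp]
    congr 1

end Nat

section Main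

variable {A : Type u} [CommRing A] (B : Type u) [CommRing B] [Algebra A B]
  {X : Scheme.{u}} (f : X ⟶ Spec (.of A))

theorem isClosedMap_snd_of_fg_aux {ι : Type*} [Finite ι] (C : ι → Type u) [∀ j, CommRing (C j)]
    [∀ j, Algebra A (C j)] (h : ∀ j, Spec (.of (C j)) ⟶ X) [∀ j, IsOpenImmersion (h j)]
    (hf : ∀ j, h j ≫ f = gmap A (C j))
    (hcov : ∀ x : X, ∃ j, x ∈ Set.range (h j))
    (H : ∀ B₀ : Subalgebra A B, B₀.FG → IsClosedMap (pullback.snd f (gmap A B₀))) :
    IsClosedMap (pullback.snd f (gmap A B)) := by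
  classical
  have := Fintype.ofFinite ι
  intro Z hZ
  rw [← isOpen_compl_iff, isOpen_iff_forall_mem_open]
  intro t ht
  -- the pieces
  let K : ∀ j, Spec (.of (C j ⊗[A] B)) ⟶ pullback f (gmap A B) := fun j => kmap B f (h j) (hf j)
  let I : ∀ j, Ideal (C j ⊗[A] B) := fun j => PrimeSpectrum.vanishingIdeal ((K j) ⁻¹' Z)
  have hZj : ∀ j, IsClosed ((K j) ⁻¹' Z) := fun j => hZ.preimage (K j).continuous
  haveI : t.asIdeal.IsPrime := t.2
  have hcore : ∀ j, ∀ q : Ideal (C j ⊗[A] B), q.IsPrime → I j ≤ q →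
      q.comap (Algebra.TensorProduct.includeRight : B →ₐ[A] C j ⊗[A] B) ≠ t.asIdeal := by
    intro j q hq hIq hcomap
    apply ht
    let qq : Spec (.of (C j ⊗[A] B)) := ⟨q, hq⟩
    have h0 : (qq : PrimeSpectrum (C j ⊗[A] B)) ∈
        closure ((K j) ⁻¹' Z : Set (PrimeSpectrum (C j ⊗[A] B))) := by
      rw [← PrimeSpectrum.zeroLocus_vanishingIdeal_eq_closure]
      exact hIq
    have h1 : qq ∈ (K j) ⁻¹' Z := (hZj j).closure_subset h0
    refine ⟨K j qq, h1, ?_⟩
    have e : K j ≫ pullback.snd f (gmap A B) = inrMap A (C j) B := kmap_snd B f (h j) (hf j)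
    have h2 : pullback.snd f (gmap A B) (K j qq) = inrMap A (C j) B qq := by
      rw [← Scheme.Hom.comp_apply, e]
    rw [h2]
    exact PrimeSpectrum.ext hcomap
  choose s hs using fun j => core (I j) t.asIdeal (hcore j)
  let sAll : Finset B := Finset.univ.biUnion s
  let B₀ : Subalgebra A B := Algebra.adjoin A (sAll : Set B)
  have hB₀fg : B₀.FG := Subalgebra.fg_adjoin_finset sAll
  have hsub : ∀ j, (s j : Set B) ⊆ B₀ := fun j b hb =>
    Algebra.subset_adjoin (Finset.mem_coe.mpr (Finset.mem_biUnion.mpr ⟨j, Finset.mem_univ j, hb⟩))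
  choose z hzI hzq using fun j => hs j B₀ (hsub j)
  let K₀ : ∀ j, Spec (.of (C j ⊗[A] B₀)) ⟶ pullback f (gmap A B₀) :=
    fun j => kmap B₀ f (h j) (hf j)
  have hK₀ : ∀ j, IsOpenImmersion (K₀ j) := fun j => isOpenImmersion_kmap B₀ f (h j) (hf j)
  let O : Set ↥(pullback f (gmap A B₀)) :=
    ⋃ j, (K₀ j) '' (PrimeSpectrum.basicOpen (z j) : Set (PrimeSpectrum (C j ⊗[A] B₀)))
  have hO : IsOpen O := isOpen_iUnion fun j =>
    (K₀ j).isOpenEmbedding.isOpenMap _ (PrimeSpectrum.basicOpen (z j)).2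
  have hF : IsClosed (pullback.snd f (gmap A B₀) '' Oᶜ) := H B₀ hB₀fg _ hO.isClosed_compl
  let π : Spec (.of B) ⟶ Spec (.of B₀) := piT B₀.val
  refine ⟨π ⁻¹' (pullback.snd f (gmap A B₀) '' Oᶜ)ᶜ, ?_, hF.isOpen_compl.preimage π.continuous, ?_⟩
  · -- W ⊆ complement of image of Z
    rintro t' ht' ⟨zz, hzz, rfl⟩
    apply ht'
    have e0 : pullback.snd f (gmap A B) ≫ π = piX B₀.val f ≫ pullback.snd f (gmap A B₀) :=
      (piX_snd B₀.val f).symm
    have h1 : π (pullback.snd f (gmap A B) zz) =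
        pullback.snd f (gmap A B₀) (piX B₀.val f zz) := by
      rw [← Scheme.Hom.comp_apply, ← Scheme.Hom.comp_apply, e0]
    show π (pullback.snd f (gmap A B) zz) ∈ _
    rw [h1]
    refine ⟨_, ?_, rfl⟩
    intro hmemO
    obtain ⟨j, u, hu, huz⟩ := Set.mem_iUnion.mp hmemO
    -- zz is in range K j
    have h2 : pullback.fst f (gmap A B) zz ∈ Set.range (h j) := by
      have e1 : pullback.fst f (gmap A B) zz =
          pullback.fst f (gmap A B₀) (piX B₀.val f zz) := by
        rw [← Scheme.Hom.comp_apply, piX_fst]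
      rw [e1, ← huz, ← Scheme.Hom.comp_apply]
      have e2 : K₀ j ≫ pullback.fst f (gmap A B₀) = inlMap A (C j) B₀ ≫ h j :=
        kmap_fst B₀ f (h j) (hf j)
      rw [e2, Scheme.Hom.comp_apply]
      exact Set.mem_range_self _
    have h3 : zz ∈ Set.range (K j) := by
      rw [range_kmap]; exact h2
    obtain ⟨v, rfl⟩ := h3
    have e3 : K j ≫ piX B₀.val f = piC (C := C j) B₀.val ≫ K₀ j :=
      kmap_piX B₀.val f (h j) (hf j)
    have h4 : K₀ j (piC (C := C j) B₀.val v) = K₀ j u := by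
      rw [huz, ← Scheme.Hom.comp_apply, ← Scheme.Hom.comp_apply, e3]
    have h5 : piC (C := C j) B₀.val v = u := (K₀ j).isOpenEmbedding.injective h4
    have h6 : I j ≤ v.asIdeal := by
      intro d hd
      exact (PrimeSpectrum.mem_vanishingIdeal _ _).mp hd v hzz
    have h7 : z j ∈ (piC (C := C j) B₀.val v).asIdeal := h6 (hzI j)
    rw [h5] at h7
    exact hu h7
  · -- t ∈ W
    rintro ⟨x₀, hx₀, hx₀t⟩
    obtain ⟨j, hj⟩ := hcov (pullback.fst f (gmap A B₀) x₀)
    have h1 : x₀ ∈ Set.range (K₀ j) := by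
      rw [range_kmap]; exact hj
    obtain ⟨u, rfl⟩ := h1
    have h2 : z j ∈ u.asIdeal := by
      by_contra hnot
      exact hx₀ (Set.mem_iUnion.mpr ⟨j, u, hnot, rfl⟩)
    have e4 : K₀ j ≫ pullback.snd f (gmap A B₀) = inrMap A (C j) B₀ :=
      kmap_snd B₀ f (h j) (hf j)
    have h3 : pullback.snd f (gmap A B₀) (K₀ j u) = inrMap A (C j) B₀ u := by
      rw [← Scheme.Hom.comp_apply, e4]
    rw [h3] at hx₀t
    have h4 := congr_arg PrimeSpectrum.asIdeal hx₀t
    exact hzq j u.asIdeal u.2 h2 h4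

theorem isClosedMap_snd_of_fg [QuasiCompact f]
    (H : ∀ B₀ : Subalgebra A B, B₀.FG → IsClosedMap (pullback.snd f (gmap A B₀))) :
    IsClosedMap (pullback.snd f (gmap A B)) := by
  have : CompactSpace X := QuasiCompact.compactSpace_of_compactSpace f
  let 𝒰 := X.affineCover.finiteSubcover
  have hfin : Finite 𝒰.I₀ := inferInstance
  have haff : ∀ j, IsAffine (𝒰.X j) := fun j => inferInstance
  let C : 𝒰.I₀ → Type u := fun j => Γ(𝒰.X j, ⊤)
  let h : ∀ j, Spec (.of (C j)) ⟶ X := fun j => (𝒰.X j).isoSpec.inv ≫ 𝒰.f j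
  letI alg : ∀ j, Algebra A (C j) := fun j => (Spec.preimage (h j ≫ f)).hom.toAlgebra
  have hf : ∀ j, h j ≫ f = gmap A (C j) := fun j => by
    have : CommRingCat.ofHom (algebraMap A (C j)) = Spec.preimage (h j ≫ f) := rfl
    unfold gmap
    rw [this, Spec.map_preimage]
  have hopen : ∀ j, IsOpenImmersion (h j) := fun j => inferInstance
  refine isClosedMap_snd_of_fg_aux B f C h hf ?_ H
  intro x
  obtain ⟨y, hy⟩ := 𝒰.covers x
  refine ⟨𝒰.idx x, (𝒰.X (𝒰.idx x)).isoSpec.hom y, ?_⟩
  show ((𝒰.X (𝒰.idx x)).isoSpec.inv ≫ 𝒰.f (𝒰.idx x)) _ = x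
  rw [Scheme.Hom.comp_apply, ← Scheme.Hom.comp_apply (𝒰.X (𝒰.idx x)).isoSpec.hom, Iso.hom_inv_id]
  exact hy

end Main

section Global

theorem isClosedMap_of_isPullback {P X Y S : Scheme.{u}} {a : P ⟶ X} {b : P ⟶ Y} {f : X ⟶ S}
    {g : Y ⟶ S} (h : IsPullback a b f g) (hc : IsClosedMap (pullback.snd f g)) :
    IsClosedMap b := by
  have e : b = h.isoPullback.hom ≫ pullback.snd f g := (h.isoPullback_hom_snd).symm
  rw [e, Scheme.Hom.comp_base, TopCat.coe_comp]
  exact hc.comp (h.isoPullback.hom.homeomorph.isClosedMap)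

theorem isClosedMap_snd_of_affine_base {A : Type u} [CommRing A] {X : Scheme.{u}}
    (f : X ⟶ Spec (.of A)) [QuasiCompact f]
    (H : ∀ (T : Scheme.{u}) (g : T ⟶ Spec (.of A)), LocallyOfFiniteType g →
      IsClosedMap (pullback.snd f g))
    (T : Scheme.{u}) (g : T ⟶ Spec (.of A)) : IsClosedMap (pullback.snd f g) := by
  intro Z hZ
  rw [← isOpen_compl_iff, isOpen_iff_forall_mem_open]
  intro t ht
  obtain ⟨_, ⟨W, hW, rfl⟩, htW, -⟩ := T.isBasis_affineOpens.exists_subset_of_mem_open
    (Set.mem_univ t) isOpen_univ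
  let BW : Type u := Γ(T, W)
  let j : Spec (.of BW) ⟶ T := hW.fromSpec
  haveI : IsOpenImmersion j := hW.isOpenImmersion_fromSpec
  letI : Algebra A BW := (Spec.preimage (j ≫ g)).hom.toAlgebra
  have hjg : j ≫ g = gmap A BW := by
    have : CommRingCat.ofHom (algebraMap A BW) = Spec.preimage (j ≫ g) := rfl
    unfold gmap
    rw [this, Spec.map_preimage]
  have hclosed : IsClosedMap (pullback.snd f (gmap A BW)) := by
    apply isClosedMap_snd_of_fg
    intro B₀ hB₀
    apply H
    rw [HasRingHomProperty.Spec_iff (P := @LocallyOfFiniteType)]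
    have : Algebra.FiniteType A B₀ := (Subalgebra.fg_iff_finiteType B₀).mp hB₀
    exact this
  let m : pullback f (gmap A BW) ⟶ pullback f g :=
    pullback.lift (pullback.fst f (gmap A BW)) (pullback.snd f (gmap A BW) ≫ j) (by
      rw [Category.assoc, hjg]; exact pullback.condition)
  have hm1 : m ≫ pullback.fst f g = pullback.fst f (gmap A BW) := pullback.lift_fst _ _ _
  have hm2 : m ≫ pullback.snd f g = pullback.snd f (gmap A BW) ≫ j := pullback.lift_snd _ _ _
  have hpb : IsPullback m (pullback.snd f (gmap A BW)) (pullback.snd f g) j := by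
    have s : IsPullback (m ≫ pullback.fst f g) (pullback.snd f (gmap A BW)) f (j ≫ g) := by
      rw [hm1, hjg]
      exact IsPullback.of_hasPullback f (gmap A BW)
    exact IsPullback.of_right s hm2 (IsPullback.of_hasPullback f g)
  have himg := Scheme.image_preimage_eq_of_isPullback hpb Z
  have hcl : IsClosed (j ⁻¹' (pullback.snd f g '' Z)) := by
    rw [← himg]
    exact hclosed _ (hZ.preimage m.continuous)
  refine ⟨j '' (j ⁻¹' (pullback.snd f g '' Z))ᶜ, ?_, ?_, ?_⟩
  · rintro _ ⟨x, hx, rfl⟩ hmem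
    exact hx hmem
  · exact j.isOpenEmbedding.isOpenMap _ hcl.isOpen_compl
  · have : t ∈ Set.range j := by
      rw [hW.range_fromSpec]; exact htW
    obtain ⟨t', rfl⟩ := this
    exact ⟨t', ht, rfl⟩

theorem universallyClosed_of_affine_base {R : CommRingCat.{u}} {X : Scheme.{u}}
    (f : X ⟶ Spec R) [QuasiCompact f]
    (H : ∀ (T : Scheme.{u}) (g : T ⟶ Spec R), LocallyOfFiniteType g →
      IsClosedMap (pullback.snd f g)) : UniversallyClosed f := by
  rw [universallyClosed_eq]
  apply MorphismProperty.universally_mk'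
  intro T g _
  have h1 : IsClosedMap (pullback.snd f g) :=
    isClosedMap_snd_of_affine_base (A := R) f H T g
  have e : pullback.fst g f = (pullbackSymmetry g f).hom ≫ pullback.snd f g :=
    (pullbackSymmetry_hom_comp_snd g f).symm
  show IsClosedMap (pullback.fst g f)
  rw [e, Scheme.Hom.comp_base, TopCat.coe_comp]
  exact h1.comp ((pullbackSymmetry g f).hom.homeomorph.isClosedMap)

theorem isClosedMap_snd_snd {X S Y : Scheme.{u}} (f : X ⟶ S) (j : Y ⟶ S) [LocallyOfFiniteType j]
    (H : ∀ (T : Scheme.{u}) (g : T ⟶ S), LocallyOfFiniteType g →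
      IsClosedMap (pullback.snd f g))
    (T : Scheme.{u}) (g : T ⟶ Y) (hg : LocallyOfFiniteType g) :
    IsClosedMap (pullback.snd (pullback.snd f j) g) := by
  have h1 : IsClosedMap (pullback.snd f (g ≫ j)) := H T (g ≫ j) inferInstance
  have h2 : IsClosedMap ((pullbackLeftPullbackSndIso f j g).hom ≫ pullback.snd f (g ≫ j)) := by
    rw [Scheme.Hom.comp_base, TopCat.coe_comp]
    exact h1.comp ((pullbackLeftPullbackSndIso f j g).hom.homeomorph.isClosedMap)
  rw [pullbackLeftPullbackSndIso_hom_snd] at h2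
  exact h2

/-- Tag 05JX-type criterion: a quasi-compact morphism all of whose base changes along morphisms
locally of finite type are closed maps is universally closed. -/
theorem universallyClosed_of_closed_finiteType {X S : Scheme.{u}} (f : X ⟶ S) [QuasiCompact f]
    (H : ∀ (T : Scheme.{u}) (g : T ⟶ S), LocallyOfFiniteType g →
      IsClosedMap (pullback.snd f g)) : UniversallyClosed f := by
  rw [IsZariskiLocalAtTarget.iff_of_openCover (P := @UniversallyClosed) S.affineCover]
  intro i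
  show UniversallyClosed (pullback.snd f (S.affineCover.f i))
  haveI hqc : QuasiCompact (pullback.snd f (S.affineCover.f i)) := inferInstance
  exact @universallyClosed_of_affine_base _ _ (pullback.snd f (S.affineCover.f i)) hqc
    (isClosedMap_snd_snd f (S.affineCover.f i) H)

end Global

end Groth.Agent.Lib.Helper39.UCFT
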