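import Mathlib
import Groth.Agent.Lib.Helper39.UCFT

set_option autoImplicit false
set_option linter.style.haveILetI false
set_option linter.unusedSectionVars false
universe u

open TensorProduct CategoryTheory Limits AlgebraicGeometry

namespace Groth.Agent.Lib.Helper39.UCFT

section Global2

/-- Closedness of the base change is preserved under precomposing the base change morphism with a
preimmersion (e.g. an open or closed immersion, or an isomorphism). -/
theorem isClosedMap_snd_comp_of_isPreimmersion {X S T T' : Scheme.{u}} (f : X ⟶ S) (g : T ⟶ S)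
    (i : T' ⟶ T) [IsPreimmersion i] (h : IsClosedMap (pullback.snd f g)) :
    IsClosedMap (pullback.snd f (i ≫ g)) := by
  let m : pullback f (i ≫ g) ⟶ pullback f g :=
    pullback.lift (pullback.fst f (i ≫ g)) (pullback.snd f (i ≫ g) ≫ i) (by
      rw [Category.assoc]; exact pullback.condition)
  have hm1 : m ≫ pullback.fst f g = pullback.fst f (i ≫ g) := pullback.lift_fst _ _ _
  have hm2 : m ≫ pullback.snd f g = pullback.snd f (i ≫ g) ≫ i := pullback.lift_snd _ _ _
  have hpb : IsPullback m (pullback.snd f (i ≫ g)) (pullback.snd f g) i := by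
    have s : IsPullback (m ≫ pullback.fst f g) (pullback.snd f (i ≫ g)) f (i ≫ g) := by
      rw [hm1]
      exact IsPullback.of_hasPullback f (i ≫ g)
    exact IsPullback.of_right s hm2 (IsPullback.of_hasPullback f g)
  have hmpre : IsPreimmersion m :=
    MorphismProperty.of_isPullback (P := @IsPreimmersion) hpb.flip inferInstance
  intro Z hZ
  have hZeq : Z = m ⁻¹' (closure (m '' Z)) := by
    have := m.isEmbedding.closure_eq_preimage_closure_image Z
    rw [hZ.closure_eq] at this
    exact this
  have himg := Scheme.image_preimage_eq_of_isPullback hpb (closure (m '' Z))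
  rw [← hZeq] at himg
  rw [himg]
  exact (h _ isClosed_closure).preimage i.continuous

theorem isClosedMap_snd_snd_iff {X S Y T : Scheme.{u}} (f : X ⟶ S) (j : Y ⟶ S) (g : T ⟶ Y) :
    IsClosedMap (pullback.snd (pullback.snd f j) g) ↔ IsClosedMap (pullback.snd f (g ≫ j)) := by
  constructor
  · intro h1
    have h2 : IsClosedMap ((pullbackLeftPullbackSndIso f j g).inv ≫
        pullback.snd (pullback.snd f j) g) := by
      rw [Scheme.Hom.comp_base, TopCat.coe_comp]
      exact h1.comp ((pullbackLeftPullbackSndIso f j g).inv.homeomorph.isClosedMap)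
    rw [pullbackLeftPullbackSndIso_inv_snd_snd] at h2
    exact h2
  · intro h1
    have h2 : IsClosedMap ((pullbackLeftPullbackSndIso f j g).hom ≫ pullback.snd f (g ≫ j)) := by
      rw [Scheme.Hom.comp_base, TopCat.coe_comp]
      exact h1.comp ((pullbackLeftPullbackSndIso f j g).hom.homeomorph.isClosedMap)
    rw [pullbackLeftPullbackSndIso_hom_snd] at h2
    exact h2

theorem isClosedMap_snd_of_affine_base' {A : Type u} [CommRing A] {X : Scheme.{u}}
    (f : X ⟶ Spec (.of A)) [QuasiCompact f]
    (H : ∀ (B₀ : Type u) [CommRing B₀] [Algebra A B₀], Algebra.FiniteType A B₀ →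
      IsClosedMap (pullback.snd f (gmap A B₀)))
    (T : Scheme.{u}) (g : T ⟶ Spec (.of A)) : IsClosedMap (pullback.snd f g) := by
  intro Z hZ
  rw [← isOpen_compl_iff, isOpen_iff_forall_mem_open]
  intro t ht
  obtain ⟨_, ⟨W, hW, rfl⟩, htW, -⟩ := T.isBasis_affineOpens.exists_subset_of_mem_open
    (Set.mem_univ t) isOpen_univ
  let BW : Type u := Γ(T, W)
  let j : Spec (.of BW) ⟶ T := hW.fromSpec
  haveI : IsOpenImmersion j := hW.isOpenImmersion_fromSpec
  letI : Algebra A BW := (Spec.preimage (j ≫ g)).hom.toAlgebra
  have hjg : j ≫ g = gmap A BW := by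
    have : CommRingCat.ofHom (algebraMap A BW) = Spec.preimage (j ≫ g) := rfl
    unfold gmap
    rw [this, Spec.map_preimage]
  have hclosed : IsClosedMap (pullback.snd f (gmap A BW)) := by
    apply isClosedMap_snd_of_fg
    intro B₀ hB₀
    apply H
    exact (Subalgebra.fg_iff_finiteType B₀).mp hB₀
  let m : pullback f (gmap A BW) ⟶ pullback f g :=
    pullback.lift (pullback.fst f (gmap A BW)) (pullback.snd f (gmap A BW) ≫ j) (by
      rw [Category.assoc, hjg]; exact pullback.condition)
  have hm1 : m ≫ pullback.fst f g = pullback.fst f (gmap A BW) := pullback.lift_fst _ _ _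
  have hm2 : m ≫ pullback.snd f g = pullback.snd f (gmap A BW) ≫ j := pullback.lift_snd _ _ _
  have hpb : IsPullback m (pullback.snd f (gmap A BW)) (pullback.snd f g) j := by
    have s : IsPullback (m ≫ pullback.fst f g) (pullback.snd f (gmap A BW)) f (j ≫ g) := by
      rw [hm1, hjg]
      exact IsPullback.of_hasPullback f (gmap A BW)
    exact IsPullback.of_right s hm2 (IsPullback.of_hasPullback f g)
  have himg := Scheme.image_preimage_eq_of_isPullback hpb Z
  have hcl : IsClosed (j ⁻¹' (pullback.snd f g '' Z)) := by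
    rw [← himg]
    exact hclosed _ (hZ.preimage m.continuous)
  refine ⟨j '' (j ⁻¹' (pullback.snd f g '' Z))ᶜ, ?_, ?_, ?_⟩
  · rintro _ ⟨x, hx, rfl⟩ hmem
    exact hx hmem
  · exact j.isOpenEmbedding.isOpenMap _ hcl.isOpen_compl
  · have : t ∈ Set.range j := by
      rw [hW.range_fromSpec]; exact htW
    obtain ⟨t', rfl⟩ := this
    exact ⟨t', ht, rfl⟩

theorem universallyClosed_of_affine_base' {R : CommRingCat.{u}} {X : Scheme.{u}}
    (f : X ⟶ Spec R) [QuasiCompact f]
    (H : ∀ (B₀ : Type u) [CommRing B₀] [Algebra R B₀], Algebra.FiniteType R B₀ →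
      IsClosedMap (pullback.snd f (gmap R B₀))) : UniversallyClosed f := by
  rw [universallyClosed_eq]
  apply MorphismProperty.universally_mk'
  intro T g _
  have h1 : IsClosedMap (pullback.snd f g) :=
    isClosedMap_snd_of_affine_base' (A := R) f H T g
  have e : pullback.fst g f = (pullbackSymmetry g f).hom ≫ pullback.snd f g :=
    (pullbackSymmetry_hom_comp_snd g f).symm
  show IsClosedMap (pullback.fst g f)
  rw [e, Scheme.Hom.comp_base, TopCat.coe_comp]
  exact h1.comp ((pullbackSymmetry g f).hom.homeomorph.isClosedMap)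

end Global2

end Groth.Agent.Lib.Helper39.UCFT
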