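import Mathlib

/-
Helper39 library: bounding the number of characters of an algebra by the length of `B/A`
(used for "geometric branches ≤ δ + 1").
-/

namespace Groth.Agent.Lib.Helper39.Branch

open Module

/-- `ENat.card α ≤ k` as soon as every finite subset has at most `k` elements. -/
theorem enat_card_le_of_forall_finset {α : Type*} (k : ℕ)
    (h : ∀ s : Finset α, s.card ≤ k) : ENat.card α ≤ k := by
  classical
  by_cases hfin : Finite α
  · have := Fintype.ofFinite α
    rw [ENat.card_eq_coe_fintype_card]
    exact_mod_cast h Finset.univ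
  · rw [not_finite_iff_infinite] at hfin
    obtain ⟨s, hs⟩ := Infinite.exists_subset_card_eq α (k + 1)
    have := h s
    omega

section ClaimC
variable {A Ω : Type*} [CommRing A] [Field Ω] [Algebra A Ω]

/-- If an `A`-module `M` maps `A`-linearly to a `d`-dimensional `Ω`-vector space with `Ω`-spanning
image, then `d ≤ ℓ_A(M)`. -/
theorem finrank_le_length_of_span_range_eq_top :
    ∀ (d : ℕ) {Q : Type*} [AddCommGroup Q] [Module Ω Q] [Module A Q] [IsScalarTower A Ω Q]
      [FiniteDimensional Ω Q] {M : Type*} [AddCommGroup M] [Module A M] (g : M →ₗ[A] Q),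
      Submodule.span Ω (Set.range g) = ⊤ → Module.finrank Ω Q = d → (d : ℕ∞) ≤ Module.length A M := by
  intro d
  induction d with
  | zero => intros; simp
  | succ d ih =>
    intro Q _ _ _ _ _ M _ _ g hspan hd
    -- pick `m` with `g m ≠ 0`
    have hQ : Nontrivial Q := Module.nontrivial_of_finrank_pos (R := Ω) (by omega)
    have hex : ∃ m : M, g m ≠ 0 := by
      by_contra hcon
      push Not at hcon
      have : Set.range g ⊆ {0} := by rintro _ ⟨m, rfl⟩; exact hcon m
      have h2 : Submodule.span Ω (Set.range g) ≤ ⊥ := by
        rw [Submodule.span_le]; intro x hx; simpa using this hx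
      rw [hspan] at h2
      exact top_ne_bot (le_bot_iff.mp h2)
    obtain ⟨m, hm⟩ := hex
    let P : Submodule Ω Q := Submodule.span Ω {g m}
    let N : Submodule A M := Submodule.span A {m}
    -- induced map on quotients
    let g' : M →ₗ[A] Q ⧸ P := (P.mkQ.restrictScalars A) ∘ₗ g
    have hN : N ≤ LinearMap.ker g' := by
      rw [Submodule.span_le]
      rintro _ rfl
      simp only [SetLike.mem_coe, LinearMap.mem_ker, g', LinearMap.comp_apply,
        LinearMap.coe_restrictScalars, Submodule.mkQ_apply, Submodule.Quotient.mk_eq_zero, P]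
      exact Submodule.mem_span_singleton_self _
    let g'' : M ⧸ N →ₗ[A] Q ⧸ P := N.liftQ g' hN
    have hspan'' : Submodule.span Ω (Set.range g'') = ⊤ := by
      have hr : Set.range g'' = P.mkQ '' Set.range g := by
        ext y
        constructor
        · rintro ⟨x, rfl⟩
          induction x using Submodule.Quotient.induction_on with | H x => ?_
          exact ⟨g x, ⟨x, rfl⟩, rfl⟩
        · rintro ⟨_, ⟨x, rfl⟩, rfl⟩
          exact ⟨Submodule.Quotient.mk x, rfl⟩
      rw [hr, ← Submodule.map_span, hspan, Submodule.map_top, LinearMap.range_eq_top]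
      exact Submodule.mkQ_surjective P
    have hd'' : Module.finrank Ω (Q ⧸ P) = d := by
      have h1 := Submodule.finrank_quotient_add_finrank P
      have h2 : Module.finrank Ω P = 1 := finrank_span_singleton hm
      omega
    have h3 := ih g'' hspan'' hd''
    -- additivity of length
    have h4 := Module.length_eq_add_of_exact N.subtype N.mkQ N.subtype_injective
      N.mkQ_surjective (LinearMap.exact_subtype_mkQ N)
    have h5 : (1 : ℕ∞) ≤ Module.length A N := by
      have : Nontrivial N := ⟨⟨⟨m, Submodule.mem_span_singleton_self m⟩, 0, fun h => hm (by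
        have : m = 0 := congrArg Subtype.val h
        rw [this, map_zero])⟩⟩
      have := Module.length_pos (R := A) (M := N)
      exact Order.one_le_iff_pos.mpr this
    rw [h4]
    calc ((d + 1 : ℕ) : ℕ∞) = 1 + d := by push_cast; ring
      _ ≤ Module.length A N + Module.length A (M ⧸ N) := add_le_add h5 h3

end ClaimC


section CharBound
variable {A B Ω : Type*} [CommRing A] [CommRing B] [Field Ω] [Algebra A B] [Algebra A Ω]

/-- Finitely many distinct ring homomorphisms `B → Ω` restricting to the structure map on `A`:
their number is at most `ℓ_A(B/A) + 1`. -/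
theorem card_le_length_add_one (s : Finset (B →+* Ω))
    (hs : ∀ χ ∈ s, ∀ a : A, χ (algebraMap A B a) = algebraMap A Ω a) :
    (s.card : ℕ∞) ≤ Module.length A (B ⧸ LinearMap.range (Algebra.linearMap A B)) + 1 := by
  classical
  by_cases hne : s.Nonempty
  swap
  · rw [Finset.not_nonempty_iff_eq_empty] at hne
    simp [hne]
  have : Nonempty s := hne.to_subtype
  let Φ : B →ₗ[A] (s → Ω) :=
    { toFun := fun b χ => χ.1 b
      map_add' := by intro x y; ext χ; simp
      map_smul' := by
        intro a b; ext χ
        simp [Algebra.smul_def, hs χ.1 χ.2] }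
  -- the image of `Φ` spans
  have hspanΦ : Submodule.span Ω (Set.range Φ) = ⊤ := by
    by_contra h
    obtain ⟨f, hf0, hf⟩ := Submodule.exists_le_ker_of_lt_top _ (lt_top_iff_ne_top.mpr h)
    apply hf0
    have hli : LinearIndependent Ω (fun χ : s => ((χ.1 : B →+* Ω) : B → Ω)) := by
      have h1 := linearIndependent_monoidHom B Ω
      have h2 : Function.Injective (fun χ : s => ((χ.1 : B →+* Ω) : B →* Ω)) := by
        intro χ χ' h
        apply Subtype.ext
        ext b
        exact congrArg (fun ψ : B →* Ω => ψ b) h
      exact h1.comp _ h2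
    have hc : ∀ χ : s, f (fun j => if χ = j then 1 else 0) = 0 := by
      apply Fintype.linearIndependent_iff.mp hli
      ext b
      have h3 : f (Φ b) = 0 := hf (Submodule.subset_span ⟨b, rfl⟩)
      rw [LinearMap.pi_apply_eq_sum_univ f (Φ b)] at h3
      simp only [Finset.sum_apply, Pi.smul_apply, smul_eq_mul, Pi.zero_apply]
      refine Eq.trans (Finset.sum_congr rfl fun χ _ => ?_) h3
      simp only [Φ, LinearMap.coe_mk, AddHom.coe_mk, smul_eq_mul]
      exact mul_comm _ _
    refine LinearMap.ext fun v => ?_
    rw [LinearMap.pi_apply_eq_sum_univ f v]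
    simp [hc]
  let e1 : s → Ω := fun _ => 1
  have he1 : e1 ≠ 0 := by
    intro h
    have := congrFun h (Classical.arbitrary s)
    simp [e1] at this
  let P : Submodule Ω (s → Ω) := Submodule.span Ω {e1}
  let g' : B →ₗ[A] (s → Ω) ⧸ P := (P.mkQ.restrictScalars A) ∘ₗ Φ
  have hN : LinearMap.range (Algebra.linearMap A B) ≤ LinearMap.ker g' := by
    rintro _ ⟨a, rfl⟩
    simp only [LinearMap.mem_ker, g', LinearMap.comp_apply, LinearMap.coe_restrictScalars,
      Submodule.mkQ_apply, Submodule.Quotient.mk_eq_zero, P, Submodule.mem_span_singleton]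
    refine ⟨algebraMap A Ω a, ?_⟩
    ext χ
    simp [Φ, e1, hs χ.1 χ.2]
  let g'' := (LinearMap.range (Algebra.linearMap A B)).liftQ g' hN
  have hspan'' : Submodule.span Ω (Set.range g'') = ⊤ := by
    have hr : Set.range g'' = P.mkQ '' Set.range Φ := by
      ext y
      constructor
      · rintro ⟨x, rfl⟩
        induction x using Submodule.Quotient.induction_on with | H x => ?_
        exact ⟨Φ x, ⟨x, rfl⟩, rfl⟩
      · rintro ⟨_, ⟨x, rfl⟩, rfl⟩
        exact ⟨Submodule.Quotient.mk x, rfl⟩
    rw [hr, ← Submodule.map_span, hspanΦ, Submodule.map_top, LinearMap.range_eq_top]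
    exact Submodule.mkQ_surjective P
  have hd : Module.finrank Ω ((s → Ω) ⧸ P) = s.card - 1 := by
    have h1 := Submodule.finrank_quotient_add_finrank P
    have h2 : Module.finrank Ω P = 1 := finrank_span_singleton he1
    have h3 : Module.finrank Ω (s → Ω) = s.card := by simp
    omega
  have h4 := finrank_le_length_of_span_range_eq_top (s.card - 1) g'' hspan'' hd
  have hpos : 1 ≤ s.card := Finset.card_pos.mpr hne
  calc (s.card : ℕ∞) = ((s.card - 1 : ℕ) : ℕ∞) + 1 := by
        have : s.card = (s.card - 1) + 1 := by omega
        conv_lhs => rw [this]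
        push_cast; rfl
    _ ≤ _ := by gcongr

end CharBound

section Transport
variable {A R : Type*} [CommRing A] [CommRing R] (e0 : A ≃+* R)

/-- transport of the normalization along a ring isomorphism `A ≃ R`: a surjective ring map
`A' → R'` compatible with `e0`. -/
theorem exists_surjective_integralClosure_map :
    ∃ ψ : integralClosure A (FractionRing A) →+* integralClosure R (FractionRing R),
      Function.Surjective ψ ∧ ∀ a : A, ψ (algebraMap A _ a) = algebraMap R _ (e0 a) := by
  let E : FractionRing A ≃+* FractionRing R := IsFractionRing.ringEquivOfRingEquiv e0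
  have hE : ∀ a : A, E (algebraMap A _ a) = algebraMap R _ (e0 a) :=
    IsFractionRing.ringEquivOfRingEquiv_algebraMap e0
  have hEs : ∀ r : R, E.symm (algebraMap R _ r) = algebraMap A _ (e0.symm r) := by
    intro r
    rw [RingEquiv.symm_apply_eq, hE, RingEquiv.apply_symm_apply]
  have h1 : ∀ x : FractionRing A, IsIntegral A x → IsIntegral R (E x) := by
    intro x hx
    refine IsIntegral.map_of_comp_eq (e0 : A →+* R) (E : FractionRing A →+* FractionRing R) ?_ hx
    ext a
    simp [hE]
  have h2 : ∀ y : FractionRing R, IsIntegral R y → IsIntegral A (E.symm y) := by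
    intro y hy
    refine IsIntegral.map_of_comp_eq (e0.symm : R →+* A)
      (E.symm : FractionRing R →+* FractionRing A) ?_ hy
    ext r
    simp [hEs]
  let ψ : integralClosure A (FractionRing A) →+* integralClosure R (FractionRing R) :=
    { toFun := fun x => ⟨E x.1, h1 x.1 x.2⟩
      map_one' := by ext; simp
      map_mul' := by intro x y; ext; simp
      map_zero' := by ext; simp
      map_add' := by intro x y; ext; simp }
  refine ⟨ψ, ?_, ?_⟩
  · intro y
    refine ⟨⟨E.symm y.1, h2 y.1 y.2⟩, ?_⟩
    ext
    simp [ψ]
  · intro a
    ext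
    simp only [ψ, RingHom.coe_mk, MonoidHom.coe_mk, OneHom.coe_mk]
    exact hE a

/-- The δ-invariant does not grow along a ring isomorphism. -/
theorem length_integralClosure_le_of_ringEquiv
    [Algebra A (integralClosure R (FractionRing R))]
    (halg : ∀ a : A, algebraMap A (integralClosure R (FractionRing R)) a
      = algebraMap R _ (e0 a)) :
    Module.length A (integralClosure R (FractionRing R) ⧸
        LinearMap.range (Algebra.linearMap A (integralClosure R (FractionRing R))))
      ≤ Module.length A (integralClosure A (FractionRing A) ⧸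
        LinearMap.range (Algebra.linearMap A (integralClosure A (FractionRing A)))) := by
  obtain ⟨ψ, hψs, hψ⟩ := exists_surjective_integralClosure_map e0
  let ψl : integralClosure A (FractionRing A) →ₗ[A] integralClosure R (FractionRing R) :=
    { toFun := ψ
      map_add' := map_add ψ
      map_smul' := by
        intro a x
        simp only [Algebra.smul_def, map_mul, hψ, halg, RingHom.id_apply] }
  let P := LinearMap.range (Algebra.linearMap A (integralClosure R (FractionRing R)))
  let g : integralClosure A (FractionRing A) →ₗ[A] integralClosure R (FractionRing R) ⧸ P :=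
    P.mkQ ∘ₗ ψl
  have hg : LinearMap.range (Algebra.linearMap A (integralClosure A (FractionRing A)))
      ≤ LinearMap.ker g := by
    rintro _ ⟨a, rfl⟩
    simp only [LinearMap.mem_ker, g, LinearMap.comp_apply, Submodule.mkQ_apply,
      Submodule.Quotient.mk_eq_zero, P]
    refine ⟨a, ?_⟩
    simp only [Algebra.linearMap_apply, ψl, LinearMap.coe_mk, AddHom.coe_mk, hψ, halg]
  let g' := (LinearMap.range (Algebra.linearMap A (integralClosure A (FractionRing A)))).liftQ g hg
  have hsurj : Function.Surjective g' := by
    intro y
    induction y using Submodule.Quotient.induction_on with | H y => ?_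
    obtain ⟨x, rfl⟩ := hψs y
    exact ⟨Submodule.Quotient.mk x, rfl⟩
  exact Module.length_le_of_surjective g' hsurj

end Transport

end Groth.Agent.Lib.Helper39.Branch
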