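import Mathlib

set_option autoImplicit false
set_option linter.style.haveILetI false
set_option linter.unusedSectionVars false
universe u

namespace Groth.Agent.Lib.Helper39.BranchFib

section RingA

variable {A B C : Type*} (R : Type*) [CommRing A] [CommRing B] [CommRing C] [CommRing R]
  [Algebra A B] [Algebra B C] [Algebra A R] [Algebra R C] [Algebra A C]
  [IsScalarTower A B C] [IsScalarTower A R C]
  (p : Ideal A) [p.IsPrime] [IsLocalization.AtPrime R p]
  [IsLocalization (Algebra.algebraMapSubmonoid B p.primeCompl) C] [Algebra.IsIntegral R C]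

theorem comap_comap_eq (Q : Ideal C) :
    (Q.comap (algebraMap B C)).comap (algebraMap A B) =
      (Q.comap (algebraMap R C)).comap (algebraMap A R) := by
  rw [Ideal.comap_comap, Ideal.comap_comap, ← IsScalarTower.algebraMap_eq,
    ← IsScalarTower.algebraMap_eq]

include R in
theorem comap_eq_of_isMaximal (Q : Ideal C) [hQ : Q.IsMaximal] :
    (Q.comap (algebraMap B C)).comap (algebraMap A B) = p := by
  have := IsLocalization.AtPrime.isLocalRing R p
  rw [comap_comap_eq R]
  have h1 : (Q.comap (algebraMap R C)).IsMaximal :=
    Ideal.isMaximal_comap_of_isIntegral_of_isMaximal Q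
  rw [IsLocalRing.eq_maximalIdeal h1]
  exact IsLocalization.AtPrime.under_maximalIdeal R p

theorem disjoint_of_comap_eq (q : Ideal B) (hq : q.comap (algebraMap A B) = p) :
    Disjoint (Algebra.algebraMapSubmonoid B p.primeCompl : Set B) (q : Set B) := by
  rw [Set.disjoint_left]
  rintro _ ⟨a, ha, rfl⟩ hmem
  apply ha
  rw [← hq]
  exact hmem

include R in
theorem isMaximal_map_of_comap_eq (q : Ideal B) [hqp : q.IsPrime]
    (hq : q.comap (algebraMap A B) = p) : (q.map (algebraMap B C)).IsMaximal := by
  have hloc := IsLocalization.AtPrime.isLocalRing R p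
  have hd := disjoint_of_comap_eq p q hq
  have hprime : (q.map (algebraMap B C)).IsPrime :=
    IsLocalization.isPrime_of_isPrime_disjoint (Algebra.algebraMapSubmonoid B p.primeCompl) C q hqp hd
  have hcomap : (q.map (algebraMap B C)).comap (algebraMap B C) = q :=
    IsLocalization.under_map_of_isPrime_disjoint (Algebra.algebraMapSubmonoid B p.primeCompl) C hqp hd
  apply Ideal.isMaximal_of_isIntegral_of_isMaximal_comap (R := R)
  have hP : ((q.map (algebraMap B C)).comap (algebraMap R C)).IsPrime := Ideal.comap_isPrime _ _
  have h2 : ((q.map (algebraMap B C)).comap (algebraMap R C)).comap (algebraMap A R) = p := by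
    have h := (comap_comap_eq (A := A) (B := B) R (q.map (algebraMap B C))).symm
    rw [hcomap, hq] at h
    exact h
  have h3 : (IsLocalRing.maximalIdeal R).comap (algebraMap A R) = p :=
    IsLocalization.AtPrime.under_maximalIdeal R p
  have h4 : (⟨(q.map (algebraMap B C)).comap (algebraMap R C), hP⟩ : PrimeSpectrum R) =
      ⟨IsLocalRing.maximalIdeal R, inferInstance⟩ := by
    apply PrimeSpectrum.localization_comap_injective R p.primeCompl
    apply PrimeSpectrum.ext
    exact h2.trans h3.symm
  have h5 := congr_arg PrimeSpectrum.asIdeal h4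
  rw [show (q.map (algebraMap B C)).comap (algebraMap R C) = IsLocalRing.maximalIdeal R from h5]
  infer_instance

include R in
/-- Maximal ideals of `C = B_p` correspond to primes of `B` over `p`. -/
noncomputable def maxSpecEquiv :
    MaximalSpectrum C ≃ {q : PrimeSpectrum B // q.asIdeal.comap (algebraMap A B) = p} where
  toFun Q := ⟨⟨Q.asIdeal.comap (algebraMap B C), Ideal.comap_isPrime _ _⟩,
    comap_eq_of_isMaximal R p Q.asIdeal⟩
  invFun q := ⟨q.1.asIdeal.map (algebraMap B C),
    isMaximal_map_of_comap_eq R p q.1.asIdeal q.2⟩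
  left_inv Q := by
    apply MaximalSpectrum.ext
    exact IsLocalization.map_under (Algebra.algebraMapSubmonoid B p.primeCompl) C Q.asIdeal
  right_inv q := by
    apply Subtype.ext
    apply PrimeSpectrum.ext
    exact IsLocalization.under_map_of_isPrime_disjoint (Algebra.algebraMapSubmonoid B p.primeCompl) C
      q.1.2 (disjoint_of_comap_eq p q.1.asIdeal q.2)

/-- Ring homs out of `C = B_p` to a field, compatible with `t : R → Ω`, correspond to ring homs out
of `B` compatible on `A`. -/
noncomputable def homEquiv {Ω : Type*} [Field Ω] (t : R →+* Ω) :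
    {τ : C →+* Ω // τ.comp (algebraMap R C) = t} ≃
      {σ : B →+* Ω // σ.comp (algebraMap A B) = t.comp (algebraMap A R)} where
  toFun τ := ⟨τ.1.comp (algebraMap B C), by
    rw [RingHom.comp_assoc, ← IsScalarTower.algebraMap_eq, IsScalarTower.algebraMap_eq A R C,
      ← RingHom.comp_assoc, τ.2]⟩
  invFun σ := ⟨IsLocalization.lift (M := Algebra.algebraMapSubmonoid B p.primeCompl) (g := σ.1) (by
      rintro ⟨_, a, ha, rfl⟩
      have h1 : σ.1 (algebraMap A B a) = t (algebraMap A R a) := congr($(σ.2) a)
      show IsUnit (σ.1 (algebraMap A B a))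
      rw [h1]
      exact (IsLocalization.map_units R (⟨a, ha⟩ : p.primeCompl)).map t), by
    apply IsLocalization.ringHom_ext p.primeCompl
    rw [RingHom.comp_assoc, ← IsScalarTower.algebraMap_eq, IsScalarTower.algebraMap_eq A B C,
      ← RingHom.comp_assoc, IsLocalization.lift_comp, σ.2]⟩
  left_inv τ := by
    apply Subtype.ext
    apply IsLocalization.ringHom_ext (Algebra.algebraMapSubmonoid B p.primeCompl)
    rw [IsLocalization.lift_comp]
  right_inv σ := by
    apply Subtype.ext
    exact IsLocalization.lift_comp _

end RingA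

end Groth.Agent.Lib.Helper39.BranchFib
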