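import Mathlib
import Groth.Prelude.Def_CAlg2

set_option autoImplicit false
set_option linter.style.haveILetI false
set_option linter.unusedSectionVars false
universe u

namespace Groth.Agent.Lib.Helper39.BranchFib

section RingB

theorem exists_integralClosure_isLocalization (A : Type u) [CommRing A] [IsDomain A]
    (p : Ideal A) [p.IsPrime] (L : Type u) [Field L] [Algebra A L] [IsFractionRing A L]
    (S : Type u) [CommRing S] [Algebra A S] [IsLocalization.AtPrime S p] :
    ∃ (j : integralClosure A L →+* integralClosure S (FractionRing S)),
      (letI := j.toAlgebra
       IsLocalization (Algebra.algebraMapSubmonoid (integralClosure A L) p.primeCompl)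
        (integralClosure S (FractionRing S))) ∧
      ∀ a : A, j (algebraMap A (integralClosure A L) a) =
        algebraMap S (integralClosure S (FractionRing S)) (algebraMap A S a) := by
  have hSdom : IsDomain S := IsLocalization.isDomain_of_atPrime S p
  have hAS : Function.Injective (algebraMap A S) :=
    IsLocalization.injective S (Ideal.primeCompl_le_nonZeroDivisors p)
  let F := FractionRing S
  have hAF : Function.Injective (algebraMap A F) := by
    rw [IsScalarTower.algebraMap_eq A S F]
    exact (IsFractionRing.injective S F).comp hAS
  -- F is a fraction field of A
  haveI : IsFractionRing A F := by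
    have h := IsLocalization.localization_localization_isLocalization_of_has_all_units
      p.primeCompl (nonZeroDivisors S) F (fun x hx => hx.mem_nonZeroDivisors)
    have heq : (nonZeroDivisors S).comap (algebraMap A S) = nonZeroDivisors A := by
      ext a
      simp only [Submonoid.mem_comap, mem_nonZeroDivisors_iff_ne_zero, ne_eq,
        map_eq_zero_iff _ hAS]
    rw [heq] at h
    exact h
  letI : Algebra L F := (IsFractionRing.lift hAF).toAlgebra
  haveI : IsScalarTower A L F := IsScalarTower.of_algebraMap_eq (fun a =>
    (IsFractionRing.lift_algebraMap hAF a).symm)
  have hLF : Function.Bijective (algebraMap L F) := by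
    let e : L ≃ₐ[A] F := IsLocalization.algEquiv (nonZeroDivisors A) L F
    have : (algebraMap L F) = (e : L →+* F) := by
      apply IsLocalization.ringHom_ext (nonZeroDivisors A)
      ext a
      simp only [RingHom.comp_apply]
      rw [← IsScalarTower.algebraMap_apply A L F]
      exact (e.commutes a).symm
    rw [this]
    exact e.bijective
  haveI : IsLocalization (Algebra.algebraMapSubmonoid L p.primeCompl) F := by
    apply IsLocalization.of_le_isUnit_of_bijective _ hLF
    rintro _ ⟨_, ⟨a, ha, rfl⟩, rfl⟩
    have ha0 : a ≠ 0 := fun h => ha (h ▸ p.zero_mem)
    have : algebraMap L F (algebraMap A L a) ≠ 0 := by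
      rw [← IsScalarTower.algebraMap_apply A L F]
      exact fun h => ha0 (hAF (h.trans (map_zero _).symm))
    exact IsUnit.mk0 _ this
  let j : integralClosure A L →+* integralClosure S F :=
    RingHom.codRestrict ((algebraMap L F).comp (integralClosure A L).val.toRingHom)
      (integralClosure S F) (fun b => by
        have h1 : IsIntegral A (b : L) := b.2
        have h2 : IsIntegral A (algebraMap L F (b : L)) := h1.algebraMap
        exact h2.tower_top)
  refine ⟨j, ?_, ?_⟩
  · letI := j.toAlgebra
    haveI : IsScalarTower (integralClosure A L) (integralClosure S F) F :=
      IsScalarTower.of_algebraMap_eq (fun _ => rfl)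
    haveI : IsScalarTower A (integralClosure A L) (integralClosure S F) :=
      IsScalarTower.of_algebraMap_eq (fun a => by
        apply Subtype.ext
        show algebraMap A F a = algebraMap L F (algebraMap A L a)
        rw [← IsScalarTower.algebraMap_apply A L F])
    exact IsLocalization.integralClosure (R := A) (S := L) (Rf := S) (Sf := F) p.primeCompl
  · intro a
    apply Subtype.ext
    show algebraMap L F (algebraMap A L a) = algebraMap S F (algebraMap A S a)
    rw [← IsScalarTower.algebraMap_apply A L F, ← IsScalarTower.algebraMap_apply A S F]

end RingB

end Groth.Agent.Lib.Helper39.BranchFib
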