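import Mathlib
import Groth.Prelude.Def_Brnch
import Groth.Agent.Lib.Helper39.BranchFibA
import Groth.Agent.Lib.Helper39.BranchFibB

set_option autoImplicit false
set_option linter.style.haveILetI false
set_option linter.unusedSectionVars false
universe u

namespace Groth.Agent.Lib.Helper39.BranchFib

section RingC

/-- Ring homs to a field out of an integral extension `C` of `R`, restricting to `t` on `R` with
`ker t` maximal, are the same as pairs (maximal ideal, embedding of the residue field). -/
theorem sigma_quot_bijective {R C Ω : Type*} [CommRing R] [CommRing C] [Field Ω]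
    (φ : R →+* C) (hφ : φ.IsIntegral) (t : R →+* Ω) (ht : (RingHom.ker t).IsMaximal) :
    Function.Bijective
      (fun (z : Σ m : MaximalSpectrum C,
          {σ : C ⧸ m.asIdeal →+* Ω // σ.comp ((Ideal.Quotient.mk m.asIdeal).comp φ) = t}) =>
        (⟨z.2.1.comp (Ideal.Quotient.mk z.1.asIdeal), by
          rw [RingHom.comp_assoc]; exact z.2.2⟩ : {τ : C →+* Ω // τ.comp φ = t})) := by
  have hker : ∀ (m : Ideal C) (hm : m.IsMaximal) (σ : C ⧸ m →+* Ω),
      RingHom.ker (σ.comp (Ideal.Quotient.mk m)) = m := by
    intro m hm σ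
    letI := Ideal.Quotient.field m
    ext c
    rw [RingHom.mem_ker, RingHom.comp_apply, map_eq_zero_iff σ σ.injective,
      Ideal.Quotient.eq_zero_iff_mem]
  constructor
  · rintro ⟨⟨m1, h1⟩, σ1, hσ1⟩ ⟨⟨m2, h2⟩, σ2, hσ2⟩ h
    have h' : σ1.comp (Ideal.Quotient.mk m1) = σ2.comp (Ideal.Quotient.mk m2) :=
      congr_arg Subtype.val h
    have hm : m1 = m2 := by
      rw [← hker m1 h1 σ1, ← hker m2 h2 σ2, h']
    subst hm
    have hσ : σ1 = σ2 := Ideal.Quotient.ringHom_ext h'
    subst hσ
    rfl
  · rintro ⟨τ, hτ⟩
    have hmax : (RingHom.ker τ).IsMaximal := by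
      have hp : (RingHom.ker τ).IsPrime := RingHom.ker_isPrime τ
      have hc : (RingHom.ker τ).comap φ = RingHom.ker t := by
        rw [← hτ]; rfl
      letI := φ.toAlgebra
      have : Algebra.IsIntegral R C := ⟨hφ⟩
      apply Ideal.isMaximal_of_isIntegral_of_isMaximal_comap (R := R)
      show ((RingHom.ker τ).comap φ).IsMaximal
      rw [hc]; exact ht
    have hl : ∀ a ∈ RingHom.ker τ, τ a = 0 := fun a ha => (RingHom.mem_ker).mp ha
    refine ⟨⟨⟨RingHom.ker τ, hmax⟩, ⟨Ideal.Quotient.lift (RingHom.ker τ) τ hl, ?_⟩⟩, ?_⟩
    · show ((Ideal.Quotient.lift (RingHom.ker τ) τ hl).comp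
        (Ideal.Quotient.mk (RingHom.ker τ))).comp φ = t
      rw [Ideal.Quotient.lift_comp_mk]
      exact hτ
    · apply Subtype.ext
      exact Ideal.Quotient.lift_comp_mk _ _ _

end RingC

end Groth.Agent.Lib.Helper39.BranchFib

namespace Groth.Agent.Lib.Helper39.BranchFib

section RingD

theorem ring_package (A : Type u) [CommRing A] [IsDomain A] (p : Ideal A) [p.IsPrime]
    (R : Type u) [CommRing R] [Algebra A R] [IsLocalization.AtPrime R p] [IsLocalRing R]
    (L : Type u) [CommRing L] [Algebra A L] (hL : IsField L) [IsFractionRing A L]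
    (B' : Type u) [CommRing B'] (f : A →+* B') (e : B' ≃+* integralClosure A L)
    (he : ∀ a, e (f a) = algebraMap A (integralClosure A L) a) :
    Nonempty (MaximalSpectrum (CAlg2.normRed R) ≃
      {q' : PrimeSpectrum B' // q'.asIdeal.comap f = p}) ∧
    Nonempty ((Σ m' : MaximalSpectrum (CAlg2.normRed R), Brnch.Emb R m') ≃
      {σ : B' →+* AlgebraicClosure (IsLocalRing.ResidueField R) //
        σ.comp f = (Brnch.toClosure R).comp (algebraMap A R)}) := by
  let _ := hL.toField
  have hRdom : IsDomain R := IsLocalization.isDomain_of_atPrime R p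
  have hnil : nilradical R = ⊥ := nilradical_eq_zero R
  have hbij : Function.Bijective (Ideal.Quotient.mkₐ A (nilradical R)) := by
    constructor
    · rw [injective_iff_map_eq_zero]
      intro r hr
      have : r ∈ nilradical R := Ideal.Quotient.eq_zero_iff_mem.mp hr
      rw [hnil] at this
      exact this
    · exact Ideal.Quotient.mk_surjective
  let eRS : R ≃ₐ[A] CAlg2.red R := AlgEquiv.ofBijective (Ideal.Quotient.mkₐ A (nilradical R)) hbij
  haveI : IsLocalization.AtPrime (CAlg2.red R) p :=
    IsLocalization.isLocalization_of_algEquiv p.primeCompl eRS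
  obtain ⟨j, hj, hjc⟩ := exists_integralClosure_isLocalization A p L (CAlg2.red R)
  letI := j.toAlgebra
  haveI : IsScalarTower A (integralClosure A L) (CAlg2.normRed R) :=
    IsScalarTower.of_algebraMap_eq (fun a => by
      rw [IsScalarTower.algebraMap_apply A (CAlg2.red R) (CAlg2.normRed R)]
      exact (hjc a).symm)
  haveI : Algebra.IsIntegral R (CAlg2.red R) :=
    Algebra.isIntegral_of_surjective Ideal.Quotient.mk_surjective
  haveI : Algebra.IsIntegral R (CAlg2.normRed R) := Algebra.IsIntegral.trans (CAlg2.red R)
  have hes : ∀ b, f b = e.symm (algebraMap A (integralClosure A L) b) := fun b => by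
    rw [← he, e.symm_apply_apply]
  constructor
  · have E1 := maxSpecEquiv (A := A) (B := integralClosure A L) (C := CAlg2.normRed R) R p
    refine ⟨E1.trans ?_⟩
    refine
      { toFun := fun q => ⟨PrimeSpectrum.comap (e : B' →+* integralClosure A L) q.1, ?_⟩
        invFun := fun q' => ⟨PrimeSpectrum.comap (e.symm : integralClosure A L →+* B') q'.1, ?_⟩
        left_inv := ?_
        right_inv := ?_ }
    · refine Eq.trans ?_ q.2
      ext a
      simp only [PrimeSpectrum.comap_asIdeal, Ideal.mem_comap]
      rw [← he]; rfl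
    · refine Eq.trans ?_ q'.2
      ext a
      simp only [PrimeSpectrum.comap_asIdeal, Ideal.mem_comap]
      rw [hes]; rfl
    · intro q
      apply Subtype.ext
      apply PrimeSpectrum.ext
      ext b
      simp only [PrimeSpectrum.comap_asIdeal, Ideal.mem_comap]
      show e (e.symm b) ∈ _ ↔ _
      rw [e.apply_symm_apply]
    · intro q'
      apply Subtype.ext
      apply PrimeSpectrum.ext
      ext b
      simp only [PrimeSpectrum.comap_asIdeal, Ideal.mem_comap]
      show e.symm (e b) ∈ _ ↔ _
      rw [e.symm_apply_apply]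
  · have hker : (RingHom.ker (Brnch.toClosure R)).IsMaximal := by
      have : RingHom.ker (Brnch.toClosure R) = IsLocalRing.maximalIdeal R := by
        ext r
        rw [RingHom.mem_ker]
        unfold Brnch.toClosure
        rw [RingHom.comp_apply, map_eq_zero_iff _ (RingHom.injective _), IsLocalRing.residue_eq_zero_iff]
      rw [this]; infer_instance
    have hφ : (algebraMap R (CAlg2.normRed R)).IsIntegral := Algebra.IsIntegral.isIntegral
    have E0 := Equiv.ofBijective _
      (sigma_quot_bijective (algebraMap R (CAlg2.normRed R)) hφ (Brnch.toClosure R) hker)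
    have E2 := homEquiv (A := A) (B := integralClosure A L) (C := CAlg2.normRed R) R p
      (Brnch.toClosure R)
    refine ⟨(Equiv.trans ?_ E0).trans (E2.trans ?_)⟩
    · exact Equiv.refl _
    · refine
        { toFun := fun σ => ⟨σ.1.comp (e : B' →+* integralClosure A L), ?_⟩
          invFun := fun σ' => ⟨σ'.1.comp (e.symm : integralClosure A L →+* B'), ?_⟩
          left_inv := ?_
          right_inv := ?_ }
      · refine Eq.trans ?_ σ.2
        ext a
        simp only [RingHom.comp_apply]
        rw [← he]; rfl
      · refine Eq.trans ?_ σ'.2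
        ext a
        simp only [RingHom.comp_apply]
        rw [hes]; rfl
      · intro σ
        apply Subtype.ext
        ext b
        show σ.1 (e (e.symm b)) = _
        rw [e.apply_symm_apply]
      · intro σ'
        apply Subtype.ext
        ext b
        show σ'.1 (e.symm (e b)) = _
        rw [e.symm_apply_apply]

end RingD

end Groth.Agent.Lib.Helper39.BranchFib
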