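import Mathlib

set_option autoImplicit false
set_option linter.style.haveILetI false
set_option linter.unusedSectionVars false
universe u

namespace Groth.Agent.Lib.Helper39.BranchFib

section Card

theorem ENat.summable' {ι : Type*} (f : ι → ℕ∞) : Summable f :=
  (hasSum_of_isLUB _ (isLUB_iSup (f := fun s : Finset ι => ∑ i ∈ s, f i))).summable

theorem ENat.toENNReal_tsum {ι : Type*} (f : ι → ℕ∞) :
    ENat.toENNReal (∑' i, f i) = ∑' i, ENat.toENNReal (f i) :=
  (ENat.summable' f).map_tsum ENat.toENNRealRingHom ENat.continuous_toENNReal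

theorem ENat.card_sigma_eq_tsum {ι : Type*} (α : ι → Type*) :
    ENat.card (Σ i, α i) = ∑' i, ENat.card (α i) := by
  apply ENat.toENNReal_strictMono.injective
  rw [ENat.toENNReal_tsum, ← ENNReal.tsum_one, ENNReal.tsum_sigma']
  congr 1
  ext i
  rw [ENNReal.tsum_one]

end Card

end Groth.Agent.Lib.Helper39.BranchFib

namespace Groth.Agent.Lib.Helper39.BranchFib

section Decomp

theorem card_hom_eq_tsum {A B Ω : Type*} [CommRing A] [CommRing B] [Field Ω] (f : A →+* B)
    (t : A →+* Ω) (p : Ideal A) (hp : RingHom.ker t = p) :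
    ENat.card {σ : B →+* Ω // σ.comp f = t} =
      ∑' q : {q : PrimeSpectrum B // q.asIdeal.comap f = p},
        ENat.card {σ : B →+* Ω // σ.comp f = t ∧ RingHom.ker σ = q.1.asIdeal} := by
  rw [← ENat.card_sigma_eq_tsum]
  apply ENat.card_congr
  refine
    { toFun := fun σ => ⟨⟨⟨RingHom.ker σ.1, RingHom.ker_isPrime σ.1⟩, ?_⟩, ⟨σ.1, σ.2, rfl⟩⟩
      invFun := fun z => ⟨z.2.1, z.2.2.1⟩
      left_inv := fun σ => rfl
      right_inv := ?_ }
  · show (RingHom.ker σ.1).comap f = p
    obtain ⟨σ, h2⟩ := σ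
    subst h2
    rw [← hp]; rfl
  · rintro ⟨⟨⟨q, hq⟩, hqp⟩, σ, hσ, hk⟩
    have hk' : RingHom.ker σ = q := hk
    subst hk'
    rfl

theorem ringHom_ext_of_frac {A K Ω : Type*} [CommRing A] [Field K] [Field Ω] (ev : A →+* K)
    (h : ∀ z : K, ∃ a c, ev c ≠ 0 ∧ z * ev c = ev a) (ρ1 ρ2 : K →+* Ω)
    (heq : ρ1.comp ev = ρ2.comp ev) : ρ1 = ρ2 := by
  ext z
  obtain ⟨a, c, hc, hz⟩ := h z
  have h1 : ρ1 z * ρ1 (ev c) = ρ1 (ev a) := by rw [← map_mul, hz]
  have h2 : ρ2 z * ρ2 (ev c) = ρ2 (ev a) := by rw [← map_mul, hz]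
  have e1 : ρ1 (ev c) = ρ2 (ev c) := congr($heq c)
  have e2 : ρ1 (ev a) = ρ2 (ev a) := congr($heq a)
  have hne : ρ1 (ev c) ≠ 0 := (map_ne_zero ρ1).mpr hc
  apply mul_right_cancel₀ hne
  rw [h1, e2, ← h2, e1]

open Polynomial in
theorem isAlgebraic_of_evaluations {A B K L : Type*} [CommRing A] [CommRing B] [Field K] [Field L]
    [Algebra K L] (evA : A →+* K) (evB : B →+* L) (g : A →+* B) (hg : g.IsIntegral)
    (hcomm : (algebraMap K L).comp evA = evB.comp g)
    (hB : ∀ z : L, ∃ b c, evB c ≠ 0 ∧ z * evB c = evB b) : Algebra.IsAlgebraic K L := by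
  have hintB : ∀ b : B, IsIntegral K (evB b) := by
    intro b
    obtain ⟨p, hp, hp0⟩ := hg b
    refine ⟨p.map evA, hp.map _, ?_⟩
    rw [eval₂_map, hcomm, ← hom_eval₂, hp0, map_zero]
  refine ⟨fun z => ?_⟩
  obtain ⟨b, c, hc0, hz⟩ := hB z
  have : z = evB b * (evB c)⁻¹ := by
    rw [← hz, mul_assoc, mul_inv_cancel₀ hc0, mul_one]
  rw [this]
  exact (hintB b).isAlgebraic.mul (hintB c).isAlgebraic.inv

theorem card_emb_eq {A B K L Ω : Type*} [CommRing A] [CommRing B] [Field K] [Field L]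
    [Algebra K L] [Field Ω] [Algebra K Ω] [IsAlgClosed Ω]
    (evA : A →+* K) (evB : B →+* L) (g : A →+* B) (hg : g.IsIntegral)
    (hcomm : (algebraMap K L).comp evA = evB.comp g)
    (hA : ∀ z : K, ∃ a c, evA c ≠ 0 ∧ z * evA c = evA a)
    (hB : ∀ z : L, ∃ b c, evB c ≠ 0 ∧ z * evB c = evB b) :
    ENat.card (Field.Emb K L) =
      ENat.card {σ : B →+* Ω // σ.comp g = (algebraMap K Ω).comp evA ∧
        RingHom.ker σ = RingHom.ker evB} := by
  have halg : Algebra.IsAlgebraic K L := isAlgebraic_of_evaluations evA evB g hg hcomm hB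
  rw [ENat.card_congr (Field.embEquivOfIsAlgClosed K L Ω)]
  let Φ : (L →ₐ[K] Ω) → {σ : B →+* Ω // σ.comp g = (algebraMap K Ω).comp evA ∧
        RingHom.ker σ = RingHom.ker evB} := fun ρ =>
    ⟨ρ.toRingHom.comp evB, by
      rw [RingHom.comp_assoc, ← hcomm, ← RingHom.comp_assoc]
      congr 1
      exact ρ.comp_algebraMap, by
      ext b
      rw [RingHom.mem_ker, RingHom.mem_ker, RingHom.comp_apply]
      exact map_eq_zero_iff _ ρ.toRingHom.injective⟩
  apply ENat.card_congr
  refine Equiv.ofBijective Φ ⟨?_, ?_⟩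
  · intro ρ1 ρ2 h
    have h' : ρ1.toRingHom.comp evB = ρ2.toRingHom.comp evB := congr_arg Subtype.val h
    have := ringHom_ext_of_frac evB hB _ _ h'
    exact AlgHom.coe_ringHom_injective this
  · rintro ⟨σ, hσ, hker⟩
    let I := RingHom.ker evB
    have hIp : I.IsPrime := RingHom.ker_isPrime evB
    letI : Algebra (B ⧸ I) L := (RingHom.kerLift evB).toAlgebra
    have hinj : Function.Injective (algebraMap (B ⧸ I) L) := RingHom.kerLift_injective evB
    haveI : FaithfulSMul (B ⧸ I) L := (faithfulSMul_iff_algebraMap_injective _ _).mpr hinj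
    haveI : IsFractionRing (B ⧸ I) L := by
      apply IsFractionRing.of_field
      intro z
      obtain ⟨b, c, hc0, hz⟩ := hB z
      refine ⟨Ideal.Quotient.mk I b, Ideal.Quotient.mk I c, ?_⟩
      show z = evB b / evB c
      rw [← hz, mul_div_assoc, div_self hc0, mul_one]
    have hl : ∀ b ∈ I, σ b = 0 := fun b hb => by
      rw [← RingHom.mem_ker, hker]; exact hb
    let σbar : B ⧸ I →+* Ω := Ideal.Quotient.lift I σ hl
    have hσbar : Function.Injective σbar := by
      rw [injective_iff_map_eq_zero]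
      intro y hy
      obtain ⟨b, rfl⟩ := Ideal.Quotient.mk_surjective y
      have : σ b = 0 := hy
      rw [Ideal.Quotient.eq_zero_iff_mem]
      show b ∈ RingHom.ker evB
      rw [← hker]; exact this
    let ρ : L →+* Ω := IsFractionRing.lift hσbar
    have hρ : ρ.comp evB = σ := by
      ext b
      show ρ (algebraMap (B ⧸ I) L (Ideal.Quotient.mk I b)) = σ b
      rw [IsFractionRing.lift_algebraMap]
      rfl
    have hρK : ρ.comp (algebraMap K L) = algebraMap K Ω := by
      apply ringHom_ext_of_frac evA hA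
      rw [RingHom.comp_assoc, hcomm, ← RingHom.comp_assoc, hρ, hσ]
    refine ⟨{ ρ with commutes' := fun z => congr($hρK z) }, ?_⟩
    apply Subtype.ext
    exact hρ

end Decomp

end Groth.Agent.Lib.Helper39.BranchFib
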