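import Mathlib
import Groth.Agent.Lib.Helper39.KrullAkizuki

/-!
# Normalization of an integral locally Noetherian scheme of dimension one: ring-level input

* Krull–Akizuki consequences for the integral closure of a one-dimensional Noetherian domain in
  its fraction field (`isDedekindDomain_integralClosure`, `finite_primes_over`,
  `exists_finset_span_mod`), transported along a ring isomorphism (`package`);
* a criterion for finiteness of a residue field extension in terms of evaluation maps
  (`finite_of_evaluations`);
* sections of `Spec K(X)` over preimages of opens of `X` (`isField_sections`,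
  `isFractionRing_sections`).
-/

set_option autoImplicit false
set_option linter.style.haveILetI false
set_option linter.unusedSectionVars false
universe u

open Groth.Agent.Lib.Helper39
open CategoryTheory AlgebraicGeometry

namespace Groth.Agent.Lib.Helper39.NormDimOne


section Ring

variable (A : Type*) [CommRing A] [IsDomain A] [IsNoetherianRing A] [Ring.KrullDimLE 1 A]
  (L : Type*) [Field L] [Algebra A L] [IsFractionRing A L]

omit [IsDomain A] [IsNoetherianRing A] [Ring.KrullDimLE 1 A] in
theorem injective_algebraMap_integralClosure :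
    Function.Injective (algebraMap A (integralClosure A L)) := by
  have h1 : Function.Injective (algebraMap A L) := IsFractionRing.injective A L
  rw [IsScalarTower.algebraMap_eq A (integralClosure A L) L, RingHom.coe_comp] at h1
  exact Function.Injective.of_comp h1

theorem isDedekindDomain_integralClosure : IsDedekindDomain (integralClosure A L) := by
  have hBL : Function.Injective (algebraMap (integralClosure A L) L) := Subtype.val_injective
  have hB1 := KA.krullDimLE_one_of_between A L (L := L) hBL
  have hBN := KA.isNoetherianRing_of_between A L (L := L) hBL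
  exact
    { hBN,
      (⟨fun hp0 hp => Ring.krullDimLE_one_iff_of_noZeroDivisors.mp hB1 _ hp0 hp⟩ :
        Ring.DimensionLEOne (integralClosure A L)),
      (isIntegrallyClosed_iff L).mpr fun {x} hx =>
        ⟨IsIntegralClosure.mk' (integralClosure A L) x (isIntegral_trans (R := A) _ hx),
          IsIntegralClosure.algebraMap_mk' _ _ _⟩ with : IsDedekindDomain (integralClosure A L) }

theorem finite_primes_over (p : PrimeSpectrum A) :
    (PrimeSpectrum.comap (algebraMap A (integralClosure A L)) ⁻¹' {p}).Finite := by
  have hBL : Function.Injective (algebraMap (integralClosure A L) L) := Subtype.val_injective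
  have hAB := injective_algebraMap_integralClosure A L
  by_cases hp : p.asIdeal = ⊥
  · refine (Set.finite_singleton (⊥ : PrimeSpectrum (integralClosure A L))).subset ?_
    intro Q hQ
    rw [Set.mem_preimage, Set.mem_singleton_iff] at hQ
    rw [Set.mem_singleton_iff]
    ext1
    apply Ideal.eq_bot_of_comap_eq_bot (R := A)
    rw [← hp, ← hQ]
    rfl
  · obtain ⟨x, hxp, hx0⟩ := Submodule.exists_mem_ne_zero_of_ne_bot hp
    have hI0 : (Ideal.span {algebraMap A (integralClosure A L) x} : Ideal (integralClosure A L)) ≠ ⊥ := by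
      rw [Ne, Ideal.span_singleton_eq_bot, map_eq_zero_iff _ hAB]; exact hx0
    have hfin := KA.finite_primes_ge A L (L := L) hBL _ hI0
    refine Set.Finite.of_finite_image (f := PrimeSpectrum.asIdeal) (hfin.subset ?_) ?_
    · rintro _ ⟨Q, hQ, rfl⟩
      refine ⟨Q.2, ?_⟩
      rw [Ideal.span_singleton_le_iff_mem]
      rw [Set.mem_preimage, Set.mem_singleton_iff] at hQ
      have : x ∈ (PrimeSpectrum.comap (algebraMap A (integralClosure A L)) Q).asIdeal := by
        rw [hQ]; exact hxp
      exact this
    · intro Q _ Q' _ h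
      exact PrimeSpectrum.ext h

/-- Uniform "finiteness modulo q" statement. -/
theorem exists_finset_span_mod (q : Ideal (integralClosure A L)) [q.IsPrime] :
    ∃ T : Finset (integralClosure A L), ∀ b : integralClosure A L, ∃ s : A,
      algebraMap A (integralClosure A L) s ∉ q ∧
      ∃ t ∈ Submodule.span A (T : Set (integralClosure A L)), s • b - t ∈ q := by
  classical
  have hBL : Function.Injective (algebraMap (integralClosure A L) L) := Subtype.val_injective
  have hAB := injective_algebraMap_integralClosure A L
  by_cases hq : q = ⊥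
  · subst hq
    refine ⟨{1}, fun b => ?_⟩
    obtain ⟨⟨a, s⟩, hs⟩ := IsLocalization.surj (nonZeroDivisors A) (b : L)
    refine ⟨s, ?_, a • 1, ?_, ?_⟩
    · rw [Ideal.mem_bot, map_eq_zero_iff _ hAB]
      exact nonZeroDivisors.ne_zero s.2
    · exact Submodule.smul_mem _ _ (Submodule.subset_span (by simp))
    · rw [Ideal.mem_bot, sub_eq_zero]
      apply Subtype.ext
      simp only [Algebra.smul_def, mul_one]
      show algebraMap A L s * (b : L) = algebraMap A L a
      rw [mul_comm]; exact hs
  · have hfin := KA.finite_quotient_ideal A L (L := L) hBL q hq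
    obtain ⟨T', hT'⟩ := (Module.Finite.fg_top : (⊤ : Submodule A (integralClosure A L ⧸ q)).FG)
    have hsurj : Function.Surjective (Ideal.Quotient.mk q) := Ideal.Quotient.mk_surjective
    choose lift hlift using hsurj
    refine ⟨T'.image lift, fun b => ⟨1, ?_, ?_⟩⟩
    · rw [map_one]; exact fun h => (Ideal.IsPrime.ne_top inferInstance) ((Ideal.eq_top_iff_one q).mpr h)
    · have hb : Ideal.Quotient.mk q b ∈ Submodule.span A (T' : Set (integralClosure A L ⧸ q)) := by
        rw [hT']; trivial
      have hmap : Submodule.span A (T' : Set (integralClosure A L ⧸ q)) =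
          (Submodule.span A ((T'.image lift : Finset _) : Set (integralClosure A L))).map
            (Ideal.Quotient.mkₐ A q).toLinearMap := by
        rw [Submodule.map_span, Finset.coe_image, Set.image_image]
        congr 1
        ext z
        simp [hlift]
      rw [hmap] at hb
      obtain ⟨t, ht, htb⟩ := hb
      refine ⟨t, ht, ?_⟩
      rw [one_smul, ← Ideal.Quotient.eq]
      exact htb.symm

end Ring

section Transport

theorem isDedekindDomain_of_ringEquiv {R S : Type*} [CommRing R] [CommRing S] (e : R ≃+* S)
    [IsDedekindDomain R] : IsDedekindDomain S := by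
  have hdom : IsDomain S := e.symm.toMulEquiv.isDomain
  have hN : IsNoetherianRing S := isNoetherianRing_of_ringEquiv R e
  have hIC : IsIntegrallyClosed S := IsIntegrallyClosed.of_equiv e
  have hdim : Ring.DimensionLEOne S := by
    have h1 : Ring.KrullDimLE 1 R := inferInstance
    have h2 : Ring.KrullDimLE 1 S := by
      rw [Ring.krullDimLE_iff] at h1 ⊢
      rwa [← ringKrullDim_eq_of_ringEquiv e]
    exact ⟨fun hp0 hp => Ring.krullDimLE_one_iff_of_noZeroDivisors.mp h2 _ hp0 hp⟩
  exact { hN, hdim, hIC with : IsDedekindDomain S }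

theorem package {A : Type*} [CommRing A] [IsDomain A] [IsNoetherianRing A] [Ring.KrullDimLE 1 A]
    {L : Type*} [CommRing L] [Algebra A L] (hL : IsField L) [IsFractionRing A L]
    {B' : Type*} [CommRing B'] (g : A →+* B') (e : B' ≃+* integralClosure A L)
    (he : ∀ a, e (g a) = algebraMap A (integralClosure A L) a) :
    IsDedekindDomain B' ∧
    (∀ p : PrimeSpectrum A, {q' : PrimeSpectrum B' | PrimeSpectrum.comap g q' = p}.Finite) ∧
    (∀ q' : Ideal B', q'.IsPrime → ∃ (n : ℕ) (τ : Fin n → B'), ∀ b : B',
      ∃ s : A, g s ∉ q' ∧ ∃ c : Fin n → A, g s * b - ∑ i, g (c i) * τ i ∈ q') := by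
  classical
  let _ := hL.toField
  have hes : ∀ a, e.symm (algebraMap A (integralClosure A L) a) = g a := fun a => by
    rw [← he, e.symm_apply_apply]
  refine ⟨?_, ?_, ?_⟩
  · have := isDedekindDomain_integralClosure A L
    exact isDedekindDomain_of_ringEquiv e.symm
  · intro p
    have hfin := finite_primes_over A L p
    let Φ : PrimeSpectrum B' → PrimeSpectrum (integralClosure A L) :=
      PrimeSpectrum.comap (e.symm : integralClosure A L →+* B')
    have hΦ : Function.Injective Φ :=
      PrimeSpectrum.comap_injective_of_surjective _ e.symm.surjective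
    refine (hfin.preimage (f := Φ) hΦ.injOn).subset ?_
    intro q' hq'
    rw [Set.mem_ofPred_eq] at hq'
    rw [Set.mem_preimage, Set.mem_preimage, Set.mem_singleton_iff, ← hq']
    ext a
    simp only [Φ, PrimeSpectrum.comap_asIdeal, Ideal.mem_comap]
    rw [← hes]; rfl
  · intro q' hq'
    let q : Ideal (integralClosure A L) := q'.comap (e.symm : integralClosure A L →+* B')
    have hq : q.IsPrime := Ideal.comap_isPrime _ _
    obtain ⟨T, hT⟩ := exists_finset_span_mod A L q
    refine ⟨T.card, fun i => e.symm (T.equivFin.symm i).1, fun b' => ?_⟩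
    obtain ⟨s, hs, t, ht, hst⟩ := hT (e b')
    rw [Submodule.mem_span_finset] at ht
    obtain ⟨c, -, hc⟩ := ht
    refine ⟨s, ?_, fun i => c (T.equivFin.symm i).1, ?_⟩
    · intro h
      apply hs
      show e.symm _ ∈ q'
      rwa [hes]
    · have h1 : e.symm (s • e b' - t) ∈ q' := hst
      have h2 : e.symm (s • e b' - t) = g s * b' - ∑ i : T, g (c i.1) * e.symm i.1 := by
        rw [map_sub, Algebra.smul_def, map_mul, hes, e.symm_apply_apply, ← hc, map_sum,
          ← Finset.sum_coe_sort]
        congr 1
        refine Finset.sum_congr rfl fun i _ => ?_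
        rw [Algebra.smul_def, map_mul, hes]
      rw [h2] at h1
      have h3 : ∑ i : T, g (c i.1) * e.symm i.1 =
          ∑ i : Fin T.card, g (c (T.equivFin.symm i).1) * e.symm (T.equivFin.symm i).1 :=
        (Equiv.sum_comp T.equivFin.symm (fun i : T => g (c i.1) * e.symm i.1)).symm
      rwa [h3] at h1

end Transport



section Fields

open Polynomial in
theorem finite_of_evaluations {A B k k' : Type*} [CommRing A] [CommRing B] [Field k] [Field k']
    (φ : k →+* k') (evA : A →+* k) (evB : B →+* k') (g : A →+* B)
    (hcomm : evB.comp g = φ.comp evA)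
    (hfrac : ∀ z : k', ∃ b c : B, evB c ≠ 0 ∧ z * evB c = evB b)
    (hint : g.IsIntegral)
    (n : ℕ) (τ : Fin n → B)
    (hT : ∀ b : B, ∃ s : A, evB (g s) ≠ 0 ∧ ∃ c : Fin n → A,
      evB (g s * b) = evB (∑ i, g (c i) * τ i)) :
    letI := φ.toAlgebra
    Module.Finite k k' := by
  let _ := φ.toAlgebra
  classical
  have hcomm' : ∀ a : A, evB (g a) = algebraMap k k' (evA a) := fun a => by
    have := congr($hcomm a)
    rw [RingHom.algebraMap_toAlgebra]
    simpa using this
  let S : Submodule k k' := Submodule.span k (Set.range fun i => evB (τ i))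
  have hS1 : ∀ b : B, evB b ∈ S := by
    intro b
    obtain ⟨s, hs, c, hc⟩ := hT b
    have h1 : evB (∑ i, g (c i) * τ i) ∈ S := by
      rw [map_sum]
      refine Submodule.sum_mem _ fun i _ => ?_
      rw [map_mul, hcomm', ← Algebra.smul_def]
      exact Submodule.smul_mem _ _ (Submodule.subset_span ⟨i, rfl⟩)
    rw [← hc, map_mul, hcomm', ← Algebra.smul_def] at h1
    have hs0 : evA s ≠ 0 := by
      intro h
      apply hs
      rw [hcomm', h, map_zero]
    have := Submodule.smul_mem S (evA s)⁻¹ h1
    rwa [smul_smul, inv_mul_cancel₀ hs0, one_smul] at this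
  let S' : Subalgebra k k' := Algebra.adjoin k (Set.range evB)
  have hS'S : Subalgebra.toSubmodule S' ≤ S := by
    rw [Algebra.adjoin_eq_span, Submodule.span_le]
    have : Submonoid.closure (Set.range evB) = (evB.rangeS.toSubmonoid : Submonoid k') := by
      apply le_antisymm
      · rw [Submonoid.closure_le]; rintro _ ⟨b, rfl⟩; exact ⟨b, rfl⟩
      · rintro _ ⟨b, rfl⟩; exact Submonoid.subset_closure ⟨b, rfl⟩
    rw [this]
    rintro _ ⟨b, rfl⟩
    exact hS1 b
  have hintB : ∀ b : B, IsIntegral k (evB b) := by
    intro b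
    obtain ⟨p, hp, hp0⟩ := hint b
    refine ⟨p.map evA, hp.map _, ?_⟩
    rw [eval₂_map]
    have : (algebraMap k k').comp evA = evB.comp g := hcomm.symm
    rw [this, ← hom_eval₂, hp0, map_zero]
  have hS'top : ∀ z : k', z ∈ S' := by
    intro z
    obtain ⟨b, c, hc0, hz⟩ := hfrac z
    have hb : evB b ∈ S' := Algebra.subset_adjoin ⟨b, rfl⟩
    have hc : evB c ∈ S' := Algebra.subset_adjoin ⟨c, rfl⟩
    have hcinv : (evB c)⁻¹ ∈ S' :=
      S'.inv_mem_of_algebraic (x := ⟨evB c, hc⟩) (hintB c).isAlgebraic
    have : z = evB b * (evB c)⁻¹ := by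
      rw [← hz, mul_assoc, mul_inv_cancel₀ hc0, mul_one]
    rw [this]
    exact S'.mul_mem hb hcinv
  have hStop : S = ⊤ := by
    rw [eq_top_iff]
    intro z _
    exact hS'S (hS'top z)
  rw [Module.finite_def, ← hStop]
  exact Submodule.fg_span (Set.finite_range _)

end Fields



section T1

variable (X : Scheme.{u}) [IsIntegral X]

theorem preimage_fromSpecStalk_eq_top (U : X.Opens) (hξ : genericPoint X ∈ U) :
    (X.fromSpecStalk (genericPoint X)) ⁻¹ᵁ U = ⊤ := by
  ext p
  simp only [TopologicalSpace.Opens.coe_top, Set.mem_univ, iff_true]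
  show X.fromSpecStalk (genericPoint X) p ∈ U
  have : Subsingleton (Spec (X.presheaf.stalk (genericPoint X))) :=
    inferInstanceAs (Subsingleton (PrimeSpectrum X.functionField))
  rw [Subsingleton.elim p (IsLocalRing.closedPoint _), Scheme.fromSpecStalk_closedPoint]
  exact hξ

theorem bijective_presheaf_map_of_eq_top {Y : Scheme.{u}} (V : Y.Opens) (h : V = ⊤) :
    Function.Bijective (Y.presheaf.map (homOfLE (le_top : V ≤ ⊤)).op).hom := by
  subst h
  have : (homOfLE (le_top : (⊤ : Y.Opens) ≤ ⊤)).op = 𝟙 _ := rfl
  rw [this, Y.presheaf.map_id]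
  exact Function.bijective_id

/-- The ring iso `K ≃ Γ(Spec K, f⁻¹U)` for `U` containing the generic point. -/
theorem exists_ringEquiv_sections (U : X.Opens) (hξ : genericPoint X ∈ U) :
    ∃ ψ : X.functionField ≃+* Γ(Spec (X.presheaf.stalk (genericPoint X)),
        (X.fromSpecStalk (genericPoint X)) ⁻¹ᵁ U),
      ∀ a : Γ(X, U), ((X.fromSpecStalk (genericPoint X)).app U).hom a =
        ψ ((X.presheaf.germ U (genericPoint X) hξ).hom a) := by
  have h1 := preimage_fromSpecStalk_eq_top X U hξ
  have h2 := bijective_presheaf_map_of_eq_top _ h1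
  let e1 : X.functionField ≃+* Γ(Spec (X.presheaf.stalk (genericPoint X)), ⊤) :=
    (Scheme.ΓSpecIso (X.presheaf.stalk (genericPoint X))).symm.commRingCatIsoToRingEquiv
  let e2 : Γ(Spec (X.presheaf.stalk (genericPoint X)), ⊤) ≃+*
      Γ(Spec (X.presheaf.stalk (genericPoint X)), (X.fromSpecStalk (genericPoint X)) ⁻¹ᵁ U) :=
    RingEquiv.ofBijective _ h2
  refine ⟨e1.trans e2, fun a => ?_⟩
  rw [Scheme.fromSpecStalk_app hξ]
  rfl

theorem isField_sections (U : X.Opens) (hξ : genericPoint X ∈ U) :
    IsField Γ(Spec (X.presheaf.stalk (genericPoint X)),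
        (X.fromSpecStalk (genericPoint X)) ⁻¹ᵁ U) := by
  obtain ⟨ψ, -⟩ := exists_ringEquiv_sections X U hξ
  exact ψ.symm.toMulEquiv.isField (Field.toIsField X.functionField)

theorem isFractionRing_sections (U : X.Opens) (hU : IsAffineOpen U) (hξ : genericPoint X ∈ U) :
    letI := ((X.fromSpecStalk (genericPoint X)).app U).hom.toAlgebra
    IsFractionRing Γ(X, U) Γ(Spec (X.presheaf.stalk (genericPoint X)),
        (X.fromSpecStalk (genericPoint X)) ⁻¹ᵁ U) := by
  letI := ((X.fromSpecStalk (genericPoint X)).app U).hom.toAlgebra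
  obtain ⟨ψ, hψ⟩ := exists_ringEquiv_sections X U hξ
  have : Nonempty U := ⟨⟨_, hξ⟩⟩
  have hfr : IsFractionRing Γ(X, U) X.functionField :=
    functionField_isFractionRing_of_isAffineOpen X U hU
  let ψ' : X.functionField ≃ₐ[Γ(X, U)] Γ(Spec (X.presheaf.stalk (genericPoint X)),
        (X.fromSpecStalk (genericPoint X)) ⁻¹ᵁ U) :=
    AlgEquiv.ofRingEquiv (f := ψ) (fun a => (hψ a).symm)
  exact IsLocalization.isLocalization_of_algEquiv _ ψ'

end T1


end Groth.Agent.Lib.Helper39.NormDimOne
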