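import Mathlib
import Groth.Agent.Lib.Helper39.NormDimOne

set_option autoImplicit false
set_option linter.style.haveILetI false
set_option linter.unusedSectionVars false
universe u

open CategoryTheory AlgebraicGeometry

namespace Groth.Agent.Lib.Helper39.NormDimOne

section Sch

variable (X : Scheme.{u}) [IsIntegral X]

theorem krullDimLE_one_sections (hdim : topologicalKrullDim X ≤ 1) (U : X.Opens)
    (hU : IsAffineOpen U) : Ring.KrullDimLE 1 Γ(X, U) := by
  rw [Ring.krullDimLE_iff]
  have h1 : topologicalKrullDim (Spec Γ(X, U)) ≤ topologicalKrullDim X :=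
    (hU.fromSpec.isOpenEmbedding.isInducing).topologicalKrullDim_le
  have h2 : topologicalKrullDim (Spec Γ(X, U)) = ringKrullDim Γ(X, U) :=
    PrimeSpectrum.topologicalKrullDim_eq_ringKrullDim (R := Γ(X, U))
  rw [← h2]
  exact h1.trans hdim

variable [IsLocallyNoetherian X]
  [QuasiCompact (X.fromSpecStalk (genericPoint X))]
  [QuasiSeparated (X.fromSpecStalk (genericPoint X))]

theorem package_scheme (hdim : topologicalKrullDim X ≤ 1) (U : X.Opens) (hU : IsAffineOpen U)
    (hξ : genericPoint X ∈ U) :
    IsDedekindDomain Γ((X.fromSpecStalk (genericPoint X)).normalization,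
      (X.fromSpecStalk (genericPoint X)).fromNormalization ⁻¹ᵁ U) ∧
    (∀ p : PrimeSpectrum Γ(X, U), {q' : PrimeSpectrum Γ((X.fromSpecStalk (genericPoint X)).normalization,
      (X.fromSpecStalk (genericPoint X)).fromNormalization ⁻¹ᵁ U) |
        PrimeSpectrum.comap ((X.fromSpecStalk (genericPoint X)).fromNormalization.app U).hom q' = p}.Finite) ∧
    (∀ q' : Ideal Γ((X.fromSpecStalk (genericPoint X)).normalization,
      (X.fromSpecStalk (genericPoint X)).fromNormalization ⁻¹ᵁ U), q'.IsPrime →
      ∃ (n : ℕ) (τ : Fin n → Γ((X.fromSpecStalk (genericPoint X)).normalization,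
      (X.fromSpecStalk (genericPoint X)).fromNormalization ⁻¹ᵁ U)), ∀ b,
      ∃ s : Γ(X, U), ((X.fromSpecStalk (genericPoint X)).fromNormalization.app U).hom s ∉ q' ∧
        ∃ c : Fin n → Γ(X, U),
          ((X.fromSpecStalk (genericPoint X)).fromNormalization.app U).hom s * b -
            ∑ i, ((X.fromSpecStalk (genericPoint X)).fromNormalization.app U).hom (c i) * τ i ∈ q') := by
  have : Nonempty U := ⟨⟨_, hξ⟩⟩
  have hN : IsNoetherianRing Γ(X, U) := IsLocallyNoetherian.component_noetherian ⟨U, hU⟩
  have hD : Ring.KrullDimLE 1 Γ(X, U) := krullDimLE_one_sections X hdim U hU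
  letI := ((X.fromSpecStalk (genericPoint X)).app U).hom.toAlgebra
  have hL := isField_sections X U hξ
  have hfr := isFractionRing_sections X U hU hξ
  refine package (A := Γ(X, U)) (L := Γ(Spec (X.presheaf.stalk (genericPoint X)),
        (X.fromSpecStalk (genericPoint X)) ⁻¹ᵁ U)) hL
    ((X.fromSpecStalk (genericPoint X)).fromNormalization.app U).hom
    ((X.fromSpecStalk (genericPoint X)).normalizationObjIso hU).commRingCatIsoToRingEquiv ?_
  intro a
  rw [Scheme.Hom.fromNormalization_app _ hU]
  show (((X.fromSpecStalk (genericPoint X)).normalizationObjIso hU).inv ≫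
    ((X.fromSpecStalk (genericPoint X)).normalizationObjIso hU).hom).hom _ = _
  rw [Iso.inv_hom_id]
  rfl

local notation "fξ" => X.fromSpecStalk (genericPoint X)

omit [IsLocallyNoetherian X] in
theorem eq_bot_of_genericPoint_notMem (U : X.Opens) (hξ : genericPoint X ∉ U) : U = ⊥ := by
  ext x
  simp only [TopologicalSpace.Opens.coe_bot, Set.mem_empty_iff_false, iff_false]
  intro hx
  apply hξ
  exact ((genericPoint_spec X).mem_open_set_iff U.isOpen).mpr ⟨x, trivial, hx⟩

theorem isLocallyNoetherian_normalization (hdim : topologicalKrullDim X ≤ 1) :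
    IsLocallyNoetherian (fξ).normalization := by
  apply isLocallyNoetherian_of_affine_cover (ι := X.affineOpens)
    (S := fun U => ⟨(fξ).fromNormalization ⁻¹ᵁ U.1, U.2.preimage (fξ).fromNormalization⟩)
  · have h1 := iSup_affineOpens_eq_top X
    have h2 := congr((fξ).fromNormalization ⁻¹ᵁ $h1)
    rw [Scheme.Hom.preimage_iSup, Scheme.Hom.preimage_top] at h2
    exact h2
  · intro U
    by_cases hξ : genericPoint X ∈ U.1
    · have := (package_scheme X hdim U.1 U.2 hξ).1
      show IsNoetherianRing Γ((fξ).normalization, (fξ).fromNormalization ⁻¹ᵁ U.1)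
      infer_instance
    · have hU : U.1 = ⊥ := eq_bot_of_genericPoint_notMem X U.1 hξ
      have h2 : (fξ).fromNormalization ⁻¹ᵁ U.1 = ⊥ := by rw [hU]; rfl
      show IsNoetherianRing Γ((fξ).normalization, (fξ).fromNormalization ⁻¹ᵁ U.1)
      rw [h2]
      infer_instance

theorem finite_fibre (hdim : topologicalKrullDim X ≤ 1) (x : X) :
    Finite {x' : (fξ).normalization // (fξ).fromNormalization x' = x} := by
  obtain ⟨_, ⟨U, hU, rfl⟩, hxU, -⟩ := X.isBasis_affineOpens.exists_subset_of_mem_open
    (Set.mem_univ x) isOpen_univ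
  have hξ : genericPoint X ∈ U :=
    ((genericPoint_spec X).mem_open_set_iff U.isOpen).mpr ⟨x, trivial, hxU⟩
  have hW : IsAffineOpen ((fξ).fromNormalization ⁻¹ᵁ U) := hU.preimage _
  have hfin := (package_scheme X hdim U hU hξ).2.1 (hU.primeIdealOf ⟨x, hxU⟩)
  have hmem : ∀ x' : {x' : (fξ).normalization // (fξ).fromNormalization x' = x},
      x'.1 ∈ (fξ).fromNormalization ⁻¹ᵁ U := fun x' => by
    show (fξ).fromNormalization x'.1 ∈ U
    rw [x'.2]; exact hxU
  let Ψ : {x' : (fξ).normalization // (fξ).fromNormalization x' = x} → hfin.toFinset := fun x' =>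
    ⟨hW.primeIdealOf ⟨x'.1, hmem x'⟩, by
      rw [Set.Finite.mem_toFinset, Set.mem_ofPred_eq]
      have := IsAffineOpen.comap_primeIdealOf_appLE (f := (fξ).fromNormalization) U hU _ hW le_rfl
        (hmem x')
      rw [← Scheme.Hom.app_eq_appLE] at this
      rw [this]
      congr 1
      exact Subtype.ext x'.2⟩
  apply Finite.of_injective Ψ
  intro x' y' h
  have h1 : hW.primeIdealOf ⟨x'.1, hmem x'⟩ = hW.primeIdealOf ⟨y'.1, hmem y'⟩ :=
    congr_arg Subtype.val h
  have h2 := congr(hW.fromSpec $h1)
  rw [hW.fromSpec_primeIdealOf, hW.fromSpec_primeIdealOf] at h2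
  exact Subtype.ext h2


theorem isDedekindDomain_stalk (hdim : topologicalKrullDim X ≤ 1) (y : (fξ).normalization) :
    IsDedekindDomain ((fξ).normalization.presheaf.stalk y) := by
  obtain ⟨_, ⟨U, hU, rfl⟩, hxU, -⟩ := X.isBasis_affineOpens.exists_subset_of_mem_open
    (Set.mem_univ ((fξ).fromNormalization y)) isOpen_univ
  have hξ : genericPoint X ∈ U :=
    ((genericPoint_spec X).mem_open_set_iff U.isOpen).mpr ⟨_, trivial, hxU⟩
  have hW : IsAffineOpen ((fξ).fromNormalization ⁻¹ᵁ U) := hU.preimage _
  have hD := (package_scheme X hdim U hU hξ).1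
  have hy : y ∈ (fξ).fromNormalization ⁻¹ᵁ U := hxU
  let _ := TopCat.Presheaf.algebra_section_stalk (fξ).normalization.presheaf
    (⟨y, hy⟩ : ((fξ).fromNormalization ⁻¹ᵁ U : (fξ).normalization.Opens))
  have hloc := hW.isLocalization_stalk ⟨y, hy⟩
  exact IsLocalization.AtPrime.isDedekindDomain _ (hW.primeIdealOf ⟨y, hy⟩).asIdeal _

theorem isDedekindDomain_sections (hdim : topologicalKrullDim X ≤ 1)
    [IsLocallyNoetherian (fξ).normalization]
    (V : (fξ).normalization.Opens) (hV : IsAffineOpen V) (hne : (V : Set (fξ).normalization).Nonempty) :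
    IsDedekindDomain Γ((fξ).normalization, V) := by
  have : Nonempty V := hne.to_subtype
  have hN : IsNoetherianRing Γ((fξ).normalization, V) :=
    IsLocallyNoetherian.component_noetherian ⟨V, hV⟩
  have : IsDedekindDomainDvr Γ((fξ).normalization, V) := by
    refine { hN with is_dvr_at_nonzero_prime := ?_ }
    intro P hP0 hP
    have hy : hV.fromSpec ⟨P, hP⟩ ∈ V := by
      have := hV.range_fromSpec
      rw [← SetLike.mem_coe, ← this]
      exact Set.mem_range_self _
    let _ := TopCat.Presheaf.algebra_section_stalk (fξ).normalization.presheaf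
      (⟨hV.fromSpec ⟨P, hP⟩, hy⟩ : V)
    have hloc : IsLocalization.AtPrime ((fξ).normalization.presheaf.stalk (hV.fromSpec ⟨P, hP⟩)) P :=
      hV.isLocalization_stalk' ⟨P, hP⟩ hy
    have hS := isDedekindDomain_stalk X hdim (hV.fromSpec ⟨P, hP⟩)
    have hnf : ¬ IsField ((fξ).normalization.presheaf.stalk (hV.fromSpec ⟨P, hP⟩)) :=
      IsLocalization.AtPrime.not_isField _ hP0 _
    have hdvr : IsDiscreteValuationRing ((fξ).normalization.presheaf.stalk (hV.fromSpec ⟨P, hP⟩)) :=
      ((IsDiscreteValuationRing.TFAE _ hnf).out 0 2).mpr hS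
    let e := IsLocalization.algEquiv P.primeCompl
      ((fξ).normalization.presheaf.stalk (hV.fromSpec ⟨P, hP⟩)) (Localization.AtPrime P)
    exact IsDiscreteValuationRing.RingEquivClass.isDiscreteValuationRing e
  infer_instance


theorem finite_residueField (hdim : topologicalKrullDim X ≤ 1) (x' : (fξ).normalization) :
    letI := ((fξ).fromNormalization.residueFieldMap x').hom.toAlgebra
    Module.Finite (X.residueField ((fξ).fromNormalization x'))
      ((fξ).normalization.residueField x') := by
  obtain ⟨_, ⟨U, hU, rfl⟩, hxU, -⟩ := X.isBasis_affineOpens.exists_subset_of_mem_open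
    (Set.mem_univ ((fξ).fromNormalization x')) isOpen_univ
  have hξ : genericPoint X ∈ U :=
    ((genericPoint_spec X).mem_open_set_iff U.isOpen).mpr ⟨_, trivial, hxU⟩
  have hW : IsAffineOpen ((fξ).fromNormalization ⁻¹ᵁ U) := hU.preimage _
  have hy : x' ∈ (fξ).fromNormalization ⁻¹ᵁ U := hxU
  let evA := (X.evaluation U ((fξ).fromNormalization x') hxU).hom
  let evB := ((fξ).normalization.evaluation ((fξ).fromNormalization ⁻¹ᵁ U) x' hy).hom
  let g := ((fξ).fromNormalization.app U).hom
  let φ := ((fξ).fromNormalization.residueFieldMap x').hom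
  have hcomm : evB.comp g = φ.comp evA := by
    have := Scheme.evaluation_naturality (fξ).fromNormalization x' hxU
    exact congr($(this).hom).symm
  obtain ⟨n, τ, hτ⟩ := (package_scheme X hdim U hU hξ).2.2 (RingHom.ker evB)
    (RingHom.ker_isPrime evB)
  refine finite_of_evaluations φ evA evB g hcomm ?_ ?_ n τ ?_
  · intro z
    obtain ⟨σ, rfl⟩ := (fξ).normalization.residue_surjective x' z
    let _ := TopCat.Presheaf.algebra_section_stalk (fξ).normalization.presheaf
      (⟨x', hy⟩ : ((fξ).fromNormalization ⁻¹ᵁ U : (fξ).normalization.Opens))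
    have hloc := hW.isLocalization_stalk ⟨x', hy⟩
    obtain ⟨⟨b, c⟩, hbc⟩ := IsLocalization.surj (hW.primeIdealOf ⟨x', hy⟩).asIdeal.primeCompl σ
    refine ⟨b, c, ?_, ?_⟩
    · have hu : IsUnit (algebraMap _ ((fξ).normalization.presheaf.stalk x') (c : Γ((fξ).normalization, (fξ).fromNormalization ⁻¹ᵁ U))) :=
        IsLocalization.map_units _ c
      have hu' := hu.map ((fξ).normalization.residue x').hom
      exact hu'.ne_zero
    · have := congr(((fξ).normalization.residue x').hom $hbc)
      rw [map_mul] at this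
      exact this
  · exact IsIntegralHom.isIntegral_app (fξ).fromNormalization U hU
  · intro b
    obtain ⟨s, hs, c, hc⟩ := hτ b
    refine ⟨s, hs, c, ?_⟩
    rw [RingHom.mem_ker, map_sub, sub_eq_zero] at hc
    exact hc

end Sch

end Groth.Agent.Lib.Helper39.NormDimOne
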