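import Mathlib
import Groth.Prelude.Def_Brnch
import Groth.Prelude.Def_Curv2
import Groth.Agent.Lib.Helper39.BranchFibC
import Groth.Agent.Lib.Helper39.BranchFibD
import Groth.Agent.Lib.Helper39.NormDimOneB

set_option autoImplicit false
set_option linter.style.haveILetI false
set_option linter.unusedSectionVars false
universe u

open CategoryTheory AlgebraicGeometry

namespace Groth.Agent.Lib.Helper39.BranchFib

section Sch

variable (X : Scheme.{u}) [IsIntegral X]
  [QuasiCompact (X.fromSpecStalk (genericPoint X))]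
  [QuasiSeparated (X.fromSpecStalk (genericPoint X))]

local notation "fξ" => X.fromSpecStalk (genericPoint X)

theorem fibre_equiv (U : X.Opens) (hU : IsAffineOpen U) (x : X) (hx : x ∈ U) :
    ∃ E : {x' : (fξ).normalization // (fξ).fromNormalization x' = x} ≃
        {q' : PrimeSpectrum Γ((fξ).normalization, (fξ).fromNormalization ⁻¹ᵁ U) //
          q'.asIdeal.comap ((fξ).fromNormalization.app U).hom = (hU.primeIdealOf ⟨x, hx⟩).asIdeal},
      ∀ (x' : {x' : (fξ).normalization // (fξ).fromNormalization x' = x})
        (h : x'.1 ∈ (fξ).fromNormalization ⁻¹ᵁ U),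
        (E x').1 = (hU.preimage (fξ).fromNormalization).primeIdealOf ⟨x'.1, h⟩ := by
  have hW : IsAffineOpen ((fξ).fromNormalization ⁻¹ᵁ U) := hU.preimage _
  have hmem : ∀ x' : {x' : (fξ).normalization // (fξ).fromNormalization x' = x},
      x'.1 ∈ (fξ).fromNormalization ⁻¹ᵁ U := fun x' => by
    show (fξ).fromNormalization x'.1 ∈ U
    rw [x'.2]; exact hx
  have hcomap : ∀ (y : (fξ).normalization) (hy : y ∈ (fξ).fromNormalization ⁻¹ᵁ U),
      (hW.primeIdealOf ⟨y, hy⟩).comap ((fξ).fromNormalization.app U).hom =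
        hU.primeIdealOf ⟨(fξ).fromNormalization y, hy⟩ := by
    intro y hy
    have := IsAffineOpen.comap_primeIdealOf_appLE (f := (fξ).fromNormalization) U hU _ hW le_rfl hy
    rw [← Scheme.Hom.app_eq_appLE] at this
    exact this
  let Ψ : {x' : (fξ).normalization // (fξ).fromNormalization x' = x} →
      {q' : PrimeSpectrum Γ((fξ).normalization, (fξ).fromNormalization ⁻¹ᵁ U) //
          q'.asIdeal.comap ((fξ).fromNormalization.app U).hom = (hU.primeIdealOf ⟨x, hx⟩).asIdeal} :=
    fun x' => ⟨hW.primeIdealOf ⟨x'.1, hmem x'⟩, by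
      have h1 := hcomap x'.1 (hmem x')
      have h2 : hU.primeIdealOf ⟨(fξ).fromNormalization x'.1, hmem x'⟩ = hU.primeIdealOf ⟨x, hx⟩ := by
        congr 1
        exact Subtype.ext x'.2
      exact congr_arg PrimeSpectrum.asIdeal (h1.trans h2)⟩
  have hΨ : Function.Bijective Ψ := by
    constructor
    · intro x' y' h
      have h1 : hW.primeIdealOf ⟨x'.1, hmem x'⟩ = hW.primeIdealOf ⟨y'.1, hmem y'⟩ :=
        congr_arg Subtype.val h
      have h2 := congr(hW.fromSpec $h1)
      rw [hW.fromSpec_primeIdealOf, hW.fromSpec_primeIdealOf] at h2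
      exact Subtype.ext h2
    · rintro ⟨q', hq'⟩
      have hy : hW.fromSpec q' ∈ (fξ).fromNormalization ⁻¹ᵁ U := by
        have := hW.range_fromSpec
        rw [← SetLike.mem_coe, ← this]
        exact Set.mem_range_self _
      have hq : hW.primeIdealOf ⟨hW.fromSpec q', hy⟩ = q' := by
        apply hW.fromSpec.isOpenEmbedding.injective
        rw [hW.fromSpec_primeIdealOf]
      have hν : (fξ).fromNormalization (hW.fromSpec q') = x := by
        have h1 := hcomap (hW.fromSpec q') hy
        rw [hq] at h1
        have h2 : PrimeSpectrum.comap ((fξ).fromNormalization.app U).hom q' =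
            hU.primeIdealOf ⟨x, hx⟩ := PrimeSpectrum.ext hq'
        rw [h2] at h1
        have h3 := congr(hU.fromSpec $h1)
        rw [hU.fromSpec_primeIdealOf, hU.fromSpec_primeIdealOf] at h3
        exact h3.symm
      refine ⟨⟨hW.fromSpec q', hν⟩, ?_⟩
      apply Subtype.ext
      exact hq
  refine ⟨Equiv.ofBijective Ψ hΨ, fun x' h => rfl⟩

/-- Every element of the residue field at a point of an affine open is a ratio of evaluations. -/
theorem exists_evaluation_frac {Y : Scheme.{u}} (V : Y.Opens) (hV : IsAffineOpen V) (y : Y)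
    (hy : y ∈ V) (z : Y.residueField y) :
    ∃ b c : Γ(Y, V), (Y.evaluation V y hy).hom c ≠ 0 ∧
      z * (Y.evaluation V y hy).hom c = (Y.evaluation V y hy).hom b := by
  obtain ⟨σ, rfl⟩ := Y.residue_surjective y z
  let _ := TopCat.Presheaf.algebra_section_stalk Y.presheaf (⟨y, hy⟩ : V)
  have hloc := hV.isLocalization_stalk ⟨y, hy⟩
  obtain ⟨⟨b, c⟩, hbc⟩ := IsLocalization.surj (hV.primeIdealOf ⟨y, hy⟩).asIdeal.primeCompl σ
  refine ⟨b, c, ?_, ?_⟩
  · have hu : IsUnit (algebraMap _ (Y.presheaf.stalk y) (c : Γ(Y, V))) :=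
      IsLocalization.map_units _ c
    have hu' := hu.map (Y.residue y).hom
    exact hu'.ne_zero
  · have := congr((Y.residue y).hom $hbc)
    rw [map_mul] at this
    exact this

theorem ker_evaluation {Y : Scheme.{u}} (V : Y.Opens) (hV : IsAffineOpen V) (y : Y)
    (hy : y ∈ V) :
    RingHom.ker (Y.evaluation V y hy).hom = (hV.primeIdealOf ⟨y, hy⟩).asIdeal := by
  rw [hV.primeIdealOf_eq_map_closedPoint]
  ext b
  rw [RingHom.mem_ker]
  show _ ↔ (Y.presheaf.germ V y hy).hom b ∈ IsLocalRing.maximalIdeal _
  rw [← IsLocalRing.residue_eq_zero_iff]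
  rfl

theorem card_emb_pointwise (U : X.Opens) (hU : IsAffineOpen U) (x' : (fξ).normalization)
    (hx : (fξ).fromNormalization x' ∈ U) :
    (letI := ((fξ).fromNormalization.residueFieldMap x').hom.toAlgebra
     ENat.card (Field.Emb (X.residueField ((fξ).fromNormalization x'))
       ((fξ).normalization.residueField x'))) =
    ENat.card {σ : Γ((fξ).normalization, (fξ).fromNormalization ⁻¹ᵁ U) →+*
        AlgebraicClosure (IsLocalRing.ResidueField (X.presheaf.stalk ((fξ).fromNormalization x'))) //
      σ.comp ((fξ).fromNormalization.app U).hom =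
        (Brnch.toClosure (X.presheaf.stalk ((fξ).fromNormalization x'))).comp
          (X.presheaf.germ U ((fξ).fromNormalization x') hx).hom ∧
      RingHom.ker σ = ((hU.preimage (fξ).fromNormalization).primeIdealOf ⟨x', hx⟩).asIdeal} := by
  letI := ((fξ).fromNormalization.residueFieldMap x').hom.toAlgebra
  have hW : IsAffineOpen ((fξ).fromNormalization ⁻¹ᵁ U) := hU.preimage _
  have hy : x' ∈ (fξ).fromNormalization ⁻¹ᵁ U := hx
  let evA := (X.evaluation U ((fξ).fromNormalization x') hx).hom
  let evB := ((fξ).normalization.evaluation ((fξ).fromNormalization ⁻¹ᵁ U) x' hy).hom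
  let g := ((fξ).fromNormalization.app U).hom
  letI : Algebra (X.residueField ((fξ).fromNormalization x'))
      (AlgebraicClosure (IsLocalRing.ResidueField (X.presheaf.stalk ((fξ).fromNormalization x')))) :=
    (AlgebraicClosure.instAlgebra (IsLocalRing.ResidueField (X.presheaf.stalk ((fξ).fromNormalization x'))) :
      Algebra (IsLocalRing.ResidueField (X.presheaf.stalk ((fξ).fromNormalization x')))
      (AlgebraicClosure (IsLocalRing.ResidueField (X.presheaf.stalk ((fξ).fromNormalization x')))))
  have hcomm : (algebraMap (X.residueField ((fξ).fromNormalization x'))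
      ((fξ).normalization.residueField x')).comp evA = evB.comp g := by
    have := Scheme.evaluation_naturality (fξ).fromNormalization x' hx
    exact congr($(this).hom)
  have hg : g.IsIntegral := IsIntegralHom.isIntegral_app (fξ).fromNormalization U hU
  have hA := exists_evaluation_frac U hU ((fξ).fromNormalization x') hx
  have hB := exists_evaluation_frac _ hW x' hy
  have key := card_emb_eq (Ω := AlgebraicClosure (IsLocalRing.ResidueField
    (X.presheaf.stalk ((fξ).fromNormalization x')))) evA evB g hg hcomm hA hB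
  have hcompat : (algebraMap (X.residueField ((fξ).fromNormalization x'))
      (AlgebraicClosure (IsLocalRing.ResidueField
        (X.presheaf.stalk ((fξ).fromNormalization x'))))).comp evA =
      (Brnch.toClosure (X.presheaf.stalk ((fξ).fromNormalization x'))).comp
          (X.presheaf.germ U ((fξ).fromNormalization x') hx).hom := by
    ext a
    rfl
  rw [key, ker_evaluation _ hW x' hy, hcompat]

theorem card_emb_pointwise' (U : X.Opens) (hU : IsAffineOpen U) (x : X) (hx : x ∈ U)
    (x' : (fξ).normalization) (h : (fξ).fromNormalization x' = x)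
    (hx' : x' ∈ (fξ).fromNormalization ⁻¹ᵁ U) :
    (letI := ((fξ).fromNormalization.residueFieldMap x').hom.toAlgebra
     ENat.card (Field.Emb (X.residueField ((fξ).fromNormalization x'))
       ((fξ).normalization.residueField x'))) =
    ENat.card {σ : Γ((fξ).normalization, (fξ).fromNormalization ⁻¹ᵁ U) →+*
        AlgebraicClosure (IsLocalRing.ResidueField (X.presheaf.stalk x)) //
      σ.comp ((fξ).fromNormalization.app U).hom =
        (Brnch.toClosure (X.presheaf.stalk x)).comp (X.presheaf.germ U x hx).hom ∧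
      RingHom.ker σ = ((hU.preimage (fξ).fromNormalization).primeIdealOf ⟨x', hx'⟩).asIdeal} := by
  subst h
  exact card_emb_pointwise X U hU x' hx

theorem ker_toClosure (R : Type u) [CommRing R] [IsLocalRing R] :
    RingHom.ker (Brnch.toClosure R) = IsLocalRing.maximalIdeal R := by
  ext r
  rw [RingHom.mem_ker]
  unfold Brnch.toClosure
  rw [RingHom.comp_apply, map_eq_zero_iff _ (RingHom.injective _), IsLocalRing.residue_eq_zero_iff]

theorem main (x : X) :
    Brnch.numBranchesAt X x =
        ENat.card {x' : (fξ).normalization // (fξ).fromNormalization x' = x} ∧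
      Brnch.numGeomBranchesAt X x =
        ∑' x' : {x' : (fξ).normalization // (fξ).fromNormalization x' = x},
          (letI := ((fξ).fromNormalization.residueFieldMap x'.1).hom.toAlgebra
           ENat.card (Field.Emb (X.residueField ((fξ).fromNormalization x'.1))
             ((fξ).normalization.residueField x'.1))) := by
  obtain ⟨_, ⟨U, hU, rfl⟩, hxU, -⟩ := X.isBasis_affineOpens.exists_subset_of_mem_open
    (Set.mem_univ x) isOpen_univ
  have hξ : genericPoint X ∈ U :=
    ((genericPoint_spec X).mem_open_set_iff U.isOpen).mpr ⟨x, trivial, hxU⟩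
  have hW : IsAffineOpen ((fξ).fromNormalization ⁻¹ᵁ U) := hU.preimage _
  have : Nonempty U := ⟨⟨_, hξ⟩⟩
  letI algL := ((fξ).app U).hom.toAlgebra
  have hL := NormDimOne.isField_sections X U hξ
  have hfr := NormDimOne.isFractionRing_sections X U hU hξ
  letI algR := TopCat.Presheaf.algebra_section_stalk X.presheaf (⟨x, hxU⟩ : U)
  have hloc : IsLocalization.AtPrime (X.presheaf.stalk x) (hU.primeIdealOf ⟨x, hxU⟩).asIdeal :=
    hU.isLocalization_stalk ⟨x, hxU⟩
  have hfinmin : (minimalPrimes (X.presheaf.stalk x)).Finite := by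
    rw [IsDomain.minimalPrimes_eq_singleton_bot]
    exact Set.finite_singleton _
  obtain ⟨⟨E1⟩, ⟨E2⟩⟩ := ring_package Γ(X, U) (hU.primeIdealOf ⟨x, hxU⟩).asIdeal
    (X.presheaf.stalk x) Γ(Spec (X.presheaf.stalk (genericPoint X)), (fξ) ⁻¹ᵁ U) hL
    Γ((fξ).normalization, (fξ).fromNormalization ⁻¹ᵁ U)
    ((fξ).fromNormalization.app U).hom
    ((fξ).normalizationObjIso hU).commRingCatIsoToRingEquiv (by
      intro a
      rw [Scheme.Hom.fromNormalization_app _ hU]
      show (((fξ).normalizationObjIso hU).inv ≫ ((fξ).normalizationObjIso hU).hom).hom _ = _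
      rw [Iso.inv_hom_id]
      rfl)
  obtain ⟨E3, hE3⟩ := fibre_equiv X U hU x hxU
  constructor
  · unfold Brnch.numBranchesAt Brnch.numBranches
    rw [if_pos hfinmin]
    exact ENat.card_congr (E1.trans E3.symm)
  · unfold Brnch.numGeomBranchesAt Brnch.numGeomBranches
    rw [if_pos hfinmin, ENat.card_congr E2]
    have hp : RingHom.ker ((Brnch.toClosure (X.presheaf.stalk x)).comp
        (algebraMap Γ(X, U) (X.presheaf.stalk x))) = (hU.primeIdealOf ⟨x, hxU⟩).asIdeal := by
      rw [← RingHom.comap_ker, ker_toClosure]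
      exact IsLocalization.AtPrime.under_maximalIdeal (X.presheaf.stalk x)
        (hU.primeIdealOf ⟨x, hxU⟩).asIdeal
    rw [card_hom_eq_tsum _ _ _ hp, ← Equiv.tsum_eq E3]
    refine tsum_congr fun x' => ?_
    have hx' : x'.1 ∈ (fξ).fromNormalization ⁻¹ᵁ U := by
      show (fξ).fromNormalization x'.1 ∈ U
      rw [x'.2]; exact hxU
    rw [hE3 x' hx']
    exact (card_emb_pointwise' X U hU x hxU x'.1 x'.2 hx').symm

end Sch

end Groth.Agent.Lib.Helper39.BranchFib
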