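import Mathlib
import Groth.Prelude.Def_Pi1

set_option autoImplicit false
set_option linter.style.haveILetI false
universe u

open CategoryTheory AlgebraicGeometry

namespace Groth.Agent.Lib.Helper39.CurveVal

section

variable (X : Scheme.{u}) [IsIntegral X]

/-- `algebraMap O_x K` is the specialization map from the generic point. -/
theorem algebraMap_stalk_functionField (x : X) :
    algebraMap (X.presheaf.stalk x) X.functionField =
      (X.presheaf.stalkSpecializes ((genericPoint_spec X).specializes trivial)).hom := rfl

/-- If `x ⤳ x₀`, the image of `O_{x₀}` in `K` lies in that of `O_x`. -/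
theorem range_algebraMap_le_of_specializes {x x₀ : X} (h : x ⤳ x₀) :
    (algebraMap (X.presheaf.stalk x₀) X.functionField).range ≤
      (algebraMap (X.presheaf.stalk x) X.functionField).range := by
  rintro _ ⟨a, rfl⟩
  refine ⟨(X.presheaf.stalkSpecializes h).hom a, ?_⟩
  rw [algebraMap_stalk_functionField, algebraMap_stalk_functionField,
    ← CommRingCat.comp_apply, TopCat.Presheaf.stalkSpecializes_comp]

/-- If the stalk at `x` is a field then `x` is the generic point. -/
theorem eq_genericPoint_of_isField_stalk (x : X) (h : IsField (X.presheaf.stalk x)) :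
    x = genericPoint X := by
  obtain ⟨_, ⟨U, hU, rfl⟩, hxU, -⟩ := X.isBasis_affineOpens.exists_subset_of_mem_open
    (Set.mem_univ x) isOpen_univ
  have hξ : genericPoint X ∈ U :=
    ((genericPoint_spec X).mem_open_set_iff U.isOpen).mpr ⟨x, trivial, hxU⟩
  have : Nonempty U := ⟨⟨x, hxU⟩⟩
  let _ := TopCat.Presheaf.algebra_section_stalk X.presheaf (⟨x, hxU⟩ : U)
  have hloc := hU.isLocalization_stalk ⟨x, hxU⟩
  have h0 : (hU.primeIdealOf ⟨x, hxU⟩).asIdeal = ⊥ := by
    by_contra hne
    exact IsLocalization.AtPrime.not_isField Γ(X, U) hne (X.presheaf.stalk x) h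
  have h3 : hU.primeIdealOf ⟨x, hxU⟩ = hU.primeIdealOf ⟨genericPoint X, hξ⟩ := by
    rw [hU.primeIdealOf_genericPoint, genericPoint_eq_bot_of_affine]
    exact PrimeSpectrum.ext h0
  have h4 := congr(hU.fromSpec $h3)
  rwa [hU.fromSpec_primeIdealOf, hU.fromSpec_primeIdealOf] at h4

/-- A Noetherian integrally closed local domain of dimension one is a DVR. -/
theorem isDiscreteValuationRing_of_dim_one (R : Type*) [CommRing R] [IsDomain R] [IsLocalRing R]
    [IsNoetherianRing R] [IsIntegrallyClosed R] (hdim : ringKrullDim R = 1) :
    IsDiscreteValuationRing R := by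
  have hnf : ¬ IsField R := by
    intro hf
    have := ringKrullDim_eq_zero_of_isField hf
    rw [hdim] at this
    exact one_ne_zero this
  have h1 : Ring.KrullDimLE 1 R := by rw [Ring.krullDimLE_iff, hdim]; rfl
  have hD : Ring.DimensionLEOne R :=
    ⟨fun hp0 hp => Ring.krullDimLE_one_iff_of_noZeroDivisors.mp h1 _ hp0 hp⟩
  have : IsDedekindDomain R := { (inferInstance : IsNoetherianRing R), hD,
    (inferInstance : IsIntegrallyClosed R) with }
  exact ((IsDiscreteValuationRing.TFAE R hnf).out 0 2).mpr this

/-- For `x` specializing to a point `x₀` whose local ring is a valuation ring, the image of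
`O_x` in `K` is a valuation subring. -/
noncomputable def valuationSubringOfSpecializes {x x₀ : X} (h : x ⤳ x₀)
    [ValuationRing (X.presheaf.stalk x₀)] : ValuationSubring X.functionField :=
  { (algebraMap (X.presheaf.stalk x) X.functionField).range with
    mem_or_inv_mem' := fun z => by
      rcases ValuationRing.isInteger_or_isInteger (X.presheaf.stalk x₀) z with ⟨a, ha⟩ | ⟨a, ha⟩
      · left
        exact range_algebraMap_le_of_specializes X h ⟨a, ha⟩
      · right
        exact range_algebraMap_le_of_specializes X h ⟨a, ha⟩ }

theorem coe_valuationSubringOfSpecializes {x x₀ : X} (h : x ⤳ x₀)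
    [ValuationRing (X.presheaf.stalk x₀)] :
    ((valuationSubringOfSpecializes X h : ValuationSubring X.functionField) : Set X.functionField) =
      Set.range (algebraMap (X.presheaf.stalk x) X.functionField) := rfl

end

end Groth.Agent.Lib.Helper39.CurveVal
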