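import Mathlib
import Groth.Agent.Lib.Helper39.Branch

namespace Groth.Agent.Lib.Helper39.Wedge

open Module IsLocalRing
set_option linter.unusedSectionVars false

section LemmaG
variable {A N : Type*} [CommRing A] [IsLocalRing A] [CommRing N] [Algebra A N]
  {ι : Type*} [Fintype ι] (I : ι → Ideal N)

/-- the A-linear map N → ∏ N/I_i -/
noncomputable def piMap : N →ₗ[A] (∀ i, N ⧸ I i) :=
  LinearMap.pi fun i => (Ideal.Quotient.mkₐ A (I i)).toLinearMap

theorem piMap_apply (x : N) (i : ι) : piMap (A := A) I x i = Ideal.Quotient.mk (I i) x := rfl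

theorem piMap_surjective (hI : Pairwise (Function.onFun IsCoprime I)) :
    Function.Surjective (piMap (A := A) I) := by
  intro g
  obtain ⟨r, hr⟩ := Ideal.pi_quotient_surjective hI g
  exact ⟨r, funext hr⟩

/-- the diagonal map `A → ∏ N/I_i`. -/
noncomputable def diagMap : A →ₗ[A] (∀ i, N ⧸ I i) :=
  (piMap (A := A) I).comp (Algebra.linearMap A N)

theorem diagMap_apply (a : A) (i : ι) :
    diagMap (A := A) I a i = Ideal.Quotient.mk (I i) (algebraMap A N a) := rfl

theorem length_range_diagMap [Nonempty ι]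
    (hcomap : ∀ i, (I i).comap (algebraMap A N) = maximalIdeal A) :
    Module.length A (LinearMap.range (diagMap (A := A) I)) = 1 := by
  have hker : LinearMap.ker (diagMap (A := A) I) = maximalIdeal A := by
    ext a
    simp only [LinearMap.mem_ker]
    constructor
    · intro h
      obtain ⟨i⟩ := ‹Nonempty ι›
      rw [← hcomap i, Ideal.mem_comap, ← Ideal.Quotient.eq_zero_iff_mem]
      exact congrFun h i
    · intro h
      funext i
      rw [diagMap_apply]
      show Ideal.Quotient.mk (I i) (algebraMap A N a) = 0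
      rw [Ideal.Quotient.eq_zero_iff_mem, ← Ideal.mem_comap, hcomap i]; exact h
  rw [← (LinearMap.quotKerEquivRange (diagMap (A := A) I)).length_eq, hker,
    Module.length_eq_one_iff]
  exact isSimpleModule_iff_isCoatom.mpr (Ideal.isMaximal_def.mp inferInstance)

theorem lemmaG [Nonempty ι] (hI : Pairwise (Function.onFun IsCoprime I))
    (hcomap : ∀ i, (I i).comap (algebraMap A N) = maximalIdeal A) :
    ∑ i, Module.length A (N ⧸ I i) ≤
        1 + Module.length A (N ⧸ LinearMap.range (Algebra.linearMap A N)) ∧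
      (Module.length A (N ⧸ LinearMap.range (Algebra.linearMap A N)) ≠ ⊤ →
        1 + Module.length A (N ⧸ LinearMap.range (Algebra.linearMap A N)) ≤
          ∑ i, Module.length A (N ⧸ I i) →
        ∀ x : N, (∃ a : A, ∀ i, x - algebraMap A N a ∈ I i) → x ∈ (algebraMap A N).range) := by
  classical
  set D := LinearMap.range (diagMap (A := A) I) with hD
  set R0 := LinearMap.range (Algebra.linearMap A N) with hR0
  have hP : Module.length A (∀ i, N ⧸ I i) = 1 + Module.length A ((∀ i, N ⧸ I i) ⧸ D) := by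
    rw [Module.length_eq_add_of_exact D.subtype D.mkQ (Submodule.subtype_injective _)
      (Submodule.mkQ_surjective _) (LinearMap.exact_subtype_mkQ D), length_range_diagMap I hcomap]
  have hle : R0 ≤ LinearMap.ker (D.mkQ ∘ₗ piMap (A := A) I) := by
    rintro _ ⟨a, rfl⟩
    rw [LinearMap.mem_ker, LinearMap.comp_apply, Submodule.mkQ_apply,
      Submodule.Quotient.mk_eq_zero]
    exact ⟨a, rfl⟩
  set g : (N ⧸ R0) →ₗ[A] ((∀ i, N ⧸ I i) ⧸ D) := R0.liftQ (D.mkQ ∘ₗ piMap (A := A) I) hle with hg
  have hgs : Function.Surjective g := by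
    intro y
    obtain ⟨p, rfl⟩ := Submodule.mkQ_surjective D y
    obtain ⟨x, rfl⟩ := piMap_surjective (A := A) I hI p
    exact ⟨Submodule.Quotient.mk x, rfl⟩
  have hW : Module.length A (N ⧸ R0) =
      Module.length A (LinearMap.ker g) + Module.length A ((∀ i, N ⧸ I i) ⧸ D) :=
    Module.length_eq_add_of_exact (LinearMap.ker g).subtype g (Submodule.subtype_injective _) hgs
      (LinearMap.exact_subtype_ker_map g)
  rw [← Module.length_pi_of_fintype, hP]
  refine ⟨?_, ?_⟩
  · rw [hW]
    gcongr
    exact le_add_self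
  · intro hfin hge x hx
    have hfin2 : Module.length A ((∀ i, N ⧸ I i) ⧸ D) ≠ ⊤ := by
      intro h
      rw [hW, h, add_top] at hfin
      exact hfin rfl
    have h1 : Module.length A (N ⧸ R0) ≤ Module.length A ((∀ i, N ⧸ I i) ⧸ D) := by
      have := hge
      rwa [ENat.add_le_add_iff_left (ENat.one_ne_top)] at this
    have h2 : Module.length A (LinearMap.ker g) = 0 := by
      rw [hW] at h1
      have h3 : Module.length A (LinearMap.ker g) + Module.length A ((∀ i, N ⧸ I i) ⧸ D)
          ≤ 0 + Module.length A ((∀ i, N ⧸ I i) ⧸ D) := by rwa [zero_add]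
      have := (ENat.add_le_add_iff_right hfin2).mp h3
      exact le_antisymm this zero_le
    rw [Module.length_eq_zero_iff] at h2
    obtain ⟨a, ha⟩ := hx
    have hmem : (Submodule.Quotient.mk x : N ⧸ R0) ∈ LinearMap.ker g := by
      rw [LinearMap.mem_ker]
      show D.mkQ (piMap (A := A) I x) = 0
      rw [Submodule.mkQ_apply, Submodule.Quotient.mk_eq_zero]
      refine ⟨a, ?_⟩
      funext i
      rw [diagMap_apply, piMap_apply]
      symm
      rw [← sub_eq_zero, ← map_sub, Ideal.Quotient.eq_zero_iff_mem]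
      exact ha i
    have h0 : (⟨Submodule.Quotient.mk x, hmem⟩ : LinearMap.ker g) = 0 := Subsingleton.elim _ _
    have h0' : (Submodule.Quotient.mk x : N ⧸ R0) = 0 := congrArg Subtype.val h0
    rw [Submodule.Quotient.mk_eq_zero] at h0'
    obtain ⟨b, hb⟩ := h0'
    exact ⟨b, hb⟩

end LemmaG

section Main
variable {A N : Type*} [CommRing A] [IsLocalRing A] [CommRing N] [Algebra A N]

theorem surjective_of_length_eq_one (I : Ideal N) (hI : I ≠ ⊤)
    (h : Module.length A (N ⧸ I) = 1) :
    Function.Surjective ((Ideal.Quotient.mk I).comp (algebraMap A N)) := by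
  rw [Module.length_eq_one_iff] at h
  set c : A →ₗ[A] N ⧸ I := (Ideal.Quotient.mkₐ A I).toLinearMap.comp (Algebra.linearMap A N)
    with hc
  have hne : LinearMap.range c ≠ ⊥ := by
    intro hbot
    have h1 : c 1 ∈ LinearMap.range c := ⟨1, rfl⟩
    rw [hbot, Submodule.mem_bot] at h1
    have h2 : (Ideal.Quotient.mk I) (1 : N) = 0 := by
      have : c 1 = Ideal.Quotient.mk I (algebraMap A N 1) := rfl
      rw [this, map_one] at h1
      exact h1
    rw [Ideal.Quotient.eq_zero_iff_mem] at h2
    exact hI ((Ideal.eq_top_iff_one I).mpr h2)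
  have htop : LinearMap.range c = ⊤ := (eq_bot_or_eq_top _).resolve_left hne
  intro y
  have : y ∈ LinearMap.range c := by rw [htop]; trivial
  obtain ⟨a, ha⟩ := this
  exact ⟨a, ha⟩

theorem one_le_length_quot (I : Ideal N) (hI : I ≠ ⊤) : 1 ≤ Module.length A (N ⧸ I) := by
  have : Nontrivial (N ⧸ I) := Ideal.Quotient.nontrivial_iff.mpr hI
  exact Order.one_le_iff_pos.mpr Module.length_pos

theorem pairwise_coprime_maximal {ι : Type*} (f : ι → MaximalSpectrum N)
    (hf : Function.Injective f) :
    Pairwise (Function.onFun IsCoprime fun i => (f i).asIdeal) := by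
  intro i j hij
  show IsCoprime (f i).asIdeal (f j).asIdeal
  rw [Ideal.isCoprime_iff_sup_eq]
  apply Ideal.IsMaximal.coprime_of_ne (f i).isMaximal (f j).isMaximal
  intro h
  exact hij (hf (MaximalSpectrum.ext h))

theorem sum_eq_one_of_le {ι : Type*} [Fintype ι] (f : ι → ℕ∞) (h1 : ∀ i, 1 ≤ f i)
    (hle : ∑ i, f i ≤ (Fintype.card ι : ℕ∞)) : ∀ i, f i = 1 := by
  classical
  have hdecomp : ∀ i, f i = 1 + (f i - 1) := fun i => (add_tsub_cancel_of_le (h1 i)).symm
  have hsum : ∑ i, f i = (Fintype.card ι : ℕ∞) + ∑ i, (f i - 1) := by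
    conv_lhs => rw [Finset.sum_congr rfl (fun i _ => hdecomp i)]
    rw [Finset.sum_add_distrib]
    simp
  rw [hsum] at hle
  have h0 : ∑ i, (f i - 1) = 0 := by
    have h3 : (Fintype.card ι : ℕ∞) + ∑ i, (f i - 1) ≤ (Fintype.card ι : ℕ∞) + 0 := by
      rwa [add_zero]
    have := (ENat.add_le_add_iff_left (ENat.natCast_ne_top _)).mp h3
    exact le_antisymm this zero_le
  intro i
  have := (Finset.sum_eq_zero_iff.mp h0) i (Finset.mem_univ i)
  rw [hdecomp i, this, add_zero]

theorem wedge_main
    (hfin : Module.length A (N ⧸ LinearMap.range (Algebra.linearMap A N)) ≠ ⊤)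
    (hcomap : ∀ m' : MaximalSpectrum N, m'.asIdeal.comap (algebraMap A N) = maximalIdeal A)
    (hge : Module.length A (N ⧸ LinearMap.range (Algebra.linearMap A N)) + 1
      ≤ ENat.card (MaximalSpectrum N)) :
    (∀ m' : MaximalSpectrum N,
        Function.Surjective ((Ideal.Quotient.mk m'.asIdeal).comp (algebraMap A N))) ∧
      ∀ x : N, (∃ a : A, ∀ m' : MaximalSpectrum N, x - algebraMap A N a ∈ m'.asIdeal) →
        x ∈ (algebraMap A N).range := by
  classical
  obtain ⟨n, hn⟩ := ENat.ne_top_iff_exists.mp hfin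
  -- finiteness of the maximal spectrum
  have hcard : ENat.card (MaximalSpectrum N) ≤ ((n + 1 : ℕ) : ℕ∞) := by
    apply Groth.Agent.Lib.Helper39.Branch.enat_card_le_of_forall_finset
    intro t
    rcases t.eq_empty_or_nonempty with rfl | hne
    · simp
    have : Nonempty t := hne.to_subtype
    have hG := (lemmaG (A := A) (fun i : t => i.1.asIdeal)
      (pairwise_coprime_maximal (fun i : t => i.1) Subtype.val_injective)
      (fun i => hcomap i.1)).1
    have h1 : (t.card : ℕ∞) ≤ ∑ i : t, Module.length A (N ⧸ i.1.asIdeal) := by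
      calc (t.card : ℕ∞) = ∑ _i : t, (1 : ℕ∞) := by simp
        _ ≤ _ := Finset.sum_le_sum fun i _ => one_le_length_quot _ i.1.isMaximal.ne_top
    have h2 := h1.trans hG
    rw [← hn, add_comm] at h2
    exact_mod_cast h2
  have hfinite : Finite (MaximalSpectrum N) := by
    by_contra hinf
    rw [not_finite_iff_infinite] at hinf
    rw [ENat.card_eq_top_of_infinite] at hcard
    exact absurd hcard (by simp)
  have : Fintype (MaximalSpectrum N) := Fintype.ofFinite _
  rw [ENat.card_eq_coe_fintype_card] at hge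
  have hnonempty : Nonempty (MaximalSpectrum N) := by
    by_contra hemp
    rw [not_nonempty_iff] at hemp
    rw [Fintype.card_eq_zero] at hge
    simp at hge
  have hG := lemmaG (A := A) (fun i : MaximalSpectrum N => i.asIdeal)
      (pairwise_coprime_maximal (fun i : MaximalSpectrum N => i) (fun _ _ h => h))
      (fun i => hcomap i)
  have hle : ∑ i : MaximalSpectrum N, Module.length A (N ⧸ i.asIdeal) ≤
      (Fintype.card (MaximalSpectrum N) : ℕ∞) := by
    refine hG.1.trans ?_
    rwa [add_comm]
  have hone := sum_eq_one_of_le _ (fun i : MaximalSpectrum N =>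
    one_le_length_quot (A := A) i.asIdeal i.isMaximal.ne_top) hle
  refine ⟨fun m' => surjective_of_length_eq_one _ m'.isMaximal.ne_top (hone m'), ?_⟩
  apply hG.2 hfin
  rw [add_comm]
  refine hge.trans ?_
  rw [Finset.sum_congr rfl (fun i _ => hone i)]
  simp

end Main

end Groth.Agent.Lib.Helper39.Wedge
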