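import Groth.Agent.Lib.Helper39.DimOneSemilocal

/-!
# Gluing semi-local one-dimensional subrings of a field (helper39)

* `KA.exists_inv_mem_jacobson_family` (= S1640): if `A ⊔ B i = ⊤` for semi-local one-dimensional
  Noetherian `B i`, some `x ∈ A` has `x⁻¹ ∈ rad (B i)` for all `i`.
* `KA.exists_partition_of_unity`: from `x ∈ A`, `x⁻¹ ∈ rad B`, `y ∈ B`, `y⁻¹ ∈ rad A` build
  `f + g = 1` in `A ∩ B` with `f ∈ Aˣ ∩ rad B`, `g ∈ Bˣ ∩ rad A`.
* `KA.isLocalization_away_of_mem_jacobson`: then `A = (A ∩ B)[1/f]`.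
* `KA.isLocalization_away_field_of_mem_jacobson`: `K = B[1/f]` for `0 ≠ f ∈ rad B`.
* `KA.glue_two`: packaged form for two rings.
-/

namespace Groth.Agent.Lib.Helper39.KA

open Module

section Family
/-- Library version of S1640. -/
theorem exists_inv_mem_jacobson_family {K : Type*} [Field K] (A : Subring K) [IsFractionRing A K]
    (r : ℕ) (B : Fin r → Subring K) [∀ i, IsNoetherianRing (B i)] [∀ i, IsFractionRing (B i) K]
    (hdim : ∀ i, ringKrullDim (B i) = 1) (hsl : ∀ i, Finite (MaximalSpectrum (B i)))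
    (hgen : ∀ i, A ⊔ B i = ⊤) :
    ∃ x : K, x ∈ A ∧ x ≠ 0 ∧ ∀ i, ∃ hx : x⁻¹ ∈ B i, (⟨x⁻¹, hx⟩ : B i) ∈ (⊥ : Ideal (B i)).jacobson := by
  classical
  have hKd : ∀ i, Ring.KrullDimLE 1 (B i) := fun i => krullDimLE_one_of_eq (hdim i)
  have hnf : ∀ i, ¬ IsField (B i) := by
    intro i hf
    have := ringKrullDim_eq_zero_of_isField hf
    rw [hdim i] at this
    exact one_ne_zero this
  choose W hW1 hW2 using fun i => exists_finset_valuation (B i) K (hnf i)
  let Wall : Finset (Valuation K (WithZero (Multiplicative ℤ))) := Finset.univ.biUnion W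
  have h : ∀ w ∈ Wall, ∃ a ∈ A, 1 < w a := by
    intro w hw
    obtain ⟨i, -, hwi⟩ := Finset.mem_biUnion.mp hw
    by_contra hcon
    push Not at hcon
    obtain ⟨hB, z, hz⟩ := hW1 i w hwi
    have hA' : A ≤ w.valuationSubring.toSubring := fun a ha => hcon a ha
    have hB' : B i ≤ w.valuationSubring.toSubring := fun b hb => hB ⟨b, hb⟩
    have htop : (⊤ : Subring K) ≤ w.valuationSubring.toSubring := by
      rw [← hgen i]; exact sup_le hA' hB'
    have : w z ≤ 1 := htop (Subring.mem_top z)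
    exact not_lt_of_ge this hz
  obtain ⟨x, hxA, hx0, hx⟩ := exists_forall_one_lt_valuation A Wall h
  choose n₀ hn₀ using fun i => hW2 i x
    (fun w hw => hx w (Finset.mem_biUnion.mpr ⟨i, Finset.mem_univ i, hw⟩))
  let N := Finset.univ.sup n₀
  refine ⟨x ^ N, A.pow_mem hxA N, pow_ne_zero _ hx0, fun i => ?_⟩
  obtain ⟨b, hb, hbj⟩ := hn₀ i N (Finset.le_sup (Finset.mem_univ i))
  have hbx : (b : K) = (x ^ N)⁻¹ := by
    rw [← inv_pow]; exact hb
  refine ⟨hbx ▸ b.2, ?_⟩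
  convert hbj
  exact hbx.symm

end Family



section Loc

theorem isLocalization_away_of_injective {R S : Type*} [CommRing R] [CommRing S] [Algebra R S]
    (hinj : Function.Injective (algebraMap R S)) (f : R) (hf : IsUnit (algebraMap R S f))
    (hsurj : ∀ s : S, ∃ n : ℕ, ∃ r : R, algebraMap R S r = algebraMap R S f ^ n * s) :
    IsLocalization.Away f S := by
  rw [IsLocalization.Away, isLocalization_iff]
  refine ⟨?_, ?_, ?_⟩
  · rintro ⟨_, n, rfl⟩
    rw [map_pow]; exact hf.pow n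
  · intro z
    obtain ⟨n, r, hr⟩ := hsurj z
    exact ⟨(r, ⟨f ^ n, n, rfl⟩), by rw [hr, map_pow, mul_comm]⟩
  · intro x y hxy
    exact ⟨1, by rw [hinj hxy]⟩

variable {K : Type*} [Field K]

/-- Key localization lemma for gluing: if `f ∈ R = A ∩ B` is invertible in `A` and lies in the
radical of the one-dimensional domain `B` (with fraction field `K`), then `A = R[1/f]`. -/
theorem isLocalization_away_of_mem_jacobson (R A B : Subring K) (hRA : R ≤ A)
    (hR : ∀ k, k ∈ A → k ∈ B → k ∈ R) [Ring.KrullDimLE 1 B] [IsFractionRing B K]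
    (f : K) (hfR : f ∈ R) (hfB : f ∈ B) (hfu : f⁻¹ ∈ A) (hf0 : f ≠ 0)
    (hfrad : (⟨f, hfB⟩ : B) ∈ (⊥ : Ideal B).jacobson) :
    @IsLocalization.Away R _ ⟨f, hfR⟩ A _ (Subring.inclusion hRA).toAlgebra := by
  let _ : Algebra R A := (Subring.inclusion hRA).toAlgebra
  apply isLocalization_away_of_injective (Subring.inclusion_injective hRA)
  · refine isUnit_iff_exists_inv.mpr ⟨⟨f⁻¹, hfu⟩, ?_⟩
    apply Subtype.ext
    change f * f⁻¹ = 1
    exact mul_inv_cancel₀ hf0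
  · intro a
    obtain ⟨n, b, hb⟩ := exists_pow_mul_mem_range (K := K) hfrad (a : K)
    have hb' : (b : K) = f ^ n * (a : K) := hb
    have hA : f ^ n * (a : K) ∈ A := A.mul_mem (A.pow_mem (hRA hfR) n) a.2
    have hBm : f ^ n * (a : K) ∈ B := hb' ▸ b.2
    refine ⟨n, ⟨f ^ n * (a : K), hR _ hA hBm⟩, ?_⟩
    apply Subtype.ext
    rfl

/-- `K = B[1/f]` for `f ∈ rad B`, `f ≠ 0`. -/
theorem isLocalization_away_field_of_mem_jacobson (B : Subring K) [Ring.KrullDimLE 1 B]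
    [IsFractionRing B K] (f : B) (hf0 : f ≠ 0) (hfrad : f ∈ (⊥ : Ideal B).jacobson) :
    IsLocalization.Away f K := by
  apply isLocalization_away_of_injective (IsFractionRing.injective B K)
  · have : algebraMap B K f ≠ 0 := by
      rwa [Ne, map_eq_zero_iff _ (IsFractionRing.injective B K)]
    exact this.isUnit
  · intro a
    obtain ⟨n, b, hb⟩ := exists_pow_mul_mem_range (K := K) hfrad a
    exact ⟨n, b, hb⟩

end Loc



section Elements
variable {K : Type*} [Field K]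

/-- The partition of unity used to glue two semi-local rings. -/
theorem exists_partition_of_unity (A B : Subring K)
    (x : K) (hxA : x ∈ A) (hx0 : x ≠ 0) (hpB : x⁻¹ ∈ B)
    (hp : (⟨x⁻¹, hpB⟩ : B) ∈ (⊥ : Ideal B).jacobson)
    (y : K) (hyB : y ∈ B) (hy0 : y ≠ 0) (hqA : y⁻¹ ∈ A)
    (hq : (⟨y⁻¹, hqA⟩ : A) ∈ (⊥ : Ideal A).jacobson) :
    ∃ f g : K, f + g = 1 ∧ f ≠ 0 ∧ g ≠ 0 ∧ f⁻¹ ∈ A ∧ g⁻¹ ∈ B ∧
      ∃ (hfA : f ∈ A) (hfB : f ∈ B) (hgA : g ∈ A) (hgB : g ∈ B),
        (⟨f, hfB⟩ : B) ∈ (⊥ : Ideal B).jacobson ∧ (⟨g, hgA⟩ : A) ∈ (⊥ : Ideal A).jacobson := by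
  -- `u = 1 + x/y` is a unit of `A`, `v = 1 + y/x` is a unit of `B`
  have hu : IsUnit ((⟨y⁻¹, hqA⟩ : A) * ⟨x, hxA⟩ + 1) := Ideal.mem_jacobson_bot.mp hq _
  have hv : IsUnit ((⟨x⁻¹, hpB⟩ : B) * ⟨y, hyB⟩ + 1) := Ideal.mem_jacobson_bot.mp hp _
  obtain ⟨f', hf'⟩ := isUnit_iff_exists_inv.mp hu
  obtain ⟨g', hg'⟩ := isUnit_iff_exists_inv.mp hv
  have hf'K : (y⁻¹ * x + 1) * (f' : K) = 1 := congrArg Subtype.val hf'
  have hg'K : (x⁻¹ * y + 1) * (g' : K) = 1 := congrArg Subtype.val hg'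
  have hs : x + y ≠ 0 := by
    intro h
    have : y⁻¹ * x + 1 = 0 := by
      have : x = -y := eq_neg_of_add_eq_zero_left h
      rw [this]; field_simp; ring
    rw [this, zero_mul] at hf'K
    exact zero_ne_one hf'K
  have hf'eq : (f' : K) = y / (x + y) := by
    have h1 : y⁻¹ * x + 1 = (x + y) / y := by field_simp
    rw [h1] at hf'K
    field_simp at hf'K ⊢
    linear_combination hf'K
  have hg'eq : (g' : K) = x / (x + y) := by
    have h1 : x⁻¹ * y + 1 = (x + y) / x := by field_simp; ring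
    rw [h1] at hg'K
    field_simp at hg'K ⊢
    linear_combination hg'K
  have hsum : (f' : K) + (g' : K) = 1 := by
    rw [hf'eq, hg'eq]; field_simp; ring
  have hfB : (f' : K) ∈ B := by
    have : (f' : K) = 1 - (g' : K) := by linear_combination hsum
    rw [this]; exact B.sub_mem B.one_mem g'.2
  have hgA : (g' : K) ∈ A := by
    have : (g' : K) = 1 - (f' : K) := by linear_combination hsum
    rw [this]; exact A.sub_mem A.one_mem f'.2
  have hf0 : (f' : K) ≠ 0 := by rw [hf'eq]; exact div_ne_zero hy0 hs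
  have hg0 : (g' : K) ≠ 0 := by rw [hg'eq]; exact div_ne_zero hx0 hs
  refine ⟨f', g', hsum, hf0, hg0, ?_, ?_, f'.2, hfB, hgA, g'.2, ?_, ?_⟩
  · have : (f' : K)⁻¹ = y⁻¹ * x + 1 := by
      rw [hf'eq]; field_simp
    rw [this]
    exact A.add_mem (A.mul_mem hqA hxA) A.one_mem
  · have : (g' : K)⁻¹ = x⁻¹ * y + 1 := by
      rw [hg'eq]; field_simp; ring
    rw [this]
    exact B.add_mem (B.mul_mem hpB hyB) B.one_mem
  · have : (⟨(f' : K), hfB⟩ : B) = ⟨x⁻¹, hpB⟩ * (⟨y, hyB⟩ * g') := by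
      apply Subtype.ext
      change (f' : K) = x⁻¹ * (y * (g' : K))
      rw [hf'eq, hg'eq]; field_simp
    rw [this]
    exact Ideal.mul_mem_right _ _ hp
  · have : (⟨(g' : K), hgA⟩ : A) = ⟨y⁻¹, hqA⟩ * (⟨x, hxA⟩ * f') := by
      apply Subtype.ext
      change (g' : K) = y⁻¹ * (x * (f' : K))
      rw [hf'eq, hg'eq]; field_simp
    rw [this]
    exact Ideal.mul_mem_right _ _ hq

end Elements


end Groth.Agent.Lib.Helper39.KA
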