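import Groth.Agent.Lib.Helper39.DimOneGlue

/-!
# Gluing finitely many semi-local one-dimensional subrings of a field (helper39)

* `KA.exists_inv_mem_jacobson_of_finite`: S1640 for an arbitrary finite index type.
* `KA.exists_partition_of_unity_family`: `∑ f i = 1`, `f i ∈ (A i)ˣ ∩ ⋂_{j ≠ i} rad (A j)`.
* `KA.isLocalization_away_iInf`: `A i = (⨅ j, A j)[1/f i]`.
* Cover lemmas for a ring `C` with `∑ f i = 1` and `S i = C[1/f i]`:
  `KA.isNoetherianRing_of_cover`, `KA.krullDimLE_one_of_cover`, `KA.finite_maximalSpectrum_of_cover`.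
-/

namespace Groth.Agent.Lib.Helper39.KA

open Module



section Family2
variable {K : Type*} [Field K]

/-- S1640 for an arbitrary finite index type. -/
theorem exists_inv_mem_jacobson_of_finite {ι : Type*} [Finite ι] (A : Subring K)
    (B : ι → Subring K) [∀ i, IsNoetherianRing (B i)] [∀ i, IsFractionRing (B i) K]
    (hdim : ∀ i, ringKrullDim (B i) = 1) (hsl : ∀ i, Finite (MaximalSpectrum (B i)))
    (hgen : ∀ i, A ⊔ B i = ⊤) :
    ∃ x : K, x ∈ A ∧ x ≠ 0 ∧
      ∀ i, ∃ hx : x⁻¹ ∈ B i, (⟨x⁻¹, hx⟩ : B i) ∈ (⊥ : Ideal (B i)).jacobson := by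
  classical
  have := Fintype.ofFinite ι
  have hKd : ∀ i, Ring.KrullDimLE 1 (B i) := fun i => krullDimLE_one_of_eq (hdim i)
  have hnf : ∀ i, ¬ IsField (B i) := by
    intro i hf
    have := ringKrullDim_eq_zero_of_isField hf
    rw [hdim i] at this
    exact one_ne_zero this
  choose W hW1 hW2 using fun i => exists_finset_valuation (B i) K (hnf i)
  let Wall : Finset (Valuation K (WithZero (Multiplicative ℤ))) := Finset.univ.biUnion W
  have h : ∀ w ∈ Wall, ∃ a ∈ A, 1 < w a := by
    intro w hw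
    obtain ⟨i, -, hwi⟩ := Finset.mem_biUnion.mp hw
    by_contra hcon
    push Not at hcon
    obtain ⟨hB, z, hz⟩ := hW1 i w hwi
    have hA' : A ≤ w.valuationSubring.toSubring := fun a ha => hcon a ha
    have hB' : B i ≤ w.valuationSubring.toSubring := fun b hb => hB ⟨b, hb⟩
    have htop : (⊤ : Subring K) ≤ w.valuationSubring.toSubring := by
      rw [← hgen i]; exact sup_le hA' hB'
    have : w z ≤ 1 := htop (Subring.mem_top z)
    exact not_lt_of_ge this hz
  obtain ⟨x, hxA, hx0, hx⟩ := exists_forall_one_lt_valuation A Wall h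
  choose n₀ hn₀ using fun i => hW2 i x
    (fun w hw => hx w (Finset.mem_biUnion.mpr ⟨i, Finset.mem_univ i, hw⟩))
  let N := Finset.univ.sup n₀
  refine ⟨x ^ N, A.pow_mem hxA N, pow_ne_zero _ hx0, fun i => ?_⟩
  obtain ⟨b, hb, hbj⟩ := hn₀ i N (Finset.le_sup (Finset.mem_univ i))
  have hbx : (b : K) = (x ^ N)⁻¹ := by
    rw [← inv_pow]; exact hb
  refine ⟨hbx ▸ b.2, ?_⟩
  convert hbj
  exact hbx.symm

/-- Partition of unity for a finite family of subrings: given `x i ∈ A i` with
`(x i)⁻¹ ∈ rad (A j)` for `j ≠ i`, there are `f i` with `∑ f i = 1`, `f i ∈ (A i)ˣ` and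
`f i ∈ rad (A j)` for `j ≠ i`. -/
theorem exists_partition_of_unity_family {ι : Type*} [Fintype ι] [Nonempty ι]
    (A : ι → Subring K) (x : ι → K) (hxA : ∀ i, x i ∈ A i) (hx0 : ∀ i, x i ≠ 0)
    (hx : ∀ i j, j ≠ i → ∃ h : (x i)⁻¹ ∈ A j, (⟨(x i)⁻¹, h⟩ : A j) ∈ (⊥ : Ideal (A j)).jacobson) :
    ∃ f : ι → K, ∑ i, f i = 1 ∧ ∀ i, f i ≠ 0 ∧ f i ∈ A i ∧ (f i)⁻¹ ∈ A i ∧
      ∀ j, j ≠ i → ∃ h : f i ∈ A j, (⟨f i, h⟩ : A j) ∈ (⊥ : Ideal (A j)).jacobson := by
  classical
  let s : K := ∑ j, (x j)⁻¹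
  -- `x i * s = 1 + t i` with `t i ∈ rad (A i)`
  have ht : ∀ i, ∃ h : x i * s - 1 ∈ A i, (⟨x i * s - 1, h⟩ : A i) ∈ (⊥ : Ideal (A i)).jacobson := by
    intro i
    have h1 : x i * s - 1 = ∑ j ∈ Finset.univ.erase i, x i * (x j)⁻¹ := by
      simp only [s, Finset.mul_sum]
      rw [← Finset.add_sum_erase _ _ (Finset.mem_univ i), mul_inv_cancel₀ (hx0 i)]
      ring
    have h2 : ∀ j ∈ Finset.univ.erase i, ∃ h : x i * (x j)⁻¹ ∈ A i,
        (⟨x i * (x j)⁻¹, h⟩ : A i) ∈ (⊥ : Ideal (A i)).jacobson := by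
      intro j hj
      obtain ⟨h, hrad⟩ := hx j i (Finset.ne_of_mem_erase hj).symm
      refine ⟨(A i).mul_mem (hxA i) h, ?_⟩
      have : (⟨x i * (x j)⁻¹, (A i).mul_mem (hxA i) h⟩ : A i) = ⟨x i, hxA i⟩ * ⟨(x j)⁻¹, h⟩ := rfl
      rw [this]
      exact Ideal.mul_mem_left _ _ hrad
    -- sum of elements of the radical
    have h3 : ∀ (T : Finset ι), (∀ j ∈ T, ∃ h : x i * (x j)⁻¹ ∈ A i,
        (⟨x i * (x j)⁻¹, h⟩ : A i) ∈ (⊥ : Ideal (A i)).jacobson) →
        ∃ h : ∑ j ∈ T, x i * (x j)⁻¹ ∈ A i,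
          (⟨∑ j ∈ T, x i * (x j)⁻¹, h⟩ : A i) ∈ (⊥ : Ideal (A i)).jacobson := by
      intro T
      induction T using Finset.induction_on with
      | empty =>
        intro _
        refine ⟨by simp, ?_⟩
        simp only [Finset.sum_empty]
        exact Ideal.zero_mem _
      | insert a T ha ih =>
        intro hT
        obtain ⟨h5, h6⟩ := ih (fun j hj => hT j (Finset.mem_insert_of_mem hj))
        obtain ⟨h7, h8⟩ := hT a (Finset.mem_insert_self _ _)
        have hsum : ∑ j ∈ insert a T, x i * (x j)⁻¹ = x i * (x a)⁻¹ + ∑ j ∈ T, x i * (x j)⁻¹ :=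
          Finset.sum_insert ha
        refine ⟨hsum ▸ (A i).add_mem h7 h5, ?_⟩
        have : (⟨∑ j ∈ insert a T, x i * (x j)⁻¹, hsum ▸ (A i).add_mem h7 h5⟩ : A i) =
            ⟨x i * (x a)⁻¹, h7⟩ + ⟨∑ j ∈ T, x i * (x j)⁻¹, h5⟩ := Subtype.ext hsum
        rw [this]
        exact Ideal.add_mem _ h8 h6
    obtain ⟨h4, h5⟩ := h3 _ h2
    refine ⟨h1 ▸ h4, ?_⟩
    convert h5
  choose ht1 ht2 using ht
  -- `u i = x i * s` is a unit of `A i`
  have hu : ∀ i, ∃ u' : A i, (x i * s) * (u' : K) = 1 := by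
    intro i
    have hunit : IsUnit ((⟨x i * s - 1, ht1 i⟩ : A i) * 1 + 1) :=
      Ideal.mem_jacobson_bot.mp (ht2 i) 1
    obtain ⟨u', hu'⟩ := isUnit_iff_exists_inv.mp hunit
    refine ⟨u', ?_⟩
    have := congrArg Subtype.val hu'
    simpa using this
  choose u' hu' using hu
  have hs0 : s ≠ 0 := by
    obtain ⟨i⟩ := ‹Nonempty ι›
    intro h
    have := hu' i
    rw [h, mul_zero, zero_mul] at this
    exact zero_ne_one this
  have hf : ∀ i, (u' i : K) = (x i)⁻¹ / s := by
    intro i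
    have h1 := hu' i
    have hxi := hx0 i
    rw [eq_div_iff hs0]
    have h2 : (u' i : K) * s * x i = 1 := by linear_combination h1
    calc (u' i : K) * s = ((u' i : K) * s * x i) * (x i)⁻¹ := by
          rw [mul_assoc _ (x i), mul_inv_cancel₀ hxi, mul_one]
      _ = (x i)⁻¹ := by rw [h2, one_mul]
  refine ⟨fun i => (u' i : K), ?_, ?_⟩
  · simp only [hf]
    rw [← Finset.sum_div]
    exact div_self hs0
  · intro i
    have hne : (u' i : K) ≠ 0 := by
      rw [hf]; exact div_ne_zero (inv_ne_zero (hx0 i)) hs0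
    refine ⟨hne, (u' i).2, ?_, ?_⟩
    · have : ((u' i : K))⁻¹ = (x i * s - 1) + 1 := by
        rw [hf]; field_simp; ring
      rw [this]
      exact (A i).add_mem (ht1 i) (A i).one_mem
    · intro j hji
      obtain ⟨h, hrad⟩ := hx i j hji
      have heq : (u' i : K) = (x j * (x i)⁻¹) * (u' j : K) := by
        rw [hf, hf]; have := hx0 j; field_simp
      have hmem : (u' i : K) ∈ A j := by
        rw [heq]; exact (A j).mul_mem ((A j).mul_mem (hxA j) h) (u' j).2
      refine ⟨hmem, ?_⟩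
      have : (⟨(u' i : K), hmem⟩ : A j) =
          ⟨(x i)⁻¹, h⟩ * (⟨x j, hxA j⟩ * u' j) := by
        apply Subtype.ext
        change (u' i : K) = (x i)⁻¹ * (x j * (u' j : K))
        rw [heq]; ring
      rw [this]
      exact Ideal.mul_mem_right _ _ hrad

end Family2




section FamilyLoc
variable {K : Type*} [Field K]

theorem isLocalization_away_iInf {ι : Type*} [Finite ι] (A : ι → Subring K)
    [∀ j, Ring.KrullDimLE 1 (A j)] [∀ j, IsFractionRing (A j) K] (i : ι) (f : K)
    (hfinv : f⁻¹ ∈ A i) (hf0 : f ≠ 0)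
    (hf : ∀ j, j ≠ i → ∃ h : f ∈ A j, (⟨f, h⟩ : A j) ∈ (⊥ : Ideal (A j)).jacobson)
    (hfC : f ∈ ⨅ j, A j) :
    @IsLocalization.Away (⨅ j, A j : Subring K) _ ⟨f, hfC⟩ (A i) _
      (Subring.inclusion (iInf_le A i)).toAlgebra := by
  classical
  have := Fintype.ofFinite ι
  let _ : Algebra (⨅ j, A j : Subring K) (A i) := (Subring.inclusion (iInf_le A i)).toAlgebra
  have hfA : ∀ j, f ∈ A j := fun j => (Subring.mem_iInf.mp hfC) j
  apply isLocalization_away_of_injective (Subring.inclusion_injective (iInf_le A i))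
  · refine isUnit_iff_exists_inv.mpr ⟨⟨f⁻¹, hfinv⟩, ?_⟩
    apply Subtype.ext
    change f * f⁻¹ = 1
    exact mul_inv_cancel₀ hf0
  · intro a
    have hn : ∀ j, ∃ n : ℕ, f ^ n * (a : K) ∈ A j := by
      intro j
      by_cases hji : j = i
      · subst hji
        exact ⟨0, by simp⟩
      · obtain ⟨h, hrad⟩ := hf j hji
        obtain ⟨n, b, hb⟩ := exists_pow_mul_mem_range (K := K) hrad (a : K)
        have hb' : (b : K) = f ^ n * (a : K) := hb
        exact ⟨n, hb' ▸ b.2⟩
    choose n hn using hn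
    let N := Finset.univ.sup n
    have hN : ∀ j, f ^ N * (a : K) ∈ A j := by
      intro j
      have hle : n j ≤ N := Finset.le_sup (Finset.mem_univ j)
      have : f ^ N * (a : K) = f ^ (N - n j) * (f ^ n j * (a : K)) := by
        rw [← mul_assoc, ← pow_add, Nat.sub_add_cancel hle]
      rw [this]
      exact (A j).mul_mem ((A j).pow_mem (hfA j) _) (hn j)
    refine ⟨N, ⟨f ^ N * (a : K), Subring.mem_iInf.mpr hN⟩, ?_⟩
    apply Subtype.ext
    rfl

end FamilyLoc




section Cover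
variable {C : Type*} [CommRing C] {ι : Type*} [Fintype ι] (f : ι → C)
  (hf : ∑ i, f i = 1)
  (S : ι → Type*) [∀ i, CommRing (S i)] [∀ i, Algebra C (S i)]
  [∀ i, IsLocalization.Away (f i) (S i)]

include hf in
theorem exists_notMem_of_sum_eq_one (p : Ideal C) (hp : p ≠ ⊤) : ∃ i, f i ∉ p := by
  by_contra hcon
  push Not at hcon
  apply hp
  rw [Ideal.eq_top_iff_one, ← hf]
  exact Ideal.sum_mem _ (fun i _ => hcon i)

include hf in
/-- Noetherianity is local for a finite cover by principal localizations. -/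
theorem isNoetherianRing_of_cover [∀ i, IsNoetherianRing (S i)] : IsNoetherianRing C := by
  classical
  apply AlgebraicGeometry.isNoetherianRing_of_away (Finset.univ.image f)
  · rw [Ideal.eq_top_iff_one, ← hf]
    exact Ideal.sum_mem _ (fun i _ => Ideal.subset_span (Finset.mem_coe.mpr
      (Finset.mem_image.mpr ⟨i, Finset.mem_univ i, rfl⟩)))
  · rintro ⟨s, hs⟩
    obtain ⟨i, -, rfl⟩ := Finset.mem_image.mp hs
    exact isNoetherianRing_of_ringEquiv (S i)
      (IsLocalization.algEquiv (Submonoid.powers (f i)) (S i)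
        (Localization.Away (f i))).toRingEquiv

variable [IsDomain C] [∀ i, IsDomain (S i)]

include hf in
theorem krullDimLE_one_of_cover [∀ i, Ring.KrullDimLE 1 (S i)]
    (hinj : ∀ i, Function.Injective (algebraMap C (S i))) : Ring.KrullDimLE 1 C := by
  rw [Ring.krullDimLE_one_iff_of_noZeroDivisors]
  intro p hp0 hp
  obtain ⟨q, hqmax, hpq⟩ := Ideal.exists_le_maximal p hp.ne_top
  obtain ⟨j, hj⟩ := exists_notMem_of_sum_eq_one f hf q hqmax.ne_top
  have hjp : f j ∉ p := fun h => hj (hpq h)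
  have hq := hqmax.isPrime
  have dp : Disjoint (Submonoid.powers (f j) : Set C) p :=
    (Ideal.disjoint_powers_iff_notMem_of_isPrime (f j)).mpr hjp
  have dq : Disjoint (Submonoid.powers (f j) : Set C) q :=
    (Ideal.disjoint_powers_iff_notMem_of_isPrime (f j)).mpr hj
  have hpj := IsLocalization.isPrime_of_isPrime_disjoint (Submonoid.powers (f j)) (S j) p hp dp
  have hqj := IsLocalization.isPrime_of_isPrime_disjoint (Submonoid.powers (f j)) (S j) q hq dq
  have hpu := IsLocalization.under_map_of_isPrime_disjoint (Submonoid.powers (f j)) (S j) hp dp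
  have hqu := IsLocalization.under_map_of_isPrime_disjoint (Submonoid.powers (f j)) (S j) hq dq
  have hpj0 : p.map (algebraMap C (S j)) ≠ ⊥ := by
    intro h
    rw [h, Ideal.under_def, Ideal.comap_bot_of_injective _ (hinj j)] at hpu
    exact hp0 hpu.symm
  have hpjmax : (p.map (algebraMap C (S j))).IsMaximal :=
    Ring.krullDimLE_one_iff_of_noZeroDivisors.mp inferInstance _ hpj0 hpj
  have heq : p.map (algebraMap C (S j)) = q.map (algebraMap C (S j)) :=
    hpjmax.eq_of_le hqj.ne_top (Ideal.map_mono hpq)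
  have : p = q := by rw [← hpu, ← hqu, heq]
  rw [this]; exact hqmax

include hf in
theorem finite_maximalSpectrum_of_cover [∀ i, Ring.KrullDimLE 1 (S i)]
    [∀ i, Finite (MaximalSpectrum (S i))]
    (hinj : ∀ i, Function.Injective (algebraMap C (S i))) (hC : ¬ IsField C) :
    Finite (MaximalSpectrum C) := by
  classical
  have hex : ∀ m : MaximalSpectrum C, ∃ i, f i ∉ m.asIdeal := fun m =>
    exists_notMem_of_sum_eq_one f hf m.asIdeal m.isMaximal.ne_top
  choose idx hidx using hex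
  have hmax : ∀ m : MaximalSpectrum C,
      (m.asIdeal.map (algebraMap C (S (idx m)))).IsMaximal := by
    intro m
    have hp := m.isMaximal.isPrime
    have dp : Disjoint (Submonoid.powers (f (idx m)) : Set C) m.asIdeal :=
      (Ideal.disjoint_powers_iff_notMem_of_isPrime (f (idx m))).mpr (hidx m)
    have hpj := IsLocalization.isPrime_of_isPrime_disjoint (Submonoid.powers (f (idx m)))
      (S (idx m)) m.asIdeal hp dp
    have hpu := IsLocalization.under_map_of_isPrime_disjoint (Submonoid.powers (f (idx m)))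
      (S (idx m)) hp dp
    apply Ring.krullDimLE_one_iff_of_noZeroDivisors.mp inferInstance _ _ hpj
    intro h
    rw [h, Ideal.under_def, Ideal.comap_bot_of_injective _ (hinj _)] at hpu
    exact Ring.ne_bot_of_isMaximal_of_not_isField m.isMaximal hC hpu.symm
  let g : MaximalSpectrum C → Σ i, MaximalSpectrum (S i) := fun m =>
    ⟨idx m, ⟨m.asIdeal.map (algebraMap C (S (idx m))), hmax m⟩⟩
  apply Finite.of_injective g
  intro m m' h
  have h1 : idx m = idx m' := congrArg Sigma.fst h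
  have hp := m.isMaximal.isPrime
  have hp' := m'.isMaximal.isPrime
  have dp : Disjoint (Submonoid.powers (f (idx m)) : Set C) m.asIdeal :=
    (Ideal.disjoint_powers_iff_notMem_of_isPrime (f (idx m))).mpr (hidx m)
  have dp' : Disjoint (Submonoid.powers (f (idx m)) : Set C) m'.asIdeal :=
    (Ideal.disjoint_powers_iff_notMem_of_isPrime (f (idx m))).mpr (h1 ▸ hidx m')
  have hpu := IsLocalization.under_map_of_isPrime_disjoint (Submonoid.powers (f (idx m)))
    (S (idx m)) hp dp
  have hpu' := IsLocalization.under_map_of_isPrime_disjoint (Submonoid.powers (f (idx m)))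
    (S (idx m)) hp' dp'
  have h2 : m.asIdeal.map (algebraMap C (S (idx m))) =
      m'.asIdeal.map (algebraMap C (S (idx m))) := by
    have : ∀ (i j : ι) (hij : i = j) (a : MaximalSpectrum (S i)) (b : MaximalSpectrum (S j)),
        (⟨i, a⟩ : Σ i, MaximalSpectrum (S i)) = ⟨j, b⟩ →
        ∀ I : Ideal C, a.asIdeal = I.map (algebraMap C (S i)) →
          b.asIdeal = I.map (algebraMap C (S j)) := by
      rintro i j rfl a b hab I hI
      rw [← hI]
      have := eq_of_heq (Sigma.mk.inj hab).2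
      rw [this]
    have h3 := this (idx m') (idx m) h1.symm _ _ h.symm m'.asIdeal rfl
    exact h3
  ext1
  rw [← hpu, ← hpu', h2]

end Cover


end Groth.Agent.Lib.Helper39.KA
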