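import Groth.Agent.Lib.Helper39.DimOneDVR

/-!
# Semi-local one-dimensional domains (helper39)

* `KA.exists_ne_zero_mem_jacobson`: a semi-local domain that is not a field has nonzero radical.
* `KA.exists_pow_mem_span_of_mem_jacobson`: in a domain of dimension `≤ 1`, elements of the Jacobson
  radical are nilpotent modulo every nonzero element.
* `KA.exists_pow_mul_mem_range`: `B[1/f] = Frac B` for `f ∈ rad B`.
* `KA.isDedekindDomain_of_isIntegralClosure`, `KA.finite_heightOneSpectrum_of_isIntegralClosure`: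
  the integral closure of a 1-dim Noetherian domain in a finite extension is Dedekind (semi-local if
  the base is).
* `KA.exists_finset_valuation`: the finitely many discrete valuations centred on a semi-local
  one-dimensional Noetherian domain `B`; if `x` has valuation `> 1` for all, then `x⁻ⁿ ∈ rad B`, `n ≫ 0`.
* `KA.exists_pow_mul_mem_range_of_integralClosure`: conductor-type statement `zⁿ y ∈ B` for `z` in all
  nonzero primes of the normalization `B'`, `y ∈ B'`, `n ≫ 0`.
* `KA.exists_forall_one_lt_valuation`: valuation avoidance for a subring and finitely many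
  `ℤᵐ⁰`-valued valuations.
-/

namespace Groth.Agent.Lib.Helper39.KA

open Module WithZero

section Semilocal
variable {B : Type*} [CommRing B]

/-- A semi-local domain that is not a field has nonzero Jacobson radical. -/
theorem exists_ne_zero_mem_jacobson [IsDomain B] [Finite (MaximalSpectrum B)] (hB : ¬ IsField B) :
    ∃ t : B, t ≠ 0 ∧ t ∈ (⊥ : Ideal B).jacobson := by
  classical
  have := Fintype.ofFinite (MaximalSpectrum B)
  let I : Ideal B := ∏ m : MaximalSpectrum B, m.asIdeal
  have hI0 : I ≠ ⊥ := by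
    rw [Ne, ← Ideal.zero_eq_bot, Finset.prod_eq_zero_iff]
    rintro ⟨m, -, hm⟩
    exact Ring.ne_bot_of_isMaximal_of_not_isField m.isMaximal hB hm
  have hIJ : I ≤ (⊥ : Ideal B).jacobson := by
    rw [Ideal.jacobson]
    refine le_sInf ?_
    rintro J ⟨-, hJ⟩
    exact Ideal.prod_le_inf.trans (Finset.inf_le (b := (⟨J, hJ⟩ : MaximalSpectrum B))
      (Finset.mem_univ _))
  obtain ⟨t, htI, ht0⟩ := Submodule.exists_mem_ne_zero_of_ne_bot hI0
  exact ⟨t, ht0, hIJ htI⟩

/-- In a domain of dimension `≤ 1`, elements of the Jacobson radical are nilpotent modulo any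
nonzero element. -/
theorem exists_pow_mem_span_of_forall_prime [IsDomain B] {z c : B}
    (hz : ∀ P : Ideal B, P.IsPrime → P ≠ ⊥ → z ∈ P) (hc : c ≠ 0) :
    ∃ n : ℕ, z ^ n ∈ Ideal.span {c} := by
  have : z ∈ (Ideal.span {c} : Ideal B).radical := by
    rw [Ideal.radical_eq_sInf, Ideal.mem_sInf]
    rintro P ⟨hcP, hP⟩
    apply hz P hP
    rintro rfl
    apply hc
    have := hcP (Ideal.subset_span rfl)
    simpa using this
  exact this

theorem exists_pow_mem_span_of_mem_jacobson [IsDomain B] [Ring.KrullDimLE 1 B] {z c : B}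
    (hz : z ∈ (⊥ : Ideal B).jacobson) (hc : c ≠ 0) :
    ∃ n : ℕ, z ^ n ∈ Ideal.span {c} := by
  apply exists_pow_mem_span_of_forall_prime _ hc
  intro P hP hP0
  have hmax : P.IsMaximal := Ring.krullDimLE_one_iff_of_noZeroDivisors.mp ‹_› P hP0 hP
  rw [Ideal.jacobson, Ideal.mem_sInf] at hz
  exact hz ⟨bot_le, hmax⟩

/-- If `f ∈ rad B` for a one-dimensional domain `B` with fraction field `K`, then
`B[1/f] = K`. -/
theorem exists_pow_mul_mem_range {K : Type*} [Field K] [Algebra B K] [IsFractionRing B K]
    [IsDomain B] [Ring.KrullDimLE 1 B] {f : B} (hf : f ∈ (⊥ : Ideal B).jacobson) (a : K) :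
    ∃ n : ℕ, ∃ b : B, algebraMap B K b = algebraMap B K f ^ n * a := by
  obtain ⟨b₁, b₂, hb₂, rfl⟩ := IsFractionRing.div_surjective (A := B) a
  have hb₂0 : b₂ ≠ 0 := nonZeroDivisors.ne_zero hb₂
  obtain ⟨n, hn⟩ := exists_pow_mem_span_of_mem_jacobson hf hb₂0
  obtain ⟨b₃, hb₃⟩ := Ideal.mem_span_singleton'.mp hn
  refine ⟨n, b₃ * b₁, ?_⟩
  have h2 : algebraMap B K b₂ ≠ 0 := by
    rwa [Ne, map_eq_zero_iff _ (IsFractionRing.injective B K)]
  rw [← map_pow, ← hb₃, map_mul, map_mul]
  field_simp

end Semilocal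




section IntegralClosure
variable (A K L B : Type*) [CommRing A] [IsDomain A] [IsNoetherianRing A] [Ring.KrullDimLE 1 A]
  [Field K] [Algebra A K] [IsFractionRing A K]
  [Field L] [Algebra K L] [FiniteDimensional K L] [Algebra A L] [IsScalarTower A K L]
  [CommRing B] [IsDomain B] [Algebra A B] [Algebra B L] [IsScalarTower A B L]
  [IsIntegralClosure B A L]

include A K L in
/-- **Krull–Akizuki**: the integral closure of a one-dimensional Noetherian domain in a finite
extension of its fraction field is a Dedekind domain. -/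
theorem isDedekindDomain_of_isIntegralClosure : IsDedekindDomain B := by
  have hBL : Function.Injective (algebraMap B L) := IsIntegralClosure.algebraMap_injective B A L
  have hB1 := krullDimLE_one_of_between A K hBL
  have hBN := isNoetherianRing_of_between A K hBL
  have : IsFractionRing B L := IsIntegralClosure.isFractionRing_of_finite_extension A K L B
  have hint : Algebra.IsIntegral A B := IsIntegralClosure.isIntegral_algebra A L
  exact
    { hBN,
      (⟨fun hp0 hp => Ring.krullDimLE_one_iff_of_noZeroDivisors.mp hB1 _ hp0 hp⟩ :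
        Ring.DimensionLEOne B),
      (isIntegrallyClosed_iff L).mpr fun {x} hx =>
        ⟨IsIntegralClosure.mk' B x (isIntegral_trans (R := A) _ hx),
          IsIntegralClosure.algebraMap_mk' _ _ _⟩ with : IsDedekindDomain B }

omit [IsDomain A] [IsNoetherianRing A] [Ring.KrullDimLE 1 A] [FiniteDimensional K L] [IsDomain B]
  [IsIntegralClosure B A L] in
include K L in
theorem algebraMap_injective_of_isIntegralClosure : Function.Injective (algebraMap A B) := by
  have h1 : Function.Injective (algebraMap A L) := by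
    rw [IsScalarTower.algebraMap_eq A K L]
    exact (algebraMap K L).injective.comp (IsFractionRing.injective A K)
  rw [IsScalarTower.algebraMap_eq A B L] at h1
  exact Function.Injective.of_comp h1

include A K L in
/-- If the base is semi-local (and not a field), the integral closure has finitely many nonzero
primes. -/
theorem finite_heightOneSpectrum_of_isIntegralClosure [Finite (MaximalSpectrum A)]
    (hA : ¬ IsField A) : Finite (IsDedekindDomain.HeightOneSpectrum B) := by
  have hBL : Function.Injective (algebraMap B L) := IsIntegralClosure.algebraMap_injective B A L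
  have hAB := algebraMap_injective_of_isIntegralClosure A K L B
  have : FaithfulSMul A B := (faithfulSMul_iff_algebraMap_injective A B).mpr hAB
  have hint : Algebra.IsIntegral A B := IsIntegralClosure.isIntegral_algebra A L
  obtain ⟨t, ht0, ht⟩ := exists_ne_zero_mem_jacobson hA
  have hI0 : (Ideal.span {algebraMap A B t} : Ideal B) ≠ ⊥ := by
    rw [Ne, Ideal.span_singleton_eq_bot, map_eq_zero_iff _ hAB]; exact ht0
  have hfin := finite_primes_ge A K hBL _ hI0
  have hmaps : ∀ v : IsDedekindDomain.HeightOneSpectrum B,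
      v.asIdeal ∈ {P : Ideal B | P.IsPrime ∧ Ideal.span {algebraMap A B t} ≤ P} := by
    intro v
    refine ⟨v.isPrime, ?_⟩
    rw [Ideal.span_singleton_le_iff_mem]
    have hp : (v.asIdeal.comap (algebraMap A B)).IsPrime := Ideal.comap_isPrime _ _
    have hp0 : v.asIdeal.comap (algebraMap A B) ≠ ⊥ := fun h =>
      v.ne_bot (Ideal.eq_bot_of_comap_eq_bot (R := A) h)
    have hmax : (v.asIdeal.comap (algebraMap A B)).IsMaximal :=
      Ring.krullDimLE_one_iff_of_noZeroDivisors.mp ‹_› _ hp0 hp
    rw [Ideal.jacobson, Ideal.mem_sInf] at ht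
    exact ht ⟨bot_le, hmax⟩
  have : Finite {P : Ideal B | P.IsPrime ∧ Ideal.span {algebraMap A B t} ≤ P} := hfin
  exact Finite.of_injective (fun v => (⟨v.asIdeal, hmaps v⟩ :
    {P : Ideal B | P.IsPrime ∧ Ideal.span {algebraMap A B t} ≤ P}))
    (fun v w h => IsDedekindDomain.HeightOneSpectrum.ext (congrArg Subtype.val h))

end IntegralClosure




section Avoidance
variable {K : Type*} [Field K]

/-- Valuation avoidance: if a subring `A` is contained in none of the valuation rings of finitely
many `ℤᵐ⁰`-valued valuations, some element of `A` has valuation `> 1` for all of them. -/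
theorem exists_forall_one_lt_valuation (A : Subring K) (W : Finset (Valuation K ℤᵐ⁰))
    (h : ∀ w ∈ W, ∃ a ∈ A, 1 < w a) : ∃ x ∈ A, x ≠ 0 ∧ ∀ w ∈ W, 1 < w x := by
  classical
  induction W using Finset.induction_on with
  | empty => exact ⟨1, A.one_mem, one_ne_zero, by simp⟩
  | insert w₀ W hw₀ ih =>
    obtain ⟨x, hxA, hx0, hx⟩ := ih (fun w hw => h w (Finset.mem_insert_of_mem hw))
    obtain ⟨y, hyA, hy⟩ := h w₀ (Finset.mem_insert_self _ _)
    by_cases hw₀x : 1 < w₀ x
    · refine ⟨x, hxA, hx0, ?_⟩
      intro w hw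
      rcases Finset.mem_insert.mp hw with rfl | hw
      exacts [hw₀x, hx w hw]
    · push Not at hw₀x
      have hN : ∃ N : ℕ, N ≠ 0 ∧ ∀ w ∈ W, w y < (w x) ^ N := by
        have : ∀ w ∈ W, ∃ n : ℕ, w y < w x ^ n := by
          intro w hw
          obtain ⟨n, hn⟩ := MulArchimedean.arch (w y) (hx w hw)
          exact ⟨n + 1, lt_of_le_of_lt hn (pow_lt_pow_right₀ (hx w hw) (Nat.lt_succ_self n))⟩
        choose! N hN using this
        exact ⟨W.sup N + 1, Nat.succ_ne_zero _, fun w hw => lt_of_lt_of_le (hN w hw)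
          (pow_le_pow_right₀ (hx w hw).le ((Finset.le_sup hw).trans (Nat.le_succ _)))⟩
      obtain ⟨N, hN0, hN⟩ := hN
      have h1 : w₀ (x ^ N) ≤ 1 := by rw [map_pow]; exact pow_le_one₀ zero_le hw₀x
      have h2 : w₀ (x ^ N + y) = w₀ y :=
        Valuation.map_add_eq_of_lt_right _ (lt_of_le_of_lt h1 hy)
      refine ⟨x ^ N + y, A.add_mem (A.pow_mem hxA N) hyA, ?_, ?_⟩
      · intro h0
        rw [h0, map_zero] at h2
        rw [← h2] at hy
        exact not_lt_of_ge zero_le hy
      · intro w hw
        rcases Finset.mem_insert.mp hw with rfl | hw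
        · rw [h2]; exact hy
        · have h3 : w (x ^ N + y) = w (x ^ N) :=
            Valuation.map_add_eq_of_lt_left _ (by rw [map_pow]; exact hN w hw)
          rw [h3, map_pow]
          exact one_lt_pow₀ (hx w hw) hN0

end Avoidance



open IsDedekindDomain


section L1
variable (B K : Type*) [CommRing B] [IsDomain B] [IsNoetherianRing B] [Ring.KrullDimLE 1 B]
  [Field K] [Algebra B K] [IsFractionRing B K] [Finite (MaximalSpectrum B)]

/-- The finitely many discrete valuations of `K` centred on a semi-local one-dimensional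
Noetherian domain `B`: elements whose inverses have positive valuation everywhere have large powers
of the inverse in the radical of `B`. -/
theorem exists_finset_valuation (hB : ¬ IsField B) :
    ∃ W : Finset (Valuation K ℤᵐ⁰),
      (∀ w ∈ W, (∀ b : B, w (algebraMap B K b) ≤ 1) ∧ ∃ z : K, 1 < w z) ∧
      ∀ x : K, (∀ w ∈ W, 1 < w x) →
        ∃ n₀ : ℕ, ∀ n ≥ n₀, ∃ b : B, algebraMap B K b = (x⁻¹) ^ n ∧
          b ∈ (⊥ : Ideal B).jacobson := by
  classical
  let B' := integralClosure B K
  have hDed : IsDedekindDomain B' := isDedekindDomain_of_isIntegralClosure B K K B'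
  have hFrac : IsFractionRing B' K := IsIntegralClosure.isFractionRing_of_finite_extension B K K B'
  have hFin : Finite (HeightOneSpectrum B') :=
    finite_heightOneSpectrum_of_isIntegralClosure B K K B' hB
  let _ := Fintype.ofFinite (HeightOneSpectrum B')
  have hint : Algebra.IsIntegral B B' := IsIntegralClosure.isIntegral_algebra B K
  have hBB' : Function.Injective (algebraMap B B') :=
    algebraMap_injective_of_isIntegralClosure B K K B'
  refine ⟨Finset.univ.image (fun v : HeightOneSpectrum B' => v.valuation K), ?_, ?_⟩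
  · intro w hw
    obtain ⟨v, -, rfl⟩ := Finset.mem_image.mp hw
    refine ⟨fun b => ?_, ?_⟩
    · rw [IsScalarTower.algebraMap_apply B B' K]
      exact v.valuation_le_one _
    · obtain ⟨π, hπ⟩ := v.valuation_exists_uniformizer K
      refine ⟨π⁻¹, ?_⟩
      rw [map_inv₀, hπ, ← exp_neg, neg_neg, ← exp_zero, exp_lt_exp]
      exact zero_lt_one
  · intro x hx
    have hx' : ∀ v : HeightOneSpectrum B', 1 < v.valuation K x := fun v =>
      hx _ (Finset.mem_image.mpr ⟨v, Finset.mem_univ _, rfl⟩)
    have hz : ∀ v : HeightOneSpectrum B', v.valuation K x⁻¹ < 1 := by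
      intro v
      rw [map_inv₀]
      exact inv_lt_one_of_one_lt₀ (hx' v)
    obtain ⟨z', hz'⟩ := HeightOneSpectrum.mem_integers_of_valuation_le_one K x⁻¹
      (fun v => (hz v).le)
    have hz'Q : ∀ Q : Ideal B', Q.IsPrime → Q ≠ ⊥ → z' ∈ Q := by
      intro Q hQ hQ0
      have := hz ⟨Q, hQ, hQ0⟩
      rw [← hz'] at this
      exact (HeightOneSpectrum.valuation_lt_one_iff_mem ⟨Q, hQ, hQ0⟩ z').mp this
    have hzint : IsIntegral B (x⁻¹ : K) := by
      have : (z' : K) = x⁻¹ := hz'
      rw [← this]; exact z'.2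
    let B₁ := Algebra.adjoin B ({x⁻¹} : Set K)
    obtain ⟨c, hc, hcB₁⟩ := FractionalIdeal.isFractional_adjoin_integral (nonZeroDivisors B)
      (x⁻¹ : K) hzint
    have hc0 : c ≠ 0 := nonZeroDivisors.ne_zero hc
    have h1 : B₁ ≤ B' := Algebra.adjoin_le (by
      rintro _ rfl
      exact hzint)
    have hB₁ : Ring.KrullDimLE 1 B₁ :=
      krullDimLE_one_of_between B K (Subtype.val_injective : Function.Injective (algebraMap B₁ K))
    let z₁ : B₁ := ⟨x⁻¹, Algebra.subset_adjoin rfl⟩
    have hc₁ : algebraMap B B₁ c ≠ 0 := by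
      intro h
      have : algebraMap B K c = 0 := by
        rw [IsScalarTower.algebraMap_apply B B₁ K, h, map_zero]
      rw [map_eq_zero_iff _ (IsFractionRing.injective B K)] at this
      exact hc0 this
    have hz₁P : ∀ P : Ideal B₁, P.IsPrime → P ≠ ⊥ → z₁ ∈ P := by
      intro P hP hP0
      let _ : Algebra B₁ B' := (Subalgebra.inclusion h1).toRingHom.toAlgebra
      have hinj : Function.Injective (algebraMap B₁ B') := Subalgebra.inclusion_injective h1
      have : IsScalarTower B B₁ B' := IsScalarTower.of_algebraMap_eq (fun b => rfl)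
      have : Algebra.IsIntegral B₁ B' := ⟨fun y => (hint.isIntegral y).tower_top⟩
      obtain ⟨Q, -, hQ, hQP⟩ := Ideal.exists_ideal_over_prime_of_isIntegral P (⊥ : Ideal B')
        (by rw [Ideal.comap_bot_of_injective _ hinj]; exact bot_le)
      have hQ0 : Q ≠ ⊥ := by
        rintro rfl
        rw [Ideal.comap_bot_of_injective _ hinj] at hQP
        exact hP0 hQP.symm
      have hz'Q' := hz'Q Q hQ hQ0
      rw [← hQP, Ideal.mem_comap]
      have : algebraMap B₁ B' z₁ = z' := by
        apply Subtype.ext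
        exact hz'.symm
      rw [this]; exact hz'Q'
    obtain ⟨n₁, hn₁⟩ := exists_pow_mem_span_of_forall_prime hz₁P hc₁
    obtain ⟨y, hy⟩ := Ideal.mem_span_singleton'.mp hn₁
    refine ⟨n₁ + 1, fun n hn => ?_⟩
    have hmem : ((y * z₁ ^ (n - n₁) : B₁) : K) ∈ Subalgebra.toSubmodule B₁ := by
      rw [Subalgebra.mem_toSubmodule]; exact SetLike.coe_mem _
    obtain ⟨b, hb⟩ := hcB₁ _ hmem
    have hbz : algebraMap B K b = (x⁻¹) ^ n := by
      rw [hb, Algebra.smul_def]
      have h2 : ((y * z₁ ^ (n - n₁) : B₁) : K) = (y : K) * (x⁻¹) ^ (n - n₁) := by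
        simp [z₁]
      have h3 : (y : K) * algebraMap B K c = (x⁻¹) ^ n₁ := by
        have := congrArg (Subtype.val : B₁ → K) hy
        simpa [z₁] using this
      rw [h2, mul_comm (algebraMap B K c), mul_right_comm, h3, ← pow_add]
      congr 1
      omega
    refine ⟨b, hbz, ?_⟩
    rw [Ideal.jacobson, Ideal.mem_sInf]
    rintro m ⟨-, hm⟩
    have hmP : m.IsPrime := hm.isPrime
    obtain ⟨Q, -, hQ, hQP⟩ := Ideal.exists_ideal_over_prime_of_isIntegral m (⊥ : Ideal B')
      (by rw [Ideal.comap_bot_of_injective _ hBB']; exact bot_le)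
    have hQ0 : Q ≠ ⊥ := by
      rintro rfl
      rw [Ideal.comap_bot_of_injective _ hBB'] at hQP
      exact Ring.ne_bot_of_isMaximal_of_not_isField hm hB hQP.symm
    rw [← hQP, Ideal.mem_comap]
    have : algebraMap B B' b = z' ^ n := by
      apply IsFractionRing.injective B' K
      rw [← IsScalarTower.algebraMap_apply, hbz, map_pow, hz']
    rw [this]
    exact Ideal.pow_mem_of_mem _ (hz'Q Q hQ hQ0) n (by omega)

end L1




section Conductor
variable (B K : Type*) [CommRing B] [IsDomain B] [IsNoetherianRing B] [Ring.KrullDimLE 1 B]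
  [Field K] [Algebra B K] [IsFractionRing B K]

/-- If `z` lies in every nonzero prime of the normalization `B'` of a one-dimensional Noetherian
domain `B`, then for every `y ∈ B'` all large powers satisfy `zⁿ y ∈ B`. -/
theorem exists_pow_mul_mem_range_of_integralClosure
    (z y : integralClosure B K)
    (hz : ∀ Q : Ideal (integralClosure B K), Q.IsPrime → Q ≠ ⊥ → z ∈ Q) :
    ∃ n₀ : ℕ, ∀ n ≥ n₀, ∃ b : B, algebraMap B K b = (z : K) ^ n * (y : K) := by
  classical
  let B' := integralClosure B K
  have hint : Algebra.IsIntegral B B' := IsIntegralClosure.isIntegral_algebra B K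
  let s : Set K := {(z : K), (y : K)}
  have hs : ∀ w ∈ s, IsIntegral B w := by
    intro w hw
    rcases hw with rfl | rfl
    · exact z.2
    · exact y.2
  let B₁ := Algebra.adjoin B s
  have hfg : (Subalgebra.toSubmodule B₁).FG := fg_adjoin_of_finite (by simp [s]) hs
  obtain ⟨c, hc, hcB₁⟩ := FractionalIdeal.isFractional_of_fg (S := nonZeroDivisors B) hfg
  have hc0 : c ≠ 0 := nonZeroDivisors.ne_zero hc
  have h1 : B₁ ≤ B' := Algebra.adjoin_le (fun w hw => hs w hw)
  have hB₁ : Ring.KrullDimLE 1 B₁ :=
    krullDimLE_one_of_between B K (Subtype.val_injective : Function.Injective (algebraMap B₁ K))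
  let z₁ : B₁ := ⟨z, Algebra.subset_adjoin (by simp [s])⟩
  let y₁ : B₁ := ⟨y, Algebra.subset_adjoin (by simp [s])⟩
  have hc₁ : algebraMap B B₁ c ≠ 0 := by
    intro h
    have : algebraMap B K c = 0 := by
      rw [IsScalarTower.algebraMap_apply B B₁ K, h, map_zero]
    rw [map_eq_zero_iff _ (IsFractionRing.injective B K)] at this
    exact hc0 this
  have hz₁P : ∀ P : Ideal B₁, P.IsPrime → P ≠ ⊥ → z₁ ∈ P := by
    intro P hP hP0
    let _ : Algebra B₁ B' := (Subalgebra.inclusion h1).toRingHom.toAlgebra
    have hinj : Function.Injective (algebraMap B₁ B') := Subalgebra.inclusion_injective h1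
    have : IsScalarTower B B₁ B' := IsScalarTower.of_algebraMap_eq (fun b => rfl)
    have : Algebra.IsIntegral B₁ B' := ⟨fun w => (hint.isIntegral w).tower_top⟩
    obtain ⟨Q, -, hQ, hQP⟩ := Ideal.exists_ideal_over_prime_of_isIntegral P (⊥ : Ideal B')
      (by rw [Ideal.comap_bot_of_injective _ hinj]; exact bot_le)
    have hQ0 : Q ≠ ⊥ := by
      rintro rfl
      rw [Ideal.comap_bot_of_injective _ hinj] at hQP
      exact hP0 hQP.symm
    have hz'Q' := hz Q hQ hQ0
    rw [← hQP, Ideal.mem_comap]
    have : algebraMap B₁ B' z₁ = z := Subtype.ext rfl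
    rw [this]; exact hz'Q'
  obtain ⟨n₁, hn₁⟩ := exists_pow_mem_span_of_forall_prime hz₁P hc₁
  obtain ⟨w, hw⟩ := Ideal.mem_span_singleton'.mp hn₁
  refine ⟨n₁, fun n hn => ?_⟩
  have hmem : ((w * z₁ ^ (n - n₁) * y₁ : B₁) : K) ∈ Subalgebra.toSubmodule B₁ := by
    rw [Subalgebra.mem_toSubmodule]; exact SetLike.coe_mem _
  obtain ⟨b, hb⟩ := hcB₁ _ hmem
  refine ⟨b, ?_⟩
  rw [hb, Algebra.smul_def]
  have h2 : ((w * z₁ ^ (n - n₁) * y₁ : B₁) : K) = (w : K) * (z : K) ^ (n - n₁) * (y : K) := by
    simp [z₁, y₁]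
  have h3 : (w : K) * algebraMap B K c = (z : K) ^ n₁ := by
    have := congrArg (Subtype.val : B₁ → K) hw
    simpa [z₁] using this
  rw [h2]
  calc algebraMap B K c * ((w : K) * (z : K) ^ (n - n₁) * (y : K))
      = ((w : K) * algebraMap B K c) * (z : K) ^ (n - n₁) * (y : K) := by ring
    _ = (z : K) ^ n * (y : K) := by
        rw [h3, ← pow_add, Nat.add_sub_cancel' hn]

end Conductor


end Groth.Agent.Lib.Helper39.KA
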