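import Mathlib
import Groth.Agent.Lib.Helper88.PolyN2

set_option autoImplicit false
set_option linter.style.haveILetI false
universe u

namespace Groth.Agent.Lib.Helper39.FieldN2

open Groth.Agent.Lib.Helper88

theorem isN2_of_isField (κ : Type u) [CommRing κ] [IsDomain κ] (h : IsField κ) : CAlg.IsN2 κ := by
  intro L _ _ _ _ hfin
  letI := h.toField
  have hsurj : Function.Surjective (algebraMap κ (FractionRing κ)) :=
    IsFractionRing.surjective_iff_isField.mpr h
  have h1 : Module.Finite κ (FractionRing κ) :=
    Module.Finite.of_surjective (Algebra.linearMap κ (FractionRing κ)) hsurj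
  have h2 : Module.Finite κ L := Module.Finite.trans (FractionRing κ) L
  have h3 : IsNoetherian κ L := isNoetherian_of_isNoetherianRing_of_finite κ L
  exact Module.Finite.of_injective (integralClosure κ L).val.toLinearMap Subtype.val_injective

theorem isN2_mvPolynomial_fin (k : Type u) [Field k] (n : ℕ) :
    CAlg.IsN2 (MvPolynomial (Fin n) k) := by
  induction n with
  | zero =>
    have e : k ≃+* MvPolynomial (Fin 0) k := (MvPolynomial.isEmptyRingEquiv k (Fin 0)).symm
    exact isN2_of_ringEquiv e (isN2_of_isField k (Field.toIsField k))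
  | succ n ih =>
    have e : Polynomial (MvPolynomial (Fin n) k) ≃+* MvPolynomial (Fin (n + 1)) k :=
      (MvPolynomial.finSuccEquiv k n).symm.toRingEquiv
    exact isN2_of_ringEquiv e (PolyN2.isN2_polynomial _ ih)

theorem isN2_of_finiteType_field (k : Type u) [Field k] (A : Type u) [CommRing A] [IsDomain A]
    [Algebra k A] [Algebra.FiniteType k A] : CAlg.IsN2 A := by
  obtain ⟨s, g, hinj, hfin⟩ := exists_finite_inj_algHom_of_fg k A
  letI : Algebra (MvPolynomial (Fin s) k) A := g.toRingHom.toAlgebra
  have : Module.Finite (MvPolynomial (Fin s) k) A := hfin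
  exact isN2_of_finite_extension (MvPolynomial (Fin s) k) A hinj (isN2_mvPolynomial_fin k s)

end Groth.Agent.Lib.Helper39.FieldN2
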