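import Mathlib
import Groth.Agent.Lib.Helper39.FieldN2
import Groth.Agent.Lib.Helper39.NormDimOneB
import Groth.Agent.Lib.Helper7.NormField
import Groth.Agent.Lib.Helper73.HeightGoingDown

set_option autoImplicit false
set_option linter.style.haveILetI false
universe u

open CategoryTheory AlgebraicGeometry

namespace Groth.Agent.Lib.Helper39.NormCurve

open Groth.Agent.Lib.Helper88 Groth.Agent.Lib.Helper7.NormField

theorem finite_integralClosure_of_isN2 {A : Type u} [CommRing A] [IsDomain A] (hA : CAlg.IsN2 A)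
    (KA : Type u) [Field KA] [Algebra A KA] [IsFractionRing A KA]
    (K : Type u) [Field K] (φ : KA →+* K) (hφ : φ.Finite)
    (L : Type u) [CommRing L] [Algebra A L] (e : L ≃+* K)
    (he : ∀ a, e (algebraMap A L a) = φ (algebraMap A KA a)) :
    Module.Finite A (integralClosure A L) := by
  letI : Field L := (e.toMulEquiv.isField (Field.toIsField K)).toField
  letI : Algebra KA L := ((e.symm : K →+* L).comp φ).toAlgebra
  haveI : IsScalarTower A KA L := IsScalarTower.of_algebraMap_eq (fun a => by
    change algebraMap A L a = e.symm (φ (algebraMap A KA a))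
    rw [← he, e.symm_apply_apply])
  letI : Algebra KA K := φ.toAlgebra
  have hK : Module.Finite KA K := hφ
  have hfin : FiniteDimensional KA L :=
    Module.Finite.of_equiv_equiv (A₁ := KA) (B₁ := K) (A₂ := KA) (B₂ := L)
      (RingEquiv.refl KA) e.symm (by
        ext x
        rfl)
  exact (isN2_iff A).mp hA KA L hfin

end Groth.Agent.Lib.Helper39.NormCurve

namespace Groth.Agent.Lib.Helper39.NormCurve

open Groth.Agent.Lib.Helper88 Groth.Agent.Lib.Helper7.NormField IsLocalRing

section Sch

variable (X : Scheme.{u}) [IsIntegral X] (K : Type u) [Field K] (φ : X.functionField →+* K)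
  (g : Spec (CommRingCat.of K) ⟶ X)
  (hg : g = Spec.map (CommRingCat.ofHom φ) ≫ X.fromSpecStalk (genericPoint X))

include hg in
theorem g_closedPoint : g (closedPoint K) = genericPoint X := by
  subst hg
  refine (Scheme.Hom.comp_apply _ _ _).trans ?_
  erw [Spec_closedPoint]
  exact Scheme.fromSpecStalk_closedPoint

include hg in
theorem exists_ringEquiv_sections (U : X.Opens) (hξ : genericPoint X ∈ U) :
    ∃ e : Γ(Spec (CommRingCat.of K), g ⁻¹ᵁ U) ≃+* K,
      ∀ a : Γ(X, U), e ((g.app U).hom a) = φ ((X.presheaf.germ U (genericPoint X) hξ).hom a) := by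
  have hgp := g_closedPoint X K φ g hg
  have hgpU : g (closedPoint K) ∈ U := hgp ▸ hξ
  have : Nonempty U := ⟨⟨_, hξ⟩⟩
  have hα : g.app U ≫ ev (g ⁻¹ᵁ U) hgpU = X.germToFunctionField U ≫ CommRingCat.ofHom φ := by
    rw [← germ_stalkClosedPointTo_ev g U hgpU, germ_stalkClosedPointTo_congr hg U hgpU]
    exact Scheme.germ_stalkClosedPointTo_Spec_fromSpecStalk (CommRingCat.ofHom φ) U _
  refine ⟨RingEquiv.ofBijective (ev (g ⁻¹ᵁ U) hgpU).hom (ev_bijective _ hgpU), fun a => ?_⟩
  exact congr($(hα).hom a)


theorem exists_finiteType_sections {k : Type u} [Field k] {Y : Scheme.{u}}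
    (f : Y ⟶ Spec (CommRingCat.of k)) [LocallyOfFiniteType f] (U : Y.Opens) (hU : IsAffineOpen U) :
    ∃ ψ : k →+* Γ(Y, U), ψ.FiniteType := by
  have h1 : (f.appLE ⊤ U le_top).hom.FiniteType :=
    f.finiteType_appLE (isAffineOpen_top _) hU le_top
  have h2 : (Scheme.ΓSpecIso (CommRingCat.of k)).inv.hom.FiniteType :=
    RingHom.FiniteType.of_surjective _
      (ConcreteCategory.bijective_of_isIso (Scheme.ΓSpecIso (CommRingCat.of k)).inv).2
  exact ⟨_, h1.comp h2⟩

include hg in
theorem finite_app_fromNormalization_of_isN2 [QuasiCompact g] [QuasiSeparated g]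
    (hφ : φ.Finite) (U : X.Opens) (hU : IsAffineOpen U)
    (hN2 : ∀ hne : Nonempty U, @CAlg.IsN2 Γ(X, U) _ (@IsIntegral.component_integral X _ U hne)) :
    (g.fromNormalization.app U).hom.Finite := by
  by_cases hξ : genericPoint X ∈ U
  · have hne : Nonempty U := ⟨⟨_, hξ⟩⟩
    have hN2' : CAlg.IsN2 Γ(X, U) := hN2 hne
    have hfr : IsFractionRing Γ(X, U) X.functionField :=
      functionField_isFractionRing_of_isAffineOpen X U hU
    obtain ⟨e, he⟩ := exists_ringEquiv_sections X K φ g hg U hξ
    letI := (g.app U).hom.toAlgebra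
    have hfin : Module.Finite Γ(X, U) (integralClosure Γ(X, U) Γ(Spec (CommRingCat.of K), g ⁻¹ᵁ U)) :=
      finite_integralClosure_of_isN2 hN2' X.functionField K φ hφ _ e he
    rw [Scheme.Hom.fromNormalization_app _ hU]
    rw [CommRingCat.hom_comp]
    refine RingHom.Finite.comp ?_ ?_
    · exact RingHom.Finite.of_surjective _
        (ConcreteCategory.bijective_of_isIso (g.normalizationObjIso hU).inv).2
    · exact hfin
  · have hU0 : U = ⊥ := NormDimOne.eq_bot_of_genericPoint_notMem X U hξ
    have h2 : g.fromNormalization ⁻¹ᵁ U = ⊥ := by rw [hU0]; rfl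
    have hsub : Subsingleton Γ(g.normalization, g.fromNormalization ⁻¹ᵁ U) := by
      rw [h2]; infer_instance
    exact RingHom.Finite.of_surjective _ (fun b => ⟨0, Subsingleton.elim _ _⟩)

include hg in
theorem finite_app_fromNormalization [QuasiCompact g] [QuasiSeparated g]
    {k : Type u} [Field k] (f : X ⟶ Spec (CommRingCat.of k)) [LocallyOfFiniteType f]
    (hφ : φ.Finite) (U : X.Opens) (hU : IsAffineOpen U) :
    (g.fromNormalization.app U).hom.Finite := by
  refine finite_app_fromNormalization_of_isN2 X K φ g hg hφ U hU fun hne => ?_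
  obtain ⟨ψ, hψ⟩ := exists_finiteType_sections f U hU
  letI := ψ.toAlgebra
  have hft : Algebra.FiniteType k Γ(X, U) := hψ
  exact FieldN2.isN2_of_finiteType_field k Γ(X, U)

/-- The normalization morphism of an integral scheme, as `fromNormalization` of a morphism `g` of
the form required by the lemmas above. -/
theorem isFinite_fromNormalization_fromSpecStalk
    [QuasiCompact (X.fromSpecStalk (genericPoint X))]
    [QuasiSeparated (X.fromSpecStalk (genericPoint X))]
    (hN2 : ∀ (U : X.Opens), IsAffineOpen U → ∀ hne : Nonempty U,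
      @CAlg.IsN2 Γ(X, U) _ (@IsIntegral.component_integral X _ U hne)) :
    IsFinite (X.fromSpecStalk (genericPoint X)).fromNormalization := by
  let g' : Spec (CommRingCat.of X.functionField) ⟶ X := X.fromSpecStalk (genericPoint X)
  have hg' : g' = Spec.map (CommRingCat.ofHom (RingHom.id X.functionField)) ≫
      X.fromSpecStalk (genericPoint X) := by
    have : CommRingCat.ofHom (RingHom.id X.functionField) = 𝟙 _ := rfl
    rw [this, Spec.map_id, Category.id_comp]
  have : QuasiCompact g' := ‹QuasiCompact (X.fromSpecStalk (genericPoint X))›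
  have : QuasiSeparated g' := ‹QuasiSeparated (X.fromSpecStalk (genericPoint X))›
  have hφ' : (RingHom.id X.functionField).Finite := RingHom.Finite.id _
  exact (isFinite_iff _).mpr ⟨inferInstance, fun U hU =>
      finite_app_fromNormalization_of_isN2 X X.functionField (RingHom.id _) g' hg' hφ' U hU
        (hN2 U hU)⟩

include hg in
theorem injective_app_fromNormalization [QuasiCompact g] [QuasiSeparated g]
    (U : X.Opens) (hU : IsAffineOpen U) (hξ : genericPoint X ∈ U) :
    Function.Injective (g.fromNormalization.app U).hom := by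
  obtain ⟨e, he⟩ := exists_ringEquiv_sections X K φ g hg U hξ
  letI := (g.app U).hom.toAlgebra
  have h1 : Function.Injective (algebraMap Γ(X, U) Γ(Spec (CommRingCat.of K), g ⁻¹ᵁ U)) := by
    intro a b hab
    have h2 : e (algebraMap Γ(X, U) _ a) = e (algebraMap Γ(X, U) _ b) := by rw [hab]
    have h3 : (g.app U).hom a = algebraMap Γ(X, U) Γ(Spec (CommRingCat.of K), g ⁻¹ᵁ U) a := rfl
    have h4 : (g.app U).hom b = algebraMap Γ(X, U) Γ(Spec (CommRingCat.of K), g ⁻¹ᵁ U) b := rfl
    rw [← h3, ← h4, he, he] at h2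
    exact germ_injective_of_isIntegral X _ hξ (φ.injective h2)
  have h5 : Function.Injective (algebraMap Γ(X, U)
      (integralClosure Γ(X, U) Γ(Spec (CommRingCat.of K), g ⁻¹ᵁ U))) := by
    rw [IsScalarTower.algebraMap_eq Γ(X, U) (integralClosure Γ(X, U) Γ(Spec (CommRingCat.of K), g ⁻¹ᵁ U))
      Γ(Spec (CommRingCat.of K), g ⁻¹ᵁ U), RingHom.coe_comp] at h1
    exact Function.Injective.of_comp h1
  rw [Scheme.Hom.fromNormalization_app _ hU, CommRingCat.hom_comp, RingHom.coe_comp]
  exact (ConcreteCategory.bijective_of_isIso (g.normalizationObjIso hU).inv).1.comp h5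

include hg in
theorem ringKrullDim_stalk_normalization [QuasiCompact g] [QuasiSeparated g]
    (x' : g.normalization)
    (hx : ringKrullDim (X.presheaf.stalk (g.fromNormalization x')) = 1) :
    ringKrullDim (g.normalization.presheaf.stalk x') = 1 := by
  obtain ⟨_, ⟨U, hU, rfl⟩, hxU, -⟩ := X.isBasis_affineOpens.exists_subset_of_mem_open
    (Set.mem_univ (g.fromNormalization x')) isOpen_univ
  have hξ : genericPoint X ∈ U :=
    ((genericPoint_spec X).mem_open_set_iff U.isOpen).mpr ⟨_, trivial, hxU⟩
  have hW : IsAffineOpen (g.fromNormalization ⁻¹ᵁ U) := hU.preimage _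
  have hy : x' ∈ g.fromNormalization ⁻¹ᵁ U := hxU
  have : Nonempty (g.fromNormalization ⁻¹ᵁ U : g.normalization.Opens) := ⟨⟨x', hy⟩⟩
  have : Nonempty U := ⟨⟨_, hξ⟩⟩
  -- heights
  let _ := TopCat.Presheaf.algebra_section_stalk g.normalization.presheaf
    (⟨x', hy⟩ : (g.fromNormalization ⁻¹ᵁ U : g.normalization.Opens))
  have hlocN := hW.isLocalization_stalk ⟨x', hy⟩
  let _ := TopCat.Presheaf.algebra_section_stalk X.presheaf
    (⟨g.fromNormalization x', hxU⟩ : U)
  have hlocX := hU.isLocalization_stalk ⟨g.fromNormalization x', hxU⟩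
  rw [IsLocalization.AtPrime.ringKrullDim_eq_height (hW.primeIdealOf ⟨x', hy⟩).asIdeal]
  rw [IsLocalization.AtPrime.ringKrullDim_eq_height
    (hU.primeIdealOf ⟨g.fromNormalization x', hxU⟩).asIdeal] at hx
  have hcomap := IsAffineOpen.comap_primeIdealOf_appLE (f := g.fromNormalization) U hU _ hW le_rfl hy
  rw [← Scheme.Hom.app_eq_appLE] at hcomap
  letI := (g.fromNormalization.app U).hom.toAlgebra
  have hint : Algebra.IsIntegral Γ(X, U) Γ(g.normalization, g.fromNormalization ⁻¹ᵁ U) :=
    ⟨IsIntegralHom.isIntegral_app g.fromNormalization U hU⟩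
  have hle := Groth.Agent.Lib.Helper73.height_le_height_under_of_isIntegral (R := Γ(X, U))
    (hW.primeIdealOf ⟨x', hy⟩).asIdeal
  have hunder : (hW.primeIdealOf ⟨x', hy⟩).asIdeal.under Γ(X, U) =
      (hU.primeIdealOf ⟨g.fromNormalization x', hxU⟩).asIdeal := congr(($hcomap).asIdeal)
  rw [hunder] at hle
  have hx1 : (hU.primeIdealOf ⟨g.fromNormalization x', hxU⟩).asIdeal.height = 1 := by
    exact_mod_cast hx
  rw [hx1] at hle
  have hne : (hW.primeIdealOf ⟨x', hy⟩).asIdeal.height ≠ 0 := by
    rw [Ne, Ideal.height_eq_zero_iff_eq_bot]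
    intro h0
    have : (hU.primeIdealOf ⟨g.fromNormalization x', hxU⟩).asIdeal = ⊥ := by
      rw [← hunder, h0]
      have hinj := injective_app_fromNormalization X K φ g hg U hU hξ
      ext a
      simp only [Ideal.under, Ideal.mem_comap, Ideal.mem_bot]
      exact map_eq_zero_iff _ hinj
    rw [this, Ideal.height_bot] at hx1
    exact zero_ne_one hx1
  have : (hW.primeIdealOf ⟨x', hy⟩).asIdeal.height = 1 :=
    le_antisymm hle (Order.one_le_iff_ne_zero.mpr hne)
  exact_mod_cast this

end Sch

end Groth.Agent.Lib.Helper39.NormCurve
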