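import Mathlib.RingTheory.QuasiFinite.Basic
import Mathlib.RingTheory.IntegralClosure.IsIntegral.Basic
import Mathlib.RingTheory.Ideal.Maximal

set_option autoImplicit false
universe u

namespace Groth.Agent.Lib.Helper39.IntegralFibre
set_option linter.style.haveILetI false

/-- Prime avoidance over the (possibly infinite) fibre of an integral ring map: if `ψ : D → C` is
integral, `p` is a prime of `D`, `φ : E → C` any ring map and `I` an ideal of `E` such that no prime
of `C` over `p` contains `φ(I)`, then a single `f ∈ I` has `φ f` outside all primes of `C` over `p`. -/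
theorem exists_mem_notMem_primes_over {D C E : Type*} [CommRing D] [CommRing C] [CommRing E]
    (ψ : D →+* C) (hψ : ψ.IsIntegral) (φ : E →+* C) (p : Ideal D) [hp : p.IsPrime] (I : Ideal E)
    (h : ∀ P : Ideal C, P.IsPrime → P.comap ψ = p → ∃ a ∈ I, φ a ∉ P) :
    ∃ f ∈ I, ∀ P : Ideal C, P.IsPrime → P.comap ψ = p → φ f ∉ P := by
  classical
  letI : Algebra D C := ψ.toAlgebra
  have hψ' : ∀ c : C, IsIntegral D c := fun c => hψ c
  -- Step 1
  set J : Ideal C := I.map φ ⊔ p.map ψ with hJ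
  set M : Submonoid C := p.primeCompl.map ψ with hM
  have hnd : ¬ Disjoint (J : Set C) (M : Set C) := by
    intro hdisj
    obtain ⟨P, hP, hJP, hPM⟩ := Ideal.exists_le_prime_disjoint J M hdisj
    have hcomap : P.comap ψ = p := by
      apply le_antisymm
      · intro d hd
        by_contra hdp
        have h1 : ψ d ∈ (P : Set C) := hd
        have h2 : ψ d ∈ (M : Set C) := ⟨d, hdp, rfl⟩
        exact Set.disjoint_left.mp hPM h1 h2
      · intro d hd
        exact hJP (le_sup_right (a := I.map φ) (Ideal.mem_map_of_mem ψ hd))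
    obtain ⟨a, haI, haP⟩ := h P hP hcomap
    exact haP (hJP (le_sup_left (b := p.map ψ) (Ideal.mem_map_of_mem φ haI)))
  obtain ⟨c, hcJ, hcM⟩ := Set.not_disjoint_iff.mp hnd
  obtain ⟨s, hsp, rfl⟩ := hcM
  obtain ⟨x, hx, y, hy, hxy⟩ := Submodule.mem_sup.mp hcJ
  -- Step 2
  obtain ⟨T, hTsub, hxT⟩ := Submodule.mem_span_finite_of_mem_span (R := C) hx
  let C₀ : Subalgebra D C := Algebra.adjoin D (T : Set C)
  have hfg : C₀.toSubmodule.FG := fg_adjoin_of_finite T.finite_toSet (fun c _ => hψ' c)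
  haveI : Module.Finite D C₀ := Module.Finite.iff_fg.mpr hfg
  have hfin : (p.primesOver C₀).Finite := Algebra.QuasiFinite.finite_primesOver p
  let S₀ : Set (Ideal C₀) :=
    {P₀ | ∃ P : Ideal C, P.IsPrime ∧ P.comap ψ = p ∧ P.comap C₀.val.toRingHom = P₀}
  have hS₀sub : S₀ ⊆ p.primesOver C₀ := by
    rintro P₀ ⟨P, hP, hPp, rfl⟩
    refine ⟨Ideal.comap_isPrime _ _, ⟨?_⟩⟩
    rw [← hPp]
    rfl
  have hS₀fin : S₀.Finite := hfin.subset hS₀sub
  -- Step 3
  let E₀ : Subring E := C₀.toSubring.comap φ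
  let φ₀ : E₀ →+* C₀ := (φ.comp E₀.subtype).codRestrict C₀ (fun x => x.2)
  let I₀ : Ideal E₀ := I.comap E₀.subtype
  have key : ∃ f₀ ∈ I₀, ∀ P₀ ∈ S₀, f₀ ∉ P₀.comap φ₀ := by
    by_contra hcon
    have hsub : (I₀ : Set E₀) ⊆ ⋃ P₀ ∈ (hS₀fin.toFinset : Set (Ideal C₀)),
        ((P₀.comap φ₀ : Ideal E₀) : Set E₀) := by
      intro f₀ hf₀
      by_contra hf₀n
      apply hcon
      refine ⟨f₀, hf₀, fun P₀ hP₀ hmem => ?_⟩
      apply hf₀n
      exact Set.mem_biUnion (by simpa using hP₀) hmem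
    obtain ⟨P₀, hP₀S, hle⟩ := (Ideal.subset_union_prime (R := E₀) (s := hS₀fin.toFinset)
      (f := fun P₀ => P₀.comap φ₀) ⊥ ⊥
      (fun P₀ hP₀ _ _ => by
        have : P₀ ∈ S₀ := by simpa using hP₀
        haveI := (hS₀sub this).1
        exact Ideal.comap_isPrime _ _)).mp hsub
    have hP₀S' : P₀ ∈ S₀ := by simpa using hP₀S
    obtain ⟨P, hP, hPp, rfl⟩ := hP₀S'
    have hTP : (T : Set C) ⊆ P := by
      intro c hc
      obtain ⟨a, haI, rfl⟩ := hTsub hc
      have haE₀ : a ∈ E₀ := Algebra.subset_adjoin hc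
      have h1 : (⟨a, haE₀⟩ : E₀) ∈ I₀ := haI
      have h2 := hle h1
      exact h2
    have hxP : x ∈ P := (Submodule.span_le (p := P)).mpr hTP hxT
    have hyP : y ∈ P := by
      have : p.map ψ ≤ P := Ideal.map_le_iff_le_comap.mpr hPp.ge
      exact this hy
    have : ψ s ∈ P := hxy ▸ P.add_mem hxP hyP
    have : s ∈ p := hPp ▸ this
    exact hsp this
  obtain ⟨f₀, hf₀I, hf₀⟩ := key
  refine ⟨f₀.1, hf₀I, fun P hP hPp hmem => ?_⟩
  exact hf₀ (P.comap C₀.val.toRingHom) ⟨P, hP, hPp, rfl⟩ hmem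

end Groth.Agent.Lib.Helper39.IntegralFibre
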