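import Mathlib.RingTheory.QuasiFinite.Basic
import Mathlib.RingTheory.IntegralClosure.IsIntegral.Basic
import Mathlib.RingTheory.Ideal.Maximal
import Mathlib.AlgebraicGeometry.Morphisms.Integral
import Groth.Agent.Lib.Helper39.ThickAff.FinitePoints
import Groth.Agent.Lib.Helper39.IntegralFibreRing

set_option autoImplicit false
universe u
open AlgebraicGeometry CategoryTheory TopologicalSpace Opposite

namespace Groth.Agent.Lib.Helper39.IntegralFibre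
set_option linter.style.haveILetI false

open Groth.Agent.Lib.Helper39.ThickAff

variable {Y Z : Scheme.{u}}

/-- closedness of `j`: a neighbourhood basis of the fibre by preimages of basic opens. -/
theorem exists_basicOpen_preimage_le (j : Z ⟶ Y) [IsIntegralHom j] (y : Y) (W : Z.Opens)
    (hW : j ⁻¹' {y} ⊆ (W : Set Z)) (V : Y.Opens) (hV : IsAffineOpen V) (hy : y ∈ V) :
    ∃ g : Γ(Y, V), y ∈ Y.basicOpen g ∧ j ⁻¹ᵁ (Y.basicOpen g) ≤ W := by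
  have hcl : IsClosedMap j := j.isClosedMap
  have hK : IsClosed (j '' (W : Set Z)ᶜ) := hcl _ W.isOpen.isClosed_compl
  let O : Y.Opens := ⟨(j '' (W : Set Z)ᶜ)ᶜ, hK.isOpen_compl⟩
  have hyO : y ∈ O := by
    rintro ⟨z, hzW, hzy⟩
    exact hzW (hW hzy)
  obtain ⟨g, hgO, hyg⟩ := hV.exists_basicOpen_le (V := O) ⟨y, hyO⟩ hy
  refine ⟨g, hyg, fun z hz => ?_⟩
  by_contra hzW
  exact hgO hz ⟨z, hzW, rfl⟩

/-- Prime avoidance along an infinite integral fibre. -/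
theorem exists_basicOpen_fibre (j : Z ⟶ Y) [IsIntegralHom j] (y : Y)
    (V : Y.Opens) (hV : IsAffineOpen V) (hy : y ∈ V)
    (W : Z.Opens) (hW : IsAffineOpen W) (hle : j ⁻¹ᵁ V ≤ W) :
    ∃ f : Γ(Z, W), j ⁻¹' {y} ⊆ (Z.basicOpen f : Set Z) ∧ Z.basicOpen f ≤ j ⁻¹ᵁ V := by
  have hW' : IsAffineOpen (j ⁻¹ᵁ V) := hV.preimage j
  let ψ : Γ(Y, V) →+* Γ(Z, j ⁻¹ᵁ V) := (j.app V).hom
  have hψ : ψ.IsIntegral := j.isIntegral_app V hV
  let φ : Γ(Z, W) →+* Γ(Z, j ⁻¹ᵁ V) := (Z.presheaf.map (homOfLE hle).op).hom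
  let I : Ideal Γ(Z, W) :=
    { carrier := {e | Z.basicOpen e ≤ j ⁻¹ᵁ V}
      add_mem' := fun {a b} ha hb => (Z.basicOpen_add_le a b).trans (sup_le ha hb)
      zero_mem' := by
        change Z.basicOpen (0 : Γ(Z, W)) ≤ j ⁻¹ᵁ V
        rw [Scheme.basicOpen_zero]; exact bot_le
      smul_mem' := fun c {a} ha => by
        change Z.basicOpen (c * a) ≤ j ⁻¹ᵁ V
        rw [Scheme.basicOpen_mul]; exact inf_le_right.trans ha }
  haveI : (evalKer V y).IsPrime := evalKer_isPrime V y hy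
  have hres : ∀ e : Γ(Z, W), Z.basicOpen (φ e) = j ⁻¹ᵁ V ⊓ Z.basicOpen e := fun e =>
    Z.basicOpen_res e (homOfLE hle).op
  obtain ⟨f, hfI, hf⟩ := exists_mem_notMem_primes_over ψ hψ φ (evalKer V y) I (by
    intro P hP _
    let z : Z := hW'.fromSpec.base ⟨P, hP⟩
    have hzW' : z ∈ j ⁻¹ᵁ V := by
      have : z ∈ hW'.fromSpec.opensRange := ⟨_, rfl⟩
      rwa [hW'.opensRange_fromSpec] at this
    have hz : ∀ c : Γ(Z, j ⁻¹ᵁ V), z ∈ Z.basicOpen c ↔ c ∉ P := by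
      intro c
      have h1 : z ∈ Z.basicOpen c ↔
          (⟨P, hP⟩ : PrimeSpectrum Γ(Z, j ⁻¹ᵁ V)) ∈ hW'.fromSpec ⁻¹ᵁ Z.basicOpen c := Iff.rfl
      rw [h1, hW'.fromSpec_preimage_basicOpen c]
      exact PrimeSpectrum.mem_basicOpen _ _
    obtain ⟨a, haV, hza⟩ := hW.exists_basicOpen_le (V := j ⁻¹ᵁ V) ⟨z, hzW'⟩ (hle hzW')
    refine ⟨a, haV, ?_⟩
    rw [← hz, hres]
    exact ⟨hzW', hza⟩)
  refine ⟨f, fun z hz => ?_, hfI⟩
  have hjz : j.base z = y := hz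
  have hzW' : z ∈ j ⁻¹ᵁ V := by
    change j.base z ∈ V
    rw [hjz]; exact hy
  have hprime : (evalKer (j ⁻¹ᵁ V) z).IsPrime := evalKer_isPrime _ z hzW'
  have hcomap : (evalKer (j ⁻¹ᵁ V) z).comap ψ = evalKer V y := by
    ext d
    rw [Ideal.mem_comap, mem_evalKer_iff _ z hzW', mem_evalKer_iff V y hy]
    have p1 : j ⁻¹ᵁ (Y.basicOpen d) = Z.basicOpen ((j.app V).hom d) := Scheme.preimage_basicOpen j d
    change z ∉ Z.basicOpen ((j.app V).hom d) ↔ _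
    rw [← p1]
    change j.base z ∉ Y.basicOpen d ↔ _
    rw [hjz]
  have h1 := hf _ hprime hcomap
  rw [mem_evalKer_iff _ z hzW', not_not, hres] at h1
  exact h1.2

/-- Stacks 0E26: affine opens adapted to a closed immersion and an integral morphism. -/
theorem exists_affineOpens_adapted {X Y Z : Scheme.{u}} (i : Z ⟶ X) [IsClosedImmersion i]
    (j : Z ⟶ Y) [IsIntegralHom j]
    (h : ∀ y : Y, ∃ U : X.Opens, IsAffineOpen U ∧ j ⁻¹' {y} ⊆ (i ⁻¹ᵁ U : Set ↑Z)) (y : Y) :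
    ∃ (U : X.Opens) (V : Y.Opens), IsAffineOpen U ∧ IsAffineOpen V ∧ y ∈ V ∧
      i ⁻¹ᵁ U = j ⁻¹ᵁ V := by
  obtain ⟨U₀, hU₀, hfib⟩ := h y
  obtain ⟨V₁, hV₁, hyV₁, -⟩ := exists_isAffineOpen_mem_and_subset (x := y) (U := ⊤) trivial
  -- shrink `V₁` so that its preimage lies in `i⁻¹ U₀`
  obtain ⟨g₁, hyg₁, hg₁⟩ := exists_basicOpen_preimage_le j y (i ⁻¹ᵁ U₀) hfib V₁ hV₁ hyV₁
  have hV₀ : IsAffineOpen (Y.basicOpen g₁) := hV₁.basicOpen g₁
  have hW₀ : IsAffineOpen (i ⁻¹ᵁ U₀) := hU₀.preimage i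
  -- prime avoidance along the fibre
  obtain ⟨f, hff, hfV⟩ := exists_basicOpen_fibre j y (Y.basicOpen g₁) hV₀ hyg₁ (i ⁻¹ᵁ U₀) hW₀ hg₁
  obtain ⟨F, hF⟩ := i.app_surjective U₀ hU₀ f
  have hU₁ : IsAffineOpen (X.basicOpen F) := hU₀.basicOpen F
  have p1 : i ⁻¹ᵁ (X.basicOpen F) = Z.basicOpen f := by
    have := Scheme.preimage_basicOpen i F
    rw [this]
    congr 1
  have hW₁ : IsAffineOpen (i ⁻¹ᵁ (X.basicOpen F)) := hU₁.preimage i
  -- second shrinking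
  obtain ⟨g, hyg, hg⟩ := exists_basicOpen_preimage_le j y (i ⁻¹ᵁ (X.basicOpen F))
    (by rw [p1]; exact hff) (Y.basicOpen g₁) hV₀ hyg₁
  have hle : i ⁻¹ᵁ (X.basicOpen F) ≤ j ⁻¹ᵁ (Y.basicOpen g₁) := by rw [p1]; exact hfV
  let gbar : Γ(Z, i ⁻¹ᵁ (X.basicOpen F)) :=
    (Z.presheaf.map (homOfLE hle).op).hom ((j.app (Y.basicOpen g₁)).hom g)
  obtain ⟨G, hG⟩ := i.app_surjective (X.basicOpen F) hU₁ gbar
  refine ⟨X.basicOpen G, Y.basicOpen g, hU₁.basicOpen G, hV₀.basicOpen g, hyg, ?_⟩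
  have p2 : i ⁻¹ᵁ (X.basicOpen G) = Z.basicOpen gbar := by
    have := Scheme.preimage_basicOpen i G
    rw [this]
    congr 1
  have p3 : Z.basicOpen gbar = i ⁻¹ᵁ (X.basicOpen F) ⊓ Z.basicOpen ((j.app (Y.basicOpen g₁)).hom g) :=
    Z.basicOpen_res _ (homOfLE hle).op
  have p4 : j ⁻¹ᵁ (Y.basicOpen g) = Z.basicOpen ((j.app (Y.basicOpen g₁)).hom g) :=
    Scheme.preimage_basicOpen j g
  rw [p2, p3, ← p4]
  exact inf_eq_right.mpr hg

end Groth.Agent.Lib.Helper39.IntegralFibre
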