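import Mathlib.RingTheory.PowerSeries.Derivative
import Mathlib.RingTheory.PowerSeries.Exp
import Mathlib.RingTheory.PowerSeries.Substitution
import Mathlib.Tactic

/-!
# Logarithmic-derivative calculus for power series (helper39)

`LD y b` means `d⁄dX y = y * b`.  Over a field of characteristic zero, two power series with the
same logarithmic derivative and the same constant coefficient are equal (`LD.unique`).
Also: `exp ∘ a` has logarithmic derivative `a'` and constant coefficient `1`.
-/

namespace Groth.Agent.Lib.Helper39

open PowerSeries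

variable {K : Type*} [Field K]

/-- `y` has logarithmic derivative `b`. -/
def LD (y b : PowerSeries K) : Prop := d⁄dX K y = y * b

theorem LD.one : LD (1 : PowerSeries K) 0 := by
  unfold LD; simp

theorem LD.mul {y₁ y₂ b₁ b₂ : PowerSeries K} (h₁ : LD y₁ b₁) (h₂ : LD y₂ b₂) :
    LD (y₁ * y₂) (b₁ + b₂) := by
  unfold LD at *
  rw [Derivation.leibniz, h₁, h₂]
  simp only [smul_eq_mul]
  ring

theorem LD.pow {y b : PowerSeries K} (h : LD y b) (k : ℕ) : LD (y ^ k) (k • b) := by
  induction k with
  | zero => simpa using LD.one
  | succ k ih =>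
    rw [pow_succ, succ_nsmul]
    exact ih.mul h

theorem LD.prod {ι : Type*} (s : Finset ι) (y b : ι → PowerSeries K) (h : ∀ i ∈ s, LD (y i) (b i)) :
    LD (∏ i ∈ s, y i) (∑ i ∈ s, b i) := by
  classical
  induction s using Finset.induction_on with
  | empty => simpa using LD.one
  | insert a s ha ih =>
    rw [Finset.prod_insert ha, Finset.sum_insert ha]
    exact (h a (Finset.mem_insert_self a s)).mul (ih (fun i hi => h i (Finset.mem_insert_of_mem hi)))

theorem LD.unique [CharZero K] {y₁ y₂ b : PowerSeries K} (h₁ : LD y₁ b) (h₂ : LD y₂ b)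
    (h0 : constantCoeff y₁ = constantCoeff y₂) : y₁ = y₂ := by
  unfold LD at *
  ext n
  induction n using Nat.strong_induction_on with
  | _ n ih =>
    cases n with
    | zero =>
      rw [coeff_zero_eq_constantCoeff_apply, coeff_zero_eq_constantCoeff_apply, h0]
    | succ n =>
      have e1 := congrArg (coeff n) h₁
      have e2 := congrArg (coeff n) h₂
      rw [coeff_derivative, coeff_mul] at e1 e2
      have : ∑ p ∈ Finset.antidiagonal n, coeff p.1 y₁ * coeff p.2 b =
          ∑ p ∈ Finset.antidiagonal n, coeff p.1 y₂ * coeff p.2 b := by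
        apply Finset.sum_congr rfl
        intro p hp
        rw [ih p.1 (by have := Finset.mem_antidiagonal.mp hp; omega)]
      rw [this, ← e2] at e1
      have hne : ((n : K) + 1) ≠ 0 := Nat.cast_add_one_ne_zero n
      exact mul_right_cancel₀ hne e1

/-- the exponential of a series without constant term -/
noncomputable def expSubst [Algebra ℚ K] (a : PowerSeries K) : PowerSeries K :=
  PowerSeries.subst a (PowerSeries.exp K)

theorem expSubst_LD [Algebra ℚ K] (a : PowerSeries K) (ha : constantCoeff a = 0) :
    LD (expSubst a) (d⁄dX K a) := by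
  unfold LD expSubst
  rw [derivative_subst (HasSubst.of_constantCoeff_zero' ha), derivative_exp]

theorem constantCoeff_expSubst [Algebra ℚ K] (a : PowerSeries K) (ha : constantCoeff a = 0) :
    constantCoeff (expSubst a) = 1 := by
  unfold expSubst
  have hs : HasSubst a := HasSubst.of_constantCoeff_zero' ha
  have h := constantCoeff_subst hs (PowerSeries.exp K)
  have h2 : (fun d => coeff d (PowerSeries.exp K) • MvPowerSeries.constantCoeff (a ^ d)) =
      fun d => if d = 0 then (1 : K) else 0 := by
    funext d
    by_cases hd : d = 0
    · subst hd; simp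
    · rw [if_neg hd]
      have : MvPowerSeries.constantCoeff (a ^ d) = 0 := by
        rw [map_pow]
        have : MvPowerSeries.constantCoeff a = 0 := ha
        rw [this, zero_pow hd]
      rw [this, smul_zero]
  rw [h2, finsum_eq_single _ 0 (fun d hd => if_neg hd), if_pos rfl] at h
  exact h

/-- geometric series -/
noncomputable def geom (c : K) : PowerSeries K := PowerSeries.mk fun m => c ^ m

theorem geom_mul (c : K) : geom c * (1 - C c * X) = 1 := by
  ext n
  rw [mul_sub, mul_one, map_sub, ← mul_assoc, mul_comm (geom c) (C c), mul_assoc]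
  cases n with
  | zero => simp [geom]
  | succ n =>
    rw [coeff_C_mul, coeff_succ_mul_X]
    simp [geom, pow_succ, mul_comm]

theorem LD_one_sub (c : K) : LD (1 - C c * X : PowerSeries K) (-(C c * geom c)) := by
  unfold LD
  have h1 : d⁄dX K (1 - C c * X : PowerSeries K) = - C c := by
    rw [map_sub, Derivation.leibniz]
    simp
  rw [h1, mul_neg, ← mul_assoc, mul_comm _ (C c), mul_assoc, mul_comm _ (geom c), geom_mul, mul_one]

end Groth.Agent.Lib.Helper39
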