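import Groth.Agent.Lib.Helper39.ThickAff.FinitePoints
import Groth.Agent.Lib.Helper39.ThickAff.Hom

/-!
# Affine opens containing points whose local rings come from an affine scheme (helper39)

`exists_affineOpen_of_stalk_iso`: let `f : T ⟶ X` with `T` affine, `X` quasi-separated with
finitely many irreducible components, `f` sending generic points to generic points injectively, and
`s` a finite set of points of `T` at which `f` induces isomorphisms of local rings. Then `f(s)` lies
in an affine open of `X`.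

Proof: reduce to `X`, `T` reduced; spread finitely many functions of `T` out to sections on a
neighbourhood of `f(s)` (gluing is automatic on a reduced scheme because all generic points are in
the image of `f`); the resulting open is quasi-affine, and a finite subset of a quasi-affine scheme
lies in an affine open by prime avoidance.
-/

set_option autoImplicit false
universe u v
open AlgebraicGeometry CategoryTheory TopologicalSpace Opposite
open Groth.Agent.Lib.Helper39.ThickAff

namespace Groth.Agent.Lib.Helper39.SpreadAff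

/-- generalizations lift along a morphism with an isomorphism on stalks. -/
theorem exists_generalization_lift {T X : Scheme.{u}} (f : T ⟶ X) (t : T)
    (ht : IsIso (f.stalkMap t)) (y : X) (hy : y ⤳ f t) : ∃ τ : T, τ ⤳ t ∧ f τ = y := by
  have hy' : y ∈ Set.range (X.fromSpecStalk (f t)) := by
    rw [Scheme.range_fromSpecStalk]; exact hy
  obtain ⟨z, rfl⟩ := hy'
  have hiso : IsIso (Spec.map (f.stalkMap t)) := inferInstance
  obtain ⟨w, rfl⟩ : ∃ w, Spec.map (f.stalkMap t) w = z := by
    have := (asIso (Spec.map (f.stalkMap t)))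
    exact ⟨(inv (Spec.map (f.stalkMap t))) z, by
      rw [← Scheme.Hom.comp_apply, IsIso.inv_hom_id]; rfl⟩
  refine ⟨T.fromSpecStalk t w, ?_, ?_⟩
  · have : T.fromSpecStalk t w ∈ Set.range (T.fromSpecStalk t) := ⟨w, rfl⟩
    rw [Scheme.range_fromSpecStalk] at this
    exact this
  · rw [← Scheme.Hom.comp_apply, ← Scheme.SpecMap_stalkMap_fromSpecStalk, Scheme.Hom.comp_apply]

/-- every point is a specialization of a generic point of an irreducible component. -/
theorem exists_generic_specializes (X : Scheme.{u}) (z : X) :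
    ∃ η : X, closure ({η} : Set X) ∈ irreducibleComponents (X : Type u) ∧ η ⤳ z := by
  have hirr : IsIrreducible (irreducibleComponent z) := isIrreducible_irreducibleComponent
  have hcl : IsClosed (irreducibleComponent z) := isClosed_irreducibleComponent
  obtain ⟨η, hη⟩ := QuasiSober.sober hirr hcl
  refine ⟨η, ?_, ?_⟩
  · rw [hη.def]
    exact irreducibleComponent_mem_irreducibleComponents z
  · rw [specializes_iff_mem_closure, hη.def]
    exact mem_irreducibleComponent

/-- a generalization of a generic point is that point. -/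
theorem eq_of_specializes_generic (X : Scheme.{u}) (ξ a : X)
    (hξ : closure ({ξ} : Set X) ∈ irreducibleComponents (X : Type u)) (h : a ⤳ ξ) : a = ξ := by
  have h1 : closure ({ξ} : Set X) ≤ closure ({a} : Set X) := by
    apply IsClosed.closure_subset_iff isClosed_closure |>.mpr
    rw [Set.singleton_subset_iff]
    exact specializes_iff_mem_closure.mp h
  have h2 : closure ({a} : Set X) ≤ closure ({ξ} : Set X) :=
    hξ.2 (isIrreducible_singleton.closure) h1
  have h3 : closure ({a} : Set X) = closure ({ξ} : Set X) := le_antisymm h2 h1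
  have : Inseparable a ξ := inseparable_iff_closure_eq.mpr h3
  exact this.eq

/-- generic points lift. -/
theorem exists_generic_lift {T X : Scheme.{u}} (f : T ⟶ X) (t : T)
    (ht : IsIso (f.stalkMap t)) (ξ : X)
    (hξ : closure ({ξ} : Set X) ∈ irreducibleComponents (X : Type u)) (hy : ξ ⤳ f t) :
    ∃ η : T, closure ({η} : Set T) ∈ irreducibleComponents (T : Type u) ∧ η ⤳ t ∧ f η = ξ := by
  obtain ⟨τ, hτt, hτ⟩ := exists_generalization_lift f t ht ξ hy
  obtain ⟨η, hη, hητ⟩ := exists_generic_specializes T τ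
  refine ⟨η, hη, hητ.trans hτt, ?_⟩
  apply eq_of_specializes_generic X ξ (f η) hξ
  rw [← hτ]
  exact hητ.map f.continuous

/-- a section of a reduced scheme whose pullback vanishes everywhere is zero, provided all generic
points of its domain are in the image of "good" generalizations. -/
theorem eq_zero_of_pullback {T X : Scheme.{u}} [IsReduced X] (f : T ⟶ X) (O : X.Opens)
    (hO : ∀ ξ ∈ O, closure ({ξ} : Set X) ∈ irreducibleComponents (X : Type u) →
      ∃ t : T, IsIso (f.stalkMap t) ∧ ξ ⤳ f t)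
    (σ : Γ(X, O)) (hσ : T.basicOpen ((f.app O).hom σ) = ⊥) : σ = 0 := by
  rw [← basicOpen_eq_bot_iff]
  by_contra hne
  obtain ⟨y, hy⟩ : ∃ y, y ∈ X.basicOpen σ := by
    by_contra h
    apply hne
    ext y
    simp only [Opens.coe_bot, Set.mem_empty_iff_false, iff_false]
    intro hy
    exact h ⟨y, hy⟩
  obtain ⟨ξ, hξ, hξy⟩ := exists_generic_specializes X y
  have hξσ : ξ ∈ X.basicOpen σ := hξy.mem_open (X.basicOpen σ).isOpen hy
  obtain ⟨t, ht, hξt⟩ := hO ξ (X.basicOpen_le σ hξσ) hξ
  obtain ⟨τ, -, hτ⟩ := exists_generalization_lift f t ht ξ hξt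
  have h1 : τ ∈ f ⁻¹ᵁ (X.basicOpen σ) := by
    change f τ ∈ X.basicOpen σ
    rw [hτ]; exact hξσ
  have p1 : f ⁻¹ᵁ (X.basicOpen σ) = T.basicOpen ((f.app O).hom σ) := Scheme.preimage_basicOpen f σ
  rw [p1, hσ] at h1
  exact h1

/-- spreading out the germ of a function on `T` to a neighbourhood in `X`. -/
theorem exists_spread_germ {T X : Scheme.{u}} (f : T ⟶ X) (t : T) (ht : IsIso (f.stalkMap t))
    (b : Γ(T, ⊤)) : ∃ (N : X.Opens) (hN : f t ∈ N) (β : Γ(X, N)),
      T.presheaf.germ (f ⁻¹ᵁ N) t hN ((f.app N).hom β) = T.presheaf.germ ⊤ t trivial b := by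
  obtain ⟨a, ha⟩ := (ConcreteCategory.bijective_of_isIso (f.stalkMap t)).2
    (T.presheaf.germ ⊤ t trivial b)
  obtain ⟨N, hN, β, rfl⟩ := X.presheaf.exists_germ_eq a
  refine ⟨N, hN, β, ?_⟩
  rw [← ha]
  exact (Scheme.Hom.germ_stalkMap_apply f N t hN β).symm

/-- two sections on `f⁻¹ N` with the same germ at `t` differ by a nowhere non-vanishing section, if
all generic points of `N` generalize `f t`. -/
theorem basicOpen_sub_eq_bot {T X : Scheme.{u}} (f : T ⟶ X)
    (hgen : ∀ η : T, closure ({η} : Set T) ∈ irreducibleComponents (T : Type u) →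
      closure ({(f η)} : Set X) ∈ irreducibleComponents (X : Type u))
    (hinj : ∀ η η' : T, closure ({η} : Set T) ∈ irreducibleComponents (T : Type u) →
      closure ({η'} : Set T) ∈ irreducibleComponents (T : Type u) → f η = f η' → η = η')
    (t : T) (ht : IsIso (f.stalkMap t)) (N : X.Opens)
    (hN : ∀ ξ ∈ N, closure ({ξ} : Set X) ∈ irreducibleComponents (X : Type u) → ξ ⤳ f t)
    (htN : f t ∈ N) (τ₁ τ₂ : Γ(T, f ⁻¹ᵁ N))
    (hgerm : T.presheaf.germ (f ⁻¹ᵁ N) t htN τ₁ = T.presheaf.germ (f ⁻¹ᵁ N) t htN τ₂) :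
    T.basicOpen (τ₁ - τ₂) = ⊥ := by
  by_contra hne
  obtain ⟨z, hz⟩ : ∃ z, z ∈ T.basicOpen (τ₁ - τ₂) := by
    by_contra h
    apply hne
    ext y
    simp only [Opens.coe_bot, Set.mem_empty_iff_false, iff_false]
    intro hy
    exact h ⟨y, hy⟩
  obtain ⟨η, hη, hηz⟩ := exists_generic_specializes T z
  have hηb : η ∈ T.basicOpen (τ₁ - τ₂) := hηz.mem_open (T.basicOpen _).isOpen hz
  have hηN : f η ∈ N := T.basicOpen_le _ hηb
  obtain ⟨η', hη', hη't, hfη'⟩ := exists_generic_lift f t ht (f η) (hgen η hη) (hN _ hηN (hgen η hη))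
  have hηη' : η' = η := hinj η' η hη' hη hfη'
  have hηt : η ⤳ t := hηη' ▸ hη't
  have hg0 : T.presheaf.germ (f ⁻¹ᵁ N) t htN (τ₁ - τ₂) = T.presheaf.germ (f ⁻¹ᵁ N) t htN 0 := by
    rw [map_sub, hgerm, sub_self, map_zero]
  obtain ⟨W, htW, iU, iV, hW⟩ := T.presheaf.germ_eq t htN htN _ _ hg0
  have hηW : η ∈ W := hηt.mem_open W.isOpen htW
  have h2 : η ∈ T.basicOpen ((T.presheaf.map iU.op).hom (τ₁ - τ₂)) := by
    rw [Scheme.basicOpen_res]
    exact ⟨hηW, hηb⟩
  have h3 : (T.presheaf.map iU.op).hom (τ₁ - τ₂) = 0 := by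
    have : (T.presheaf.map iU.op) (τ₁ - τ₂) = (T.presheaf.map iV.op) 0 := hW
    rw [map_zero] at this
    exact this
  rw [h3, Scheme.basicOpen_zero] at h2
  exact h2

/-- if `β` lies in every prime below `p` containing `I`, then `s β ^ n ∈ I` for some `s ∉ p`. -/
theorem exists_mul_pow_mem {A : Type*} [CommRing A] (p : Ideal A) [p.IsPrime] (I : Ideal A) (β : A)
    (h : ∀ r : Ideal A, r.IsPrime → r ≤ p → β ∉ r → ¬ I ≤ r) :
    ∃ s, s ∉ p ∧ ∃ n : ℕ, s * β ^ n ∈ I := by
  by_contra hcon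
  set S : Submonoid A := p.primeCompl ⊔ Submonoid.powers β with hS
  have hdisj : Disjoint (I : Set A) S := by
    rw [Set.disjoint_left]
    intro x hxI hxS
    obtain ⟨y, hy, z, ⟨n, rfl⟩, rfl⟩ := Submonoid.mem_sup.mp hxS
    exact hcon ⟨y, hy, n, hxI⟩
  obtain ⟨r, hr, hIr, hrS⟩ := Ideal.exists_le_prime_disjoint I S hdisj
  have hrp : r ≤ p := by
    intro x hx
    by_contra hxp
    exact Set.disjoint_left.mp hrS hx
      ((le_sup_left : p.primeCompl ≤ S) hxp)
  have hβr : β ∉ r := fun hβ =>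
    Set.disjoint_left.mp hrS hβ ((le_sup_right : Submonoid.powers β ≤ S) (Submonoid.mem_powers β))
  exact h r hr hrp hβr hIr

/-- shrinking a neighbourhood of `x` so that a basic open lands inside `W`, if it does so on
generalizations of `x`. -/
theorem exists_basicOpen_inf_le {X : Scheme.{u}} (N : X.Opens) (hN : IsAffineOpen N) (x : X)
    (hx : x ∈ N) (W : X.Opens) (β : Γ(X, N))
    (h : ∀ y : X, y ⤳ x → y ∈ X.basicOpen β → y ∈ W) :
    ∃ s : Γ(X, N), x ∈ X.basicOpen s ∧ X.basicOpen s ⊓ X.basicOpen β ≤ W := by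
  classical
  let I : Ideal Γ(X, N) :=
    { carrier := {φ | X.basicOpen φ ≤ W}
      add_mem' := fun {a b} ha hb => (X.basicOpen_add_le a b).trans (sup_le ha hb)
      zero_mem' := by
        change X.basicOpen (0 : Γ(X, N)) ≤ W
        rw [Scheme.basicOpen_zero]; exact bot_le
      smul_mem' := fun c {a} ha => by
        change X.basicOpen (c * a) ≤ W
        rw [Scheme.basicOpen_mul]; exact inf_le_right.trans ha }
  set P := hN.primeIdealOf ⟨x, hx⟩ with hP
  have hPx : hN.fromSpec P = x := hN.fromSpec_primeIdealOf ⟨x, hx⟩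
  have hmem : ∀ (Q : PrimeSpectrum Γ(X, N)) (a : Γ(X, N)),
      hN.fromSpec Q ∈ X.basicOpen a ↔ a ∉ Q.asIdeal := by
    intro Q a
    have h1 : hN.fromSpec ⁻¹ᵁ X.basicOpen a = PrimeSpectrum.basicOpen a :=
      hN.fromSpec_preimage_basicOpen a
    have h2 : hN.fromSpec Q ∈ X.basicOpen a ↔ Q ∈ hN.fromSpec ⁻¹ᵁ X.basicOpen a := Iff.rfl
    rw [h2, h1]
    exact Iff.rfl
  obtain ⟨s, hsP, n, hsn⟩ := exists_mul_pow_mem P.asIdeal I β (by
    intro r hr hrP hβr hIr
    let Q : PrimeSpectrum Γ(X, N) := ⟨r, hr⟩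
    have hQP : Q ⤳ P := (PrimeSpectrum.le_iff_specializes Q P).mp hrP
    have hy : hN.fromSpec Q ⤳ x := by
      rw [← hPx]
      exact hQP.map hN.fromSpec.continuous
    have hyW : hN.fromSpec Q ∈ W := h _ hy ((hmem Q β).mpr hβr)
    have hyN : hN.fromSpec Q ∈ N := by
      rw [← SetLike.mem_coe, ← hN.range_fromSpec]
      exact ⟨Q, rfl⟩
    obtain ⟨a, haW, hya⟩ := hN.exists_basicOpen_le (V := W) ⟨_, hyW⟩ hyN
    exact (hmem Q a).mp hya (hIr haW))
  refine ⟨s, ?_, ?_⟩
  · rw [← hPx]
    exact (hmem P s).mpr hsP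
  · have h1 : X.basicOpen (s * β ^ n) ≤ W := hsn
    refine le_trans ?_ h1
    rw [Scheme.basicOpen_mul]
    refine inf_le_inf le_rfl ?_
    rcases Nat.eq_zero_or_pos n with rfl | hn
    · rw [pow_zero, Scheme.basicOpen_of_isUnit _ isUnit_one]
      exact X.basicOpen_le β
    · rw [Scheme.basicOpen_pow _ _ hn]

/-- an affine neighbourhood all of whose generic points generalize `x`. -/
theorem exists_good_nhd (X : Scheme.{u}) (hX : (irreducibleComponents (X : Type u)).Finite) (x : X)
    (O : X.Opens) (hx : x ∈ O) :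
    ∃ N : X.Opens, IsAffineOpen N ∧ x ∈ N ∧ N ≤ O ∧
      ∀ ξ ∈ N, closure ({ξ} : Set X) ∈ irreducibleComponents (X : Type u) → ξ ⤳ x := by
  let C : Set X := ⋃₀ {Z | Z ∈ irreducibleComponents (X : Type u) ∧ x ∉ Z}
  have hC : IsClosed C := by
    have hfin : {Z | Z ∈ irreducibleComponents (X : Type u) ∧ x ∉ Z}.Finite :=
      hX.subset (fun Z hZ => hZ.1)
    have : C = ⋃ Z ∈ {Z | Z ∈ irreducibleComponents (X : Type u) ∧ x ∉ Z}, Z :=
      Set.sUnion_eq_biUnion
    rw [this]
    exact hfin.isClosed_biUnion (fun Z hZ => isClosed_of_mem_irreducibleComponents Z hZ.1)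
  have hxC : x ∉ C := by
    rintro ⟨Z, ⟨hZ, hxZ⟩, hx'⟩
    exact hxZ hx'
  let O' : X.Opens := O ⊓ ⟨Cᶜ, hC.isOpen_compl⟩
  obtain ⟨_, ⟨N, hN, rfl⟩, hxN, hNO⟩ := X.isBasis_affineOpens.exists_subset_of_mem_open
    (show x ∈ (O' : Set X) from ⟨hx, hxC⟩) O'.isOpen
  refine ⟨N, hN, hxN, fun y hy => (hNO hy).1, fun ξ hξN hξ => ?_⟩
  by_contra hcon
  have : ξ ∈ C := ⟨closure {ξ}, ⟨hξ, fun hx' => hcon (specializes_iff_mem_closure.mpr hx')⟩,
    subset_closure rfl⟩
  exact (hNO hξN).2 this

section Spread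

variable {T X : Scheme.{u}} (f : T ⟶ X)

theorem spreads_res {N N' : X.Opens} (h : N' ≤ N) (β : Γ(X, N)) (b : Γ(T, ⊤))
    (hβ : (f.app N).hom β = resTop T (f ⁻¹ᵁ N) b) :
    (f.app N').hom ((X.presheaf.map (homOfLE h).op).hom β) = resTop T (f ⁻¹ᵁ N') b := by
  rw [app_res f h β, hβ]
  exact res_resTop _ b

variable [IsReduced T]

/-- spreading out one function near one point. -/
theorem exists_spread (hX : (irreducibleComponents (X : Type u)).Finite)
    (hgen : ∀ η : T, closure ({η} : Set T) ∈ irreducibleComponents (T : Type u) →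
      closure ({(f η)} : Set X) ∈ irreducibleComponents (X : Type u))
    (hinj : ∀ η η' : T, closure ({η} : Set T) ∈ irreducibleComponents (T : Type u) →
      closure ({η'} : Set T) ∈ irreducibleComponents (T : Type u) → f η = f η' → η = η')
    (t : T) (ht : IsIso (f.stalkMap t)) (b : Γ(T, ⊤)) (W : X.Opens)
    (hbW : T.basicOpen b ≤ f ⁻¹ᵁ W) (O : X.Opens) (hO : f t ∈ O) :
    ∃ N : X.Opens, IsAffineOpen N ∧ f t ∈ N ∧ N ≤ O ∧
      (∀ ξ ∈ N, closure ({ξ} : Set X) ∈ irreducibleComponents (X : Type u) → ξ ⤳ f t) ∧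
      ∃ β : Γ(X, N), (f.app N).hom β = resTop T (f ⁻¹ᵁ N) b ∧ X.basicOpen β ≤ W := by
  obtain ⟨N₀, hN₀, β₀, hβ₀⟩ := exists_spread_germ f t ht b
  obtain ⟨N₁, hN₁aff, htN₁, hN₁le, hN₁good⟩ := exists_good_nhd X hX (f t) (N₀ ⊓ O) ⟨hN₀, hO⟩
  have hN₁N₀ : N₁ ≤ N₀ := hN₁le.trans inf_le_left
  set β₁ := (X.presheaf.map (homOfLE hN₁N₀).op).hom β₀ with hβ₁def
  -- the pullback of β₁ equals b on f⁻¹ N₁
  have hgerm : T.presheaf.germ (f ⁻¹ᵁ N₁) t htN₁ ((f.app N₁).hom β₁) =
      T.presheaf.germ (f ⁻¹ᵁ N₁) t htN₁ (resTop T (f ⁻¹ᵁ N₁) b) := by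
    rw [hβ₁def, app_res f hN₁N₀ β₀]
    have e1 : T.presheaf.germ (f ⁻¹ᵁ N₁) t htN₁
        ((T.presheaf.map (homOfLE (show f ⁻¹ᵁ N₁ ≤ f ⁻¹ᵁ N₀ from fun _ hz => hN₁N₀ hz)).op).hom
          ((f.app N₀).hom β₀)) = T.presheaf.germ (f ⁻¹ᵁ N₀) t hN₀ ((f.app N₀).hom β₀) :=
      T.presheaf.germ_res_apply _ t htN₁ _
    have e2 : T.presheaf.germ (f ⁻¹ᵁ N₁) t htN₁ (resTop T (f ⁻¹ᵁ N₁) b) =
        T.presheaf.germ ⊤ t trivial b :=
      T.presheaf.germ_res_apply _ t htN₁ _
    rw [e1, e2, hβ₀]
  have h0 := basicOpen_sub_eq_bot f hgen hinj t ht N₁ hN₁good htN₁ _ _ hgerm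
  have hβ₁ : (f.app N₁).hom β₁ = resTop T (f ⁻¹ᵁ N₁) b :=
    sub_eq_zero.mp ((basicOpen_eq_bot_iff _).mp h0)
  -- shrink so that the basic open lands in W
  obtain ⟨s, hts, hsW⟩ := exists_basicOpen_inf_le N₁ hN₁aff (f t) htN₁ W β₁ (by
    intro y hy hyβ
    obtain ⟨τ, -, rfl⟩ := exists_generalization_lift f t ht y hy
    have h1 : τ ∈ f ⁻¹ᵁ (X.basicOpen β₁) := hyβ
    have p1 : f ⁻¹ᵁ (X.basicOpen β₁) = T.basicOpen ((f.app N₁).hom β₁) :=
      Scheme.preimage_basicOpen f β₁
    rw [p1, hβ₁, basicOpen_resTop] at h1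
    exact hbW h1.2)
  have hsN₁ : X.basicOpen s ≤ N₁ := X.basicOpen_le s
  refine ⟨X.basicOpen s, hN₁aff.basicOpen s, hts, hsN₁.trans (hN₁le.trans inf_le_right),
    fun ξ hξ hgenξ => hN₁good ξ (hsN₁ hξ) hgenξ,
    (X.presheaf.map (homOfLE hsN₁).op).hom β₁, spreads_res f hsN₁ β₁ b hβ₁, ?_⟩
  rw [Scheme.basicOpen_res]
  exact hsW

/-- spreading out finitely many functions near one point. -/
theorem exists_spread_family (hX : (irreducibleComponents (X : Type u)).Finite)
    (hgen : ∀ η : T, closure ({η} : Set T) ∈ irreducibleComponents (T : Type u) →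
      closure ({(f η)} : Set X) ∈ irreducibleComponents (X : Type u))
    (hinj : ∀ η η' : T, closure ({η} : Set T) ∈ irreducibleComponents (T : Type u) →
      closure ({η'} : Set T) ∈ irreducibleComponents (T : Type u) → f η = f η' → η = η')
    (l : T) (hl : IsIso (f.stalkMap l)) (b : T → Γ(T, ⊤)) (W : T → X.Opens) (s : Finset T)
    (hbW : ∀ t ∈ s, T.basicOpen (b t) ≤ f ⁻¹ᵁ (W t)) :
    ∃ N : X.Opens, IsAffineOpen N ∧ f l ∈ N ∧
      (∀ ξ ∈ N, closure ({ξ} : Set X) ∈ irreducibleComponents (X : Type u) → ξ ⤳ f l) ∧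
      ∃ β : T → Γ(X, N), ∀ t ∈ s, (f.app N).hom (β t) = resTop T (f ⁻¹ᵁ N) (b t) ∧
        X.basicOpen (β t) ≤ W t := by
  classical
  induction s using Finset.induction_on with
  | empty =>
    obtain ⟨N, hN, hlN, -, hgood⟩ := exists_good_nhd X hX (f l) ⊤ trivial
    exact ⟨N, hN, hlN, hgood, fun _ => 0, fun t ht => absurd ht (Finset.notMem_empty t)⟩
  | insert a s ha ih =>
    obtain ⟨N, hN, hlN, hgood, β, hβ⟩ := ih (fun t ht => hbW t (Finset.mem_insert_of_mem ht))
    obtain ⟨N', hN', hlN', hN'N, hgood', β', hβ', hβ'W⟩ := exists_spread f hX hgen hinj l hl (b a)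
      (W a) (hbW a (Finset.mem_insert_self a s)) N hlN
    refine ⟨N', hN', hlN', hgood',
      fun t => if t = a then β' else (X.presheaf.map (homOfLE hN'N).op).hom (β t), ?_⟩
    intro t ht
    by_cases hta : t = a
    · subst hta
      simp only [if_pos rfl]
      exact ⟨hβ', hβ'W⟩
    · simp only [if_neg hta]
      have hts := (Finset.mem_insert.mp ht).resolve_left hta
      refine ⟨spreads_res f hN'N _ _ (hβ t hts).1, ?_⟩
      rw [Scheme.basicOpen_res]
      exact inf_le_right.trans (hβ t hts).2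

end Spread

/-- a finite set of points of a quasi-affine scheme lies in an affine open. -/
theorem exists_affineOpen_of_isQuasiAffine (Y : Scheme.{u}) [Y.IsQuasiAffine] (F : Finset Y) :
    ∃ V : Y.Opens, IsAffineOpen V ∧ ∀ y ∈ F, y ∈ V := by
  classical
  obtain ⟨φ, hφ, hφF⟩ := exists_basicOpen_le_of_finite (Y := Spec Γ(Y, ⊤)) ⊤ (isAffineOpen_top _)
    Y.toSpecΓ.opensRange (F.image Y.toSpecΓ) (by
      intro y hy
      obtain ⟨y', -, rfl⟩ := Finset.mem_image.mp hy
      exact ⟨trivial, ⟨y', rfl⟩⟩)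
  refine ⟨Y.toSpecΓ ⁻¹ᵁ ((Spec Γ(Y, ⊤)).basicOpen φ), ?_, ?_⟩
  · exact ((isAffineOpen_top _).basicOpen φ).preimage_of_isOpenImmersion Y.toSpecΓ hφ
  · intro y hy
    exact hφF _ (Finset.mem_image_of_mem _ hy)

/-- the reduced case. -/
theorem exists_affineOpen_of_reduced {T X : Scheme.{u}} [IsReduced T] [IsReduced X] (f : T ⟶ X)
    [IsAffine T] [QuasiSeparatedSpace X] (hX : (irreducibleComponents (X : Type u)).Finite)
    (hgen : ∀ η : T, closure ({η} : Set T) ∈ irreducibleComponents (T : Type u) →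
      closure ({(f η)} : Set X) ∈ irreducibleComponents (X : Type u))
    (hinj : ∀ η η' : T, closure ({η} : Set T) ∈ irreducibleComponents (T : Type u) →
      closure ({η'} : Set T) ∈ irreducibleComponents (T : Type u) → f η = f η' → η = η')
    (s : Finset T) (hs : ∀ t ∈ s, IsIso (f.stalkMap t)) :
    ∃ U : X.Opens, IsAffineOpen U ∧ ∀ t ∈ s, f t ∈ U := by
  classical
  have hW : ∀ t : T, ∃ W : X.Opens, IsAffineOpen W ∧ f t ∈ W := fun t => by
    obtain ⟨_, ⟨W, hW, rfl⟩, htW, -⟩ := X.isBasis_affineOpens.exists_subset_of_mem_open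
      (Set.mem_univ (f t)) isOpen_univ
    exact ⟨W, hW, htW⟩
  choose W hWaff htW using hW
  have hb : ∀ t : T, ∃ b : Γ(T, ⊤), T.basicOpen b ≤ f ⁻¹ᵁ (W t) ∧ t ∈ T.basicOpen b := fun t =>
    (isAffineOpen_top T).exists_basicOpen_le (V := f ⁻¹ᵁ (W t)) ⟨t, htW t⟩ trivial
  choose b hbW htb using hb
  choose N hNaff hlN hgood β hβ using fun l : s =>
    exists_spread_family f hX hgen hinj l.1 (hs l.1 l.2) b W s (fun t _ => hbW t)
  set Ntot : X.Opens := ⨆ l : s, N l with hNtot
  have hNle : ∀ l : s, N l ≤ Ntot := fun l => le_iSup N l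
  -- glue
  have hglue : ∀ t : s, ∃ c : Γ(X, Ntot), ∀ l : s,
      (X.presheaf.map (homOfLE (hNle l)).op).hom c = β l t.1 := by
    intro t
    refine scheme_glue X N Ntot hNle le_rfl (fun l => β l t.1) ?_
    intro l l'
    apply sub_eq_zero.mp
    refine eq_zero_of_pullback f (N l ⊓ N l') ?_ _ ?_
    · intro ξ hξ hξgen
      exact ⟨l.1, hs l.1 l.2, hgood l ξ hξ.1 hξgen⟩
    · rw [map_sub, spreads_res f inf_le_left _ _ (hβ l t.1 t.2).1,
        spreads_res f inf_le_right _ _ (hβ l' t.1 t.2).1, sub_self, Scheme.basicOpen_zero]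
  choose c hc using hglue
  have hcW : ∀ t : s, X.basicOpen (c t) ≤ W t.1 := by
    intro t y hy
    have hyN : y ∈ Ntot := X.basicOpen_le _ hy
    obtain ⟨l, hyl⟩ := Opens.mem_iSup.mp hyN
    have h1 : y ∈ X.basicOpen ((X.presheaf.map (homOfLE (hNle l)).op).hom (c t)) := by
      rw [Scheme.basicOpen_res]; exact ⟨hyl, hy⟩
    rw [hc t l] at h1
    exact (hβ l t.1 t.2).2 h1
  have htc : ∀ t : s, f t.1 ∈ X.basicOpen (c t) := by
    intro t
    have h1 : t.1 ∈ f ⁻¹ᵁ (X.basicOpen (β t t.1)) := by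
      have p1 : f ⁻¹ᵁ (X.basicOpen (β t t.1)) = T.basicOpen ((f.app (N t)).hom (β t t.1)) :=
        Scheme.preimage_basicOpen f _
      rw [p1, (hβ t t.1 t.2).1, basicOpen_resTop]
      exact ⟨hlN t, htb t.1⟩
    have h2 : f t.1 ∈ X.basicOpen (β t t.1) := h1
    rw [← hc t t, Scheme.basicOpen_res] at h2
    exact h2.2
  have ha : ∀ t : s, ∃ a : Γ(X, W t.1), X.basicOpen a ≤ N t ∧ f t.1 ∈ X.basicOpen a := fun t =>
    (hWaff t.1).exists_basicOpen_le (V := N t) ⟨f t.1, hlN t⟩ (htW t.1)
  choose a haN hta using ha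
  have hcpt : IsCompact (Ntot : Set X) := by
    rw [hNtot, Opens.coe_iSup]
    exact isCompact_iUnion (fun l => (hNaff l).isCompact)
  have hqs : IsQuasiSeparated (Ntot : Set X) := isQuasiSeparated_univ.of_subset (Set.subset_univ _)
  have hr : ∀ t : s, ∃ r : Γ(X, Ntot), X.basicOpen r = X.basicOpen (c t) ⊓ X.basicOpen (a t) := by
    intro t
    obtain ⟨n, y, hy⟩ := exists_eq_pow_mul_of_isCompact_of_isQuasiSeparated X Ntot hcpt hqs (c t)
      ((X.presheaf.map (homOfLE (hcW t)).op).hom (a t))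
    refine ⟨y * c t, ?_⟩
    have e1 := congrArg X.basicOpen hy
    simp only [TopCat.Presheaf.restrictOpenCommRingCat_apply] at e1
    have e2 : X.basicOpen ((ConcreteCategory.hom (X.presheaf.map
        (homOfLE (X.basicOpen_le (c t))).op)) (c t) ^ n) = X.basicOpen (c t) := by
      rcases Nat.eq_zero_or_pos n with rfl | hn
      · rw [pow_zero, Scheme.basicOpen_of_isUnit _ isUnit_one]
      · rw [Scheme.basicOpen_pow _ _ hn, Scheme.basicOpen_res, inf_idem]
    rw [Scheme.basicOpen_res, Scheme.basicOpen_mul, e2, Scheme.basicOpen_res] at e1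
    rw [Scheme.basicOpen_mul, inf_comm, e1, ← inf_assoc, inf_idem]
  choose r hr using hr
  have hraff : ∀ t : s, IsAffineOpen (X.basicOpen (r t)) := by
    intro t
    have hD : X.basicOpen (a t) ≤ Ntot := (haN t).trans (hNle t)
    have h1 : X.basicOpen (r t) = X.basicOpen ((X.presheaf.map (homOfLE hD).op).hom (c t)) := by
      rw [hr t, Scheme.basicOpen_res, inf_comm]
    rw [h1]
    exact ((hWaff t.1).basicOpen (a t)).basicOpen _
  have htr : ∀ t : s, f t.1 ∈ X.basicOpen (r t) := fun t => by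
    rw [hr t]; exact ⟨htc t, hta t⟩
  set N' : X.Opens := ⨆ t : s, X.basicOpen (r t) with hN'
  have hrN' : ∀ t : s, X.basicOpen (r t) ≤ N' := fun t =>
    le_iSup (fun t : s => X.basicOpen (r t)) t
  have hN'le : N' ≤ Ntot := iSup_le (fun t => X.basicOpen_le _)
  have hcN' : IsCompact (N' : Set X) := by
    rw [hN', Opens.coe_iSup]
    exact isCompact_iUnion (fun t => (hraff t).isCompact)
  have hcptN' : CompactSpace N'.toScheme := isCompact_iff_compactSpace.mp hcN'
  have hQA : N'.toScheme.IsQuasiAffine := by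
    refine Scheme.IsQuasiAffine.of_forall_exists_mem_basicOpen _ ?_
    intro x
    obtain ⟨t, hxt⟩ := Opens.mem_iSup.mp x.2
    refine ⟨N'.topIso.inv ((X.presheaf.map (homOfLE hN'le).op).hom (r t)), ?_, ?_⟩
    · rw [← N'.ι.isAffineOpen_iff_of_isOpenImmersion, Scheme.Opens.ι_image_basicOpen_topIso_inv,
        Scheme.basicOpen_res, inf_eq_right.mpr (hrN' t)]
      exact hraff t
    · have h1 : x.1 ∈ N'.ι ''ᵁ (N'.toScheme.basicOpen
          (N'.topIso.inv ((X.presheaf.map (homOfLE hN'le).op).hom (r t)))) := by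
        rw [Scheme.Opens.ι_image_basicOpen_topIso_inv, Scheme.basicOpen_res]
        exact ⟨x.2, hxt⟩
      obtain ⟨x', hx', hxx'⟩ := h1
      have h2 : x' = x := Subtype.ext hxx'
      exact h2 ▸ hx'
  let F : Finset N'.toScheme := s.attach.image (fun t => ⟨f t.1, hrN' t (htr t)⟩)
  obtain ⟨V, hV, hFV⟩ := exists_affineOpen_of_isQuasiAffine N'.toScheme F
  refine ⟨N'.ι ''ᵁ V, hV.image_of_isOpenImmersion N'.ι, fun t ht => ?_⟩
  exact ⟨⟨f t, hrN' ⟨t, ht⟩ (htr ⟨t, ht⟩)⟩,
    hFV _ (Finset.mem_image.mpr ⟨⟨t, ht⟩, Finset.mem_attach _ _, rfl⟩), rfl⟩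

section Homeo

variable {A B : Type*} [TopologicalSpace A] [TopologicalSpace B]

theorem image_mem_irreducibleComponents (h : A ≃ₜ B) (S : Set A)
    (hS : S ∈ irreducibleComponents A) : h '' S ∈ irreducibleComponents B := by
  refine ⟨hS.1.image h h.continuous.continuousOn, ?_⟩
  intro S' hS' hle
  have h1 : IsIrreducible (h.symm '' S') := hS'.image h.symm h.symm.continuous.continuousOn
  have h2 : S ≤ h.symm '' S' := by
    intro a ha
    exact ⟨h a, hle ⟨a, ha, rfl⟩, h.symm_apply_apply a⟩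
  have h3 : h.symm '' S' ≤ S := hS.2 h1 h2
  intro b hb
  exact ⟨h.symm b, h3 ⟨b, hb, rfl⟩, h.apply_symm_apply b⟩

theorem closure_singleton_mem_irreducibleComponents_iff (h : A ≃ₜ B) (a : A) :
    closure ({h a} : Set B) ∈ irreducibleComponents B ↔
      closure ({a} : Set A) ∈ irreducibleComponents A := by
  have e : h '' closure ({a} : Set A) = closure ({h a} : Set B) := by
    rw [h.image_closure, Set.image_singleton]
  constructor
  · intro hB
    have := image_mem_irreducibleComponents h.symm _ hB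
    rw [← e, ← Set.image_comp] at this
    simpa using this
  · intro hA
    rw [← e]
    exact image_mem_irreducibleComponents h _ hA

end Homeo

section Red

theorem isReduced_red (X : Scheme.{u}) : IsReduced X.nilradical.subscheme := by
  have : ∀ U, IsReduced (X.nilradical.subschemeCover.openCover.X U) := by
    intro U
    change IsReduced (Spec (.of <| Γ(X, U.1) ⧸ X.nilradical.ideal U))
    have : _root_.IsReduced (Γ(X, U.1) ⧸ X.nilradical.ideal U) := by
      rw [← Ideal.isRadical_iff_quotient_reduced]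
      exact Ideal.radical_isRadical _
    infer_instance
  exact IsReduced.of_openCover _ X.nilradical.subschemeCover.openCover

theorem redι_surjective (X : Scheme.{u}) : Function.Surjective X.nilradical.subschemeι := by
  intro x
  have : x ∈ Set.range X.nilradical.subschemeι := by
    rw [Scheme.IdealSheafData.range_subschemeι, Scheme.support_nilradical]; trivial
  exact this

/-- the kernel of the stalk map of a closed immersion with nilpotent kernels consists of
nilpotents. -/
theorem isNilpotent_of_stalkMap_eq_zero {Y X : Scheme.{u}} (ι : Y ⟶ X) [IsClosedImmersion ι]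
    (hker : ∀ (U : X.Opens), IsAffineOpen U → ∀ σ : Γ(X, U), (ι.app U).hom σ = 0 → IsNilpotent σ)
    (x : Y) (a : X.presheaf.stalk (ι x)) (ha : (ι.stalkMap x).hom a = 0) : IsNilpotent a := by
  obtain ⟨U, hxU, σ, hσ⟩ := X.presheaf.exists_germ_eq a
  have h1 : (ι.stalkMap x).hom (X.presheaf.germ U (ι x) hxU σ) =
      Y.presheaf.germ (ι ⁻¹ᵁ U) x hxU ((ι.app U).hom σ) :=
    Scheme.Hom.germ_stalkMap_apply ι U x hxU σ
  rw [← hσ] at ha ⊢
  rw [h1] at ha
  have h2 : Y.presheaf.germ (ι ⁻¹ᵁ U) x hxU ((ι.app U).hom σ) =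
      Y.presheaf.germ (ι ⁻¹ᵁ U) x hxU 0 := by
    rw [ha, map_zero]
  obtain ⟨V, hxV, iU, iV, hV⟩ := Y.presheaf.germ_eq x hxU hxU _ _ h2
  obtain ⟨U', hU'open, hU'V⟩ := ι.isClosedEmbedding.isEmbedding.isInducing.isOpen_iff.mp V.isOpen
  have hxU' : ι x ∈ U' := by
    have : x ∈ ι ⁻¹' U' := hU'V ▸ hxV
    exact this
  obtain ⟨_, ⟨U₃, hU₃, rfl⟩, hxU₃, hU₃le⟩ := X.isBasis_affineOpens.exists_subset_of_mem_open
    (show ι x ∈ (U : Set X) ∩ U' from ⟨hxU, hxU'⟩) (U.isOpen.inter hU'open)
  have hU₃U : U₃ ≤ U := fun y hy => (hU₃le hy).1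
  have hU₃V : ι ⁻¹ᵁ U₃ ≤ V := by
    intro y hy
    have : y ∈ ι ⁻¹' U' := (hU₃le hy).2
    rw [hU'V] at this
    exact this
  have h3 : (ι.app U₃).hom ((X.presheaf.map (homOfLE hU₃U).op).hom σ) = 0 := by
    rw [app_res ι hU₃U σ]
    have h4 : (Y.presheaf.map iU.op).hom ((ι.app U).hom σ) = 0 := by
      have : (Y.presheaf.map iU.op) ((ι.app U).hom σ) = (Y.presheaf.map iV.op) 0 := hV
      rw [map_zero] at this
      exact this
    have h5 := congrArg (Y.presheaf.map (homOfLE hU₃V).op).hom h4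
    rw [map_zero] at h5
    rw [← h5]
    change _ = (Y.presheaf.map iU.op ≫ Y.presheaf.map (homOfLE hU₃V).op).hom _
    rw [← Functor.map_comp]
    rfl
  have h8 : IsNilpotent ((X.presheaf.map (homOfLE hU₃U).op).hom σ) := hker U₃ hU₃ _ h3
  have h9 : X.presheaf.germ U₃ (ι x) hxU₃ ((X.presheaf.map (homOfLE hU₃U).op).hom σ) =
      X.presheaf.germ U (ι x) hxU σ := X.presheaf.germ_res_apply _ (ι x) hxU₃ σ
  rw [← h9]
  exact h8.map _

theorem isNilpotent_of_stalkMap_red_eq_zero (X : Scheme.{u}) (x : X.nilradical.subscheme)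
    (a : X.presheaf.stalk (X.nilradical.subschemeι x))
    (ha : (X.nilradical.subschemeι.stalkMap x).hom a = 0) : IsNilpotent a := by
  refine isNilpotent_of_stalkMap_eq_zero X.nilradical.subschemeι ?_ x a ha
  intro U hU σ hσ
  have h6 : σ ∈ RingHom.ker (X.nilradical.subschemeι.app U).hom := RingHom.mem_ker.mpr hσ
  rw [X.nilradical.ker_subschemeι_app ⟨U, hU⟩] at h6
  have h7 : σ ∈ (⊥ : Ideal Γ(X, U)).radical := h6
  exact mem_nilradical.1 h7

/-- the stalk map of the reduction of a morphism is an isomorphism if the original one is. -/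
theorem isIso_stalkMap_red {T X : Scheme.{u}} (f : T ⟶ X)
    (f' : T.nilradical.subscheme ⟶ X.nilradical.subscheme)
    (hf' : f' ≫ X.nilradical.subschemeι = T.nilradical.subschemeι ≫ f)
    (t' : T.nilradical.subscheme) (ht : IsIso (f.stalkMap (T.nilradical.subschemeι t'))) :
    IsIso (f'.stalkMap t') := by
  have hXred := isReduced_red X
  set ιT := T.nilradical.subschemeι with hιT
  set ιX := X.nilradical.subschemeι with hιX
  have e := Scheme.Hom.stalkMap_congr_hom (f' ≫ ιX) (ιT ≫ f) hf' t'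
  rw [Scheme.Hom.stalkMap_comp, Scheme.Hom.stalkMap_comp] at e
  have hpt : ιX (f' t') = f (ιT t') := by
    rw [← Scheme.Hom.comp_apply, hf', Scheme.Hom.comp_apply]
  set sc : X.presheaf.stalk (ιX (f' t')) ⟶ X.presheaf.stalk (f (ιT t')) :=
    (X.presheaf.stalkCongr (.of_eq hpt)).hom with hsc
  have e' : ιX.stalkMap (f' t') ≫ f'.stalkMap t' =
      sc ≫ f.stalkMap (ιT t') ≫ ιT.stalkMap t' := e
  have key : ∀ a, (f'.stalkMap t').hom ((ιX.stalkMap (f' t')).hom a) =
      (ιT.stalkMap t').hom ((f.stalkMap (ιT t')).hom (sc.hom a)) := by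
    intro a
    exact congrArg (fun φ => φ.hom a) e'
  have hscbij : Function.Bijective sc.hom := ConcreteCategory.bijective_of_isIso sc
  have hfbij : Function.Bijective (f.stalkMap (ιT t')).hom := ConcreteCategory.bijective_of_isIso _
  have hιXsurj : Function.Surjective (ιX.stalkMap (f' t')).hom := ιX.stalkMap_surjective (f' t')
  have hιTsurj : Function.Surjective (ιT.stalkMap t').hom := ιT.stalkMap_surjective t'
  rw [ConcreteCategory.isIso_iff_bijective]
  constructor
  · rw [injective_iff_map_eq_zero]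
    intro z hz
    obtain ⟨a, rfl⟩ := hιXsurj z
    have h1 : (ιT.stalkMap t').hom ((f.stalkMap (ιT t')).hom (sc.hom a)) = 0 := by
      rw [← key]; exact hz
    obtain ⟨n, hn⟩ := isNilpotent_of_stalkMap_red_eq_zero T t' _ h1
    have h2 : a ^ n = 0 := by
      apply hscbij.1
      apply hfbij.1
      rw [map_pow, map_pow, hn, map_zero, map_zero]
    have h3 : IsNilpotent ((ιX.stalkMap (f' t')).hom a) := ⟨n, by rw [← map_pow, h2, map_zero]⟩
    exact h3.eq_zero
  · intro z
    obtain ⟨w, rfl⟩ := hιTsurj z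
    obtain ⟨v, rfl⟩ := hfbij.2 w
    obtain ⟨a, rfl⟩ := hscbij.2 v
    exact ⟨(ιX.stalkMap (f' t')).hom a, key a⟩

end Red

/-- **Main theorem**: a finite set of points of a quasi-separated scheme with finitely many
irreducible components whose local rings are those of points of an affine scheme mapping to it
(injectively on generic points) lies in an affine open. -/
theorem exists_affineOpen_of_stalk_iso {T X : Scheme.{u}} (f : T ⟶ X)
    [IsAffine T] [QuasiSeparatedSpace X] (hX : (irreducibleComponents (X : Type u)).Finite)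
    (hgen : ∀ η : T, closure ({η} : Set T) ∈ irreducibleComponents (T : Type u) →
      closure ({(f η)} : Set X) ∈ irreducibleComponents (X : Type u))
    (hinj : ∀ η η' : T, closure ({η} : Set T) ∈ irreducibleComponents (T : Type u) →
      closure ({η'} : Set T) ∈ irreducibleComponents (T : Type u) → f η = f η' → η = η')
    (s : Finset T) (hs : ∀ t ∈ s, IsIso (f.stalkMap t)) :
    ∃ U : X.Opens, IsAffineOpen U ∧ ∀ t ∈ s, f t ∈ U := by
  classical
  have hTred := isReduced_red T
  have hXred := isReduced_red X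
  have hTaff : IsAffine T.nilradical.subscheme :=
    (IsClosedImmersion.isAffine_surjective_of_isAffine T.nilradical.subschemeι).1
  -- the induced morphism of reductions
  have hker : X.nilradical.subschemeι.ker ≤ (T.nilradical.subschemeι ≫ f).ker := by
    rw [Scheme.IdealSheafData.ker_subschemeι, Scheme.IdealSheafData.le_def]
    intro U x hx
    rw [Scheme.Hom.ker_apply, RingHom.mem_ker]
    have h7 : x ∈ (⊥ : Ideal Γ(X, U.1)).radical := hx
    have h8 : IsNilpotent x := mem_nilradical.1 h7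
    exact (h8.map ((T.nilradical.subschemeι ≫ f).app U.1).hom).eq_zero
  let f' : T.nilradical.subscheme ⟶ X.nilradical.subscheme :=
    IsClosedImmersion.lift X.nilradical.subschemeι (T.nilradical.subschemeι ≫ f) hker
  have hf' : f' ≫ X.nilradical.subschemeι = T.nilradical.subschemeι ≫ f :=
    IsClosedImmersion.lift_fac _ _ _
  have hpt : ∀ t', X.nilradical.subschemeι (f' t') = f (T.nilradical.subschemeι t') := fun t' => by
    rw [← Scheme.Hom.comp_apply, hf', Scheme.Hom.comp_apply]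
  let hT : T.nilradical.subscheme ≃ₜ T :=
    T.nilradical.subschemeι.isClosedEmbedding.isEmbedding.toHomeomorphOfSurjective
      (redι_surjective T)
  let hXh : X.nilradical.subscheme ≃ₜ X :=
    X.nilradical.subschemeι.isClosedEmbedding.isEmbedding.toHomeomorphOfSurjective
      (redι_surjective X)
  have hTapp : ∀ t', hT t' = T.nilradical.subschemeι t' := fun _ => rfl
  have hXapp : ∀ x', hXh x' = X.nilradical.subschemeι x' := fun _ => rfl
  have hqs : QuasiSeparatedSpace X.nilradical.subscheme :=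
    QuasiSeparatedSpace.of_isOpenEmbedding hXh.isOpenEmbedding
  have hXfin : (irreducibleComponents (X.nilradical.subscheme : Type u)).Finite := by
    apply Set.Finite.of_finite_image (f := fun S => hXh '' S)
    · exact hX.subset (by
        rintro _ ⟨S, hS, rfl⟩
        exact image_mem_irreducibleComponents hXh S hS)
    · intro S _ S' _ hSS'
      exact hXh.injective.image_injective hSS'
  have hgen' : ∀ η : T.nilradical.subscheme,
      closure ({η} : Set T.nilradical.subscheme) ∈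
        irreducibleComponents (T.nilradical.subscheme : Type u) →
      closure ({(f' η)} : Set X.nilradical.subscheme) ∈
        irreducibleComponents (X.nilradical.subscheme : Type u) := by
    intro η hη
    rw [← closure_singleton_mem_irreducibleComponents_iff hXh, hXapp, hpt, ← hTapp]
    apply hgen
    rw [closure_singleton_mem_irreducibleComponents_iff hT]
    exact hη
  have hinj' : ∀ η η' : T.nilradical.subscheme,
      closure ({η} : Set T.nilradical.subscheme) ∈
        irreducibleComponents (T.nilradical.subscheme : Type u) →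
      closure ({η'} : Set T.nilradical.subscheme) ∈
        irreducibleComponents (T.nilradical.subscheme : Type u) → f' η = f' η' → η = η' := by
    intro η η' hη hη' hηη'
    apply hT.injective
    apply hinj (hT η) (hT η')
    · rw [closure_singleton_mem_irreducibleComponents_iff hT]; exact hη
    · rw [closure_singleton_mem_irreducibleComponents_iff hT]; exact hη'
    · rw [hTapp, hTapp, ← hpt, ← hpt, hηη']
  let s' : Finset T.nilradical.subscheme := s.preimage hT hT.injective.injOn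
  have hs' : ∀ t' ∈ s', IsIso (f'.stalkMap t') := by
    intro t' ht'
    exact isIso_stalkMap_red f f' hf' t' (hs _ (Finset.mem_preimage.mp ht'))
  obtain ⟨U', hU'aff, hU'⟩ := exists_affineOpen_of_reduced f' hXfin hgen' hinj' s' hs'
  let U : X.Opens := ⟨hXh '' (U' : Set X.nilradical.subscheme), hXh.isOpenMap _ U'.isOpen⟩
  have hpre : X.nilradical.subschemeι ⁻¹ᵁ U = U' := by
    ext x'
    constructor
    · rintro ⟨y', hy', hyx⟩
      exact (hXh.injective hyx) ▸ hy'
    · intro hx'
      exact ⟨x', hx', rfl⟩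
  refine ⟨U, isAffineOpen_of_thickening X.nilradical.subschemeι (redι_surjective X) U
    (hpre ▸ hU'aff), ?_⟩
  intro t ht
  obtain ⟨t', rfl⟩ := hT.surjective t
  have ht's' : t' ∈ s' := Finset.mem_preimage.mpr ht
  refine ⟨f' t', hU' t' ht's', ?_⟩
  rw [hXapp, hpt, ← hTapp]

end Groth.Agent.Lib.Helper39.SpreadAff
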