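import Groth.Agent.Lib.Helper39.SpreadAff
import Groth.Agent.Lib.Helper39.DimOneGlueFamily
import Groth.Agent.Lib.Helper39.DimOneDVR

/-!
# Finitely many codimension-one points of a separated scheme lie in an affine open (helper39)

`exists_affineOpen_of_separated`: on a separated scheme whose quasi-compact opens have finitely many
irreducible components, a finite set of points with Noetherian local rings of dimension at most one
lies in an affine open.

Integral case: the local rings `A i` at the (non-generic) points generate the function field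
pairwise (separatedness + a valuation ring argument), which gives a partition of unity
`f i ∈ (A i)ˣ ∩ ⋂_{j ≠ i} rad (A j)` (`DimOneGlueFamily`); the `f i` spread out to sections near the
points and the quasi-affine criterion of `SpreadAff` (local sections form) applies.  General case:
reduce to quasi-compact, then to irreducible components (`ThickAff.FinitePoints`).
-/

set_option autoImplicit false
universe u v
open AlgebraicGeometry CategoryTheory TopologicalSpace Opposite
open Groth.Agent.Lib.Helper39.ThickAff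

namespace Groth.Agent.Lib.Helper39.SpreadAff

/-- **local sections criterion**: points `x t` with affine neighbourhoods `N t`, `W t` and sections
`β l t` on `N l` glueing (for fixed `t`) to a section whose non-vanishing locus lies in `W t` and
contains `x t`: then the points lie in a common affine open. -/
theorem exists_affineOpen_of_local_sections (X : Scheme.{u}) [QuasiSeparatedSpace X] {ι : Type*}
    [Finite ι] (x : ι → X) (W : ι → X.Opens) (hWaff : ∀ t, IsAffineOpen (W t))
    (htW : ∀ t, x t ∈ W t)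
    (N : ι → X.Opens) (hNaff : ∀ l, IsAffineOpen (N l)) (hlN : ∀ l, x l ∈ N l)
    (β : ∀ l, ι → Γ(X, N l))
    (hG : ∀ t l l', (X.presheaf.map (homOfLE (inf_le_left : N l ⊓ N l' ≤ N l)).op).hom (β l t) =
        (X.presheaf.map (homOfLE (inf_le_right : N l ⊓ N l' ≤ N l')).op).hom (β l' t))
    (hβW : ∀ l t, X.basicOpen (β l t) ≤ W t) (hP : ∀ t, x t ∈ X.basicOpen (β t t)) :
    ∃ U : X.Opens, IsAffineOpen U ∧ ∀ t, x t ∈ U := by
  classical
  have := Fintype.ofFinite ι
  set Ntot : X.Opens := ⨆ l : ι, N l with hNtot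
  have hNle : ∀ l : ι, N l ≤ Ntot := fun l => le_iSup N l
  have hglue : ∀ t : ι, ∃ c : Γ(X, Ntot), ∀ l : ι,
      (X.presheaf.map (homOfLE (hNle l)).op).hom c = β l t := by
    intro t
    exact scheme_glue X N Ntot hNle le_rfl (fun l => β l t) (fun l l' => hG t l l')
  choose c hc using hglue
  have hcW : ∀ t : ι, X.basicOpen (c t) ≤ W t := by
    intro t y hy
    have hyN : y ∈ Ntot := X.basicOpen_le _ hy
    obtain ⟨l, hyl⟩ := Opens.mem_iSup.mp hyN
    have h1 : y ∈ X.basicOpen ((X.presheaf.map (homOfLE (hNle l)).op).hom (c t)) := by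
      rw [Scheme.basicOpen_res]; exact ⟨hyl, hy⟩
    rw [hc t l] at h1
    exact hβW l t h1
  have htc : ∀ t : ι, x t ∈ X.basicOpen (c t) := by
    intro t
    have h2 : x t ∈ X.basicOpen (β t t) := hP t
    rw [← hc t t, Scheme.basicOpen_res] at h2
    exact h2.2
  have ha : ∀ t : ι, ∃ a : Γ(X, W t), X.basicOpen a ≤ N t ∧ x t ∈ X.basicOpen a := fun t =>
    (hWaff t).exists_basicOpen_le (V := N t) ⟨x t, hlN t⟩ (htW t)
  choose a haN hta using ha
  have hcpt : IsCompact (Ntot : Set X) := by
    rw [hNtot, Opens.coe_iSup]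
    exact isCompact_iUnion (fun l => (hNaff l).isCompact)
  have hqs : IsQuasiSeparated (Ntot : Set X) := isQuasiSeparated_univ.of_subset (Set.subset_univ _)
  have hr : ∀ t : ι, ∃ r : Γ(X, Ntot), X.basicOpen r = X.basicOpen (c t) ⊓ X.basicOpen (a t) := by
    intro t
    obtain ⟨n, y, hy⟩ := exists_eq_pow_mul_of_isCompact_of_isQuasiSeparated X Ntot hcpt hqs (c t)
      ((X.presheaf.map (homOfLE (hcW t)).op).hom (a t))
    refine ⟨y * c t, ?_⟩
    have e1 := congrArg X.basicOpen hy
    simp only [TopCat.Presheaf.restrictOpenCommRingCat_apply] at e1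
    have e2 : X.basicOpen ((ConcreteCategory.hom (X.presheaf.map
        (homOfLE (X.basicOpen_le (c t))).op)) (c t) ^ n) = X.basicOpen (c t) := by
      rcases Nat.eq_zero_or_pos n with rfl | hn
      · rw [pow_zero, Scheme.basicOpen_of_isUnit _ isUnit_one]
      · rw [Scheme.basicOpen_pow _ _ hn, Scheme.basicOpen_res, inf_idem]
    rw [Scheme.basicOpen_res, Scheme.basicOpen_mul, e2, Scheme.basicOpen_res] at e1
    rw [Scheme.basicOpen_mul, inf_comm, e1, ← inf_assoc, inf_idem]
  choose r hr using hr
  have hraff : ∀ t : ι, IsAffineOpen (X.basicOpen (r t)) := by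
    intro t
    have hD : X.basicOpen (a t) ≤ Ntot := (haN t).trans (hNle t)
    have h1 : X.basicOpen (r t) = X.basicOpen ((X.presheaf.map (homOfLE hD).op).hom (c t)) := by
      rw [hr t, Scheme.basicOpen_res, inf_comm]
    rw [h1]
    exact ((hWaff t).basicOpen (a t)).basicOpen _
  have htr : ∀ t : ι, x t ∈ X.basicOpen (r t) := fun t => by
    rw [hr t]; exact ⟨htc t, hta t⟩
  set N' : X.Opens := ⨆ t : ι, X.basicOpen (r t) with hN'
  have hrN' : ∀ t : ι, X.basicOpen (r t) ≤ N' := fun t =>
    le_iSup (fun t : ι => X.basicOpen (r t)) t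
  have hN'le : N' ≤ Ntot := iSup_le (fun t => X.basicOpen_le _)
  have hcN' : IsCompact (N' : Set X) := by
    rw [hN', Opens.coe_iSup]
    exact isCompact_iUnion (fun t => (hraff t).isCompact)
  have hcptN' : CompactSpace N'.toScheme := isCompact_iff_compactSpace.mp hcN'
  have hQA : N'.toScheme.IsQuasiAffine := by
    refine Scheme.IsQuasiAffine.of_forall_exists_mem_basicOpen _ ?_
    intro z
    obtain ⟨t, hxt⟩ := Opens.mem_iSup.mp z.2
    refine ⟨N'.topIso.inv ((X.presheaf.map (homOfLE hN'le).op).hom (r t)), ?_, ?_⟩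
    · rw [← N'.ι.isAffineOpen_iff_of_isOpenImmersion, Scheme.Opens.ι_image_basicOpen_topIso_inv,
        Scheme.basicOpen_res, inf_eq_right.mpr (hrN' t)]
      exact hraff t
    · have h1 : z.1 ∈ N'.ι ''ᵁ (N'.toScheme.basicOpen
          (N'.topIso.inv ((X.presheaf.map (homOfLE hN'le).op).hom (r t)))) := by
        rw [Scheme.Opens.ι_image_basicOpen_topIso_inv, Scheme.basicOpen_res]
        exact ⟨z.2, hxt⟩
      obtain ⟨z', hz', hzz'⟩ := h1
      have h2 : z' = z := Subtype.ext hzz'
      exact h2 ▸ hz'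
  let F : Finset N'.toScheme := Finset.univ.image (fun t : ι => ⟨x t, hrN' t (htr t)⟩)
  obtain ⟨V, hV, hFV⟩ := exists_affineOpen_of_isQuasiAffine N'.toScheme F
  refine ⟨N'.ι ''ᵁ V, hV.image_of_isOpenImmersion N'.ι, fun t => ?_⟩
  exact ⟨⟨x t, hrN' t (htr t)⟩,
    hFV _ (Finset.mem_image.mpr ⟨t, Finset.mem_univ _, rfl⟩), rfl⟩

theorem ringKrullDim_eq_one_of_le {R : Type*} [CommRing R] [IsDomain R]
    (hle : ringKrullDim R ≤ 1) (hnf : ¬ IsField R) : ringKrullDim R = 1 := by
  apply le_antisymm hle
  by_contra h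
  have h1 : ringKrullDim R < 1 := not_le.mp h
  have h0 : ringKrullDim R ≤ 0 := by
    by_cases hbot : ringKrullDim R = ⊥
    · rw [hbot]; exact bot_le
    · obtain ⟨n, hn⟩ := WithBot.ne_bot_iff_exists.mp hbot
      rw [← hn] at h1 ⊢
      have h2 : n < 1 := by exact_mod_cast h1
      have h3 : n = 0 := Order.lt_one_iff.mp h2
      rw [h3]; rfl
  have : Ring.KrullDimLE 0 R := Ring.krullDimLE_iff.mpr h0
  exact hnf Ring.KrullDimLE.isField_of_isDomain

section Integral

variable {X : Scheme.{u}} [IsIntegral X]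

theorem genericPoint_mem_of_mem {N : X.Opens} {x : X} (hx : x ∈ N) : genericPoint X ∈ N :=
  (genericPoint_specializes x).mem_open N.isOpen hx

theorem fromSpecStalk_bot (x : X) :
    X.fromSpecStalk x ⟨⊥, Ideal.isPrime_bot⟩ = genericPoint X := by
  have hη : genericPoint X ⤳ x := genericPoint_specializes x
  have h1 : genericPoint X ∈ Set.range (X.fromSpecStalk x) := by
    rw [Scheme.range_fromSpecStalk]; exact hη
  obtain ⟨q, hq⟩ := h1
  have h2 : (⟨⊥, Ideal.isPrime_bot⟩ : PrimeSpectrum (X.presheaf.stalk x)) ⤳ q :=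
    (PrimeSpectrum.le_iff_specializes _ _).mp bot_le
  have h3 : X.fromSpecStalk x ⟨⊥, Ideal.isPrime_bot⟩ ⤳ genericPoint X :=
    hq ▸ h2.map (X.fromSpecStalk x).continuous
  exact (h3.antisymm (genericPoint_specializes _)).eq

theorem eq_or_eq_genericPoint_of_specializes (x : X)
    (hdim : ringKrullDim (X.presheaf.stalk x) ≤ 1) (y : X) (hy : y ⤳ x) :
    y = x ∨ y = genericPoint X := by
  have : Ring.KrullDimLE 1 (X.presheaf.stalk x) := Ring.krullDimLE_iff.mpr hdim
  have hy' : y ∈ Set.range (X.fromSpecStalk x) := by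
    rw [Scheme.range_fromSpecStalk]; exact hy
  obtain ⟨p, rfl⟩ := hy'
  by_cases hp : p.asIdeal = ⊥
  · right
    have : p = ⟨⊥, Ideal.isPrime_bot⟩ := PrimeSpectrum.ext hp
    rw [this]; exact fromSpecStalk_bot x
  · left
    have hmax : p.asIdeal.IsMaximal := p.2.isMaximal_of_ne_bot hp
    have : p = IsLocalRing.closedPoint _ := by
      apply PrimeSpectrum.ext
      exact IsLocalRing.eq_maximalIdeal hmax
    rw [this]; exact Scheme.fromSpecStalk_closedPoint

/-- the image of the local ring at `x` in the function field. -/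
noncomputable def stalkSubring (x : X) : Subring X.functionField :=
  (algebraMap (X.presheaf.stalk x) X.functionField).range

/-- the local ring at `x` is isomorphic to its image. -/
noncomputable def stalkEquiv (x : X) : X.presheaf.stalk x ≃+* stalkSubring x :=
  RingEquiv.ofBijective (algebraMap (X.presheaf.stalk x) X.functionField).rangeRestrict
    ⟨fun a b h => IsFractionRing.injective (X.presheaf.stalk x) X.functionField
        (congrArg Subtype.val h),
      RingHom.rangeRestrict_surjective _⟩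

theorem coe_stalkEquiv (x : X) (a : X.presheaf.stalk x) :
    ((stalkEquiv x a : stalkSubring x) : X.functionField) =
      algebraMap (X.presheaf.stalk x) X.functionField a := rfl

instance (x : X) : IsFractionRing (stalkSubring x) X.functionField := by
  apply IsFractionRing.of_field
  intro z
  obtain ⟨a, b, -, rfl⟩ := IsFractionRing.div_surjective (A := X.presheaf.stalk x) z
  exact ⟨stalkEquiv x a, stalkEquiv x b, rfl⟩

theorem isNoetherianRing_stalkSubring (x : X) (h : IsNoetherianRing (X.presheaf.stalk x)) :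
    IsNoetherianRing (stalkSubring x) :=
  isNoetherianRing_of_ringEquiv _ (stalkEquiv x)

instance (x : X) : IsLocalRing (stalkSubring x) := (stalkEquiv x).isLocalRing

theorem finite_maximalSpectrum_stalkSubring (x : X) :
    Finite (MaximalSpectrum (stalkSubring x)) := by
  have : Subsingleton (MaximalSpectrum (stalkSubring x)) := by
    constructor
    intro a b
    apply MaximalSpectrum.ext
    rw [IsLocalRing.eq_maximalIdeal a.2, IsLocalRing.eq_maximalIdeal b.2]
  infer_instance

/-- a point whose local ring is a field is the generic point. -/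
theorem eq_genericPoint_of_isField (x : X) (h : IsField (X.presheaf.stalk x)) :
    x = genericPoint X := by
  have h1 : IsLocalRing.maximalIdeal (X.presheaf.stalk x) = ⊥ :=
    IsLocalRing.isField_iff_maximalIdeal_eq.mp h
  have h2 : IsLocalRing.closedPoint (X.presheaf.stalk x) = ⟨⊥, Ideal.isPrime_bot⟩ :=
    PrimeSpectrum.ext h1
  rw [← fromSpecStalk_bot x, ← h2, Scheme.fromSpecStalk_closedPoint]

theorem ringKrullDim_stalkSubring (x : X) (hx : x ≠ genericPoint X)
    (hdim : ringKrullDim (X.presheaf.stalk x) ≤ 1) : ringKrullDim (stalkSubring x) = 1 := by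
  rw [← ringKrullDim_eq_of_ringEquiv (stalkEquiv x)]
  exact ringKrullDim_eq_one_of_le hdim (fun h => hx (eq_genericPoint_of_isField x h))

/-- spreading out an element of the image of the local ring. -/
theorem exists_section_of_mem_stalkSubring (x : X) (b : X.functionField)
    (hb : b ∈ stalkSubring x) (O : X.Opens) (hxO : x ∈ O) :
    ∃ (N : X.Opens) (_ : IsAffineOpen N) (hxN : x ∈ N) (_ : N ≤ O) (β : Γ(X, N)),
      X.presheaf.germ N (genericPoint X) (genericPoint_mem_of_mem hxN) β = b ∧
      algebraMap (X.presheaf.stalk x) X.functionField (X.presheaf.germ N x hxN β) = b := by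
  obtain ⟨a, rfl⟩ := hb
  obtain ⟨N₀, hxN₀, β₀, rfl⟩ := X.presheaf.exists_germ_eq a
  obtain ⟨_, ⟨N, hN, rfl⟩, hxN, hNle⟩ := X.isBasis_affineOpens.exists_subset_of_mem_open
    (show x ∈ ((N₀ ⊓ O : X.Opens) : Set X) from ⟨hxN₀, hxO⟩) (N₀ ⊓ O).isOpen
  have hNN₀ : N ≤ N₀ := fun y hy => (hNle hy).1
  have : Nonempty N₀ := ⟨⟨x, hxN₀⟩⟩
  refine ⟨N, hN, hxN, fun y hy => (hNle hy).2, (X.presheaf.map (homOfLE hNN₀).op).hom β₀, ?_, ?_⟩
  · have e1 : X.presheaf.germ N (genericPoint X) (genericPoint_mem_of_mem hxN)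
        ((X.presheaf.map (homOfLE hNN₀).op).hom β₀) =
        X.presheaf.germ N₀ (genericPoint X) (genericPoint_mem_of_mem hxN₀) β₀ :=
      X.presheaf.germ_res_apply _ _ _ β₀
    rw [e1]
    exact (Scheme.algebraMap_germ_eq_germToFunctionField X hxN₀ β₀).symm
  · have e1 : X.presheaf.germ N x hxN ((X.presheaf.map (homOfLE hNN₀).op).hom β₀) =
        X.presheaf.germ N₀ x hxN₀ β₀ := X.presheaf.germ_res_apply _ _ _ β₀
    rw [e1]

/-- sections with the same image in the function field agree on overlaps. -/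
theorem res_eq_of_germ_eq {N N' : X.Opens} (β : Γ(X, N)) (β' : Γ(X, N'))
    (hη : genericPoint X ∈ N) (hη' : genericPoint X ∈ N')
    (h : X.presheaf.germ N _ hη β = X.presheaf.germ N' _ hη' β') :
    (X.presheaf.map (homOfLE (inf_le_left : N ⊓ N' ≤ N)).op).hom β =
      (X.presheaf.map (homOfLE (inf_le_right : N ⊓ N' ≤ N')).op).hom β' := by
  apply germ_injective_of_isIntegral X (genericPoint X) (⟨hη, hη'⟩ : genericPoint X ∈ N ⊓ N')
  have e1 : X.presheaf.germ (N ⊓ N') (genericPoint X) ⟨hη, hη'⟩
      ((X.presheaf.map (homOfLE (inf_le_left : N ⊓ N' ≤ N)).op).hom β) =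
      X.presheaf.germ N _ hη β := X.presheaf.germ_res_apply _ _ _ β
  have e2 : X.presheaf.germ (N ⊓ N') (genericPoint X) ⟨hη, hη'⟩
      ((X.presheaf.map (homOfLE (inf_le_right : N ⊓ N' ≤ N')).op).hom β') =
      X.presheaf.germ N' _ hη' β' := X.presheaf.germ_res_apply _ _ _ β'
  exact e1.trans (h.trans e2.symm)

/-- spreading with control of the non-vanishing locus. -/
theorem exists_section_basicOpen_le (x : X) (hdim : ringKrullDim (X.presheaf.stalk x) ≤ 1)
    (b : X.functionField) (hb : b ∈ stalkSubring x) (W : X.Opens) (hW : (W : Set X).Nonempty)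
    (hbW : IsUnit (⟨b, hb⟩ : stalkSubring x) → x ∈ W) (O : X.Opens) (hxO : x ∈ O) :
    ∃ (N : X.Opens) (_ : IsAffineOpen N) (hxN : x ∈ N) (_ : N ≤ O) (β : Γ(X, N)),
      X.presheaf.germ N (genericPoint X) (genericPoint_mem_of_mem hxN) β = b ∧
        X.basicOpen β ≤ W := by
  obtain ⟨N₁, hN₁, hxN₁, hN₁O, β₁, hβ₁η, hβ₁x⟩ := exists_section_of_mem_stalkSubring x b hb O hxO
  obtain ⟨s, hxs, hsW⟩ := exists_basicOpen_inf_le N₁ hN₁ x hxN₁ W β₁ (by
    intro y hy hyβ
    rcases eq_or_eq_genericPoint_of_specializes x hdim y hy with rfl | rfl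
    · apply hbW
      have h1 : IsUnit (X.presheaf.germ N₁ y hxN₁ β₁) := (Scheme.mem_basicOpen X β₁ y hxN₁).mp hyβ
      have h2 : stalkEquiv y (X.presheaf.germ N₁ y hxN₁ β₁) = ⟨b, hb⟩ := Subtype.ext hβ₁x
      rw [← h2]
      exact h1.map (stalkEquiv y)
    · obtain ⟨w, hw⟩ := hW
      exact genericPoint_mem_of_mem hw)
  have hsN₁ : X.basicOpen s ≤ N₁ := X.basicOpen_le s
  refine ⟨X.basicOpen s, hN₁.basicOpen s, hxs, hsN₁.trans hN₁O,
    (X.presheaf.map (homOfLE hsN₁).op).hom β₁, ?_, ?_⟩
  · have e1 : X.presheaf.germ (X.basicOpen s) (genericPoint X) (genericPoint_mem_of_mem hxs)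
        ((X.presheaf.map (homOfLE hsN₁).op).hom β₁) =
        X.presheaf.germ N₁ (genericPoint X) (genericPoint_mem_of_mem hxN₁) β₁ :=
      X.presheaf.germ_res_apply _ _ _ β₁
    rw [e1, hβ₁η]
  · rw [Scheme.basicOpen_res]
    exact hsW

/-- spreading a finite family with control of the non-vanishing loci. -/
theorem exists_section_family (x : X) (hdim : ringKrullDim (X.presheaf.stalk x) ≤ 1)
    {ι : Type*} (b : ι → X.functionField) (hb : ∀ t, b t ∈ stalkSubring x)
    (W : ι → X.Opens) (hWne : ∀ t, (W t : Set X).Nonempty)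
    (hbW : ∀ t, IsUnit (⟨b t, hb t⟩ : stalkSubring x) → x ∈ W t) (S : Finset ι) :
    ∃ (N : X.Opens) (_ : IsAffineOpen N) (hxN : x ∈ N) (β : ι → Γ(X, N)),
      ∀ t ∈ S, X.presheaf.germ N (genericPoint X) (genericPoint_mem_of_mem hxN) (β t) = b t ∧
        X.basicOpen (β t) ≤ W t := by
  classical
  induction S using Finset.induction_on with
  | empty =>
    obtain ⟨_, ⟨N, hN, rfl⟩, hxN, -⟩ := X.isBasis_affineOpens.exists_subset_of_mem_open
      (Set.mem_univ x) isOpen_univ
    exact ⟨N, hN, hxN, fun _ => 0, fun t ht => absurd ht (Finset.notMem_empty t)⟩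
  | insert a S ha ih =>
    obtain ⟨N, hN, hxN, β, hβ⟩ := ih
    obtain ⟨N', hN', hxN', hN'N, β', hβ'η, hβ'W⟩ := exists_section_basicOpen_le x hdim (b a) (hb a)
      (W a) (hWne a) (hbW a) N hxN
    refine ⟨N', hN', hxN',
      fun t => if t = a then β' else (X.presheaf.map (homOfLE hN'N).op).hom (β t), ?_⟩
    intro t ht
    by_cases hta : t = a
    · subst hta
      simp only [if_true]
      exact ⟨hβ'η, hβ'W⟩
    · simp only [if_neg hta]
      have hts := (Finset.mem_insert.mp ht).resolve_left hta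
      refine ⟨?_, ?_⟩
      · have e1 : X.presheaf.germ N' (genericPoint X) (genericPoint_mem_of_mem hxN')
            ((X.presheaf.map (homOfLE hN'N).op).hom (β t)) =
            X.presheaf.germ N (genericPoint X) (genericPoint_mem_of_mem hxN) (β t) :=
          X.presheaf.germ_res_apply _ _ _ (β t)
        rw [e1, (hβ t hts).1]
      · rw [Scheme.basicOpen_res]
        exact inf_le_right.trans (hβ t hts).2

/-- a valuation ring of the function field dominating... : two morphisms from its spectrum. -/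
theorem isDominant_Spec_map_of_injective {R S : CommRingCat.{u}} [IsDomain R] (φ : R ⟶ S)
    [IsDomain S] (hφ : Function.Injective φ.hom) : IsDominant (Spec.map φ) := by
  constructor
  have h1 : (Spec.map φ) (⟨⊥, Ideal.isPrime_bot⟩ : PrimeSpectrum S) =
      (⟨⊥, Ideal.isPrime_bot⟩ : PrimeSpectrum R) := by
    apply PrimeSpectrum.ext
    change Ideal.comap φ.hom ⊥ = ⊥
    rw [← RingHom.ker_eq_comap_bot]
    exact (RingHom.injective_iff_ker_eq_bot _).mp hφ
  have h2 : closure ({(⟨⊥, Ideal.isPrime_bot⟩ : PrimeSpectrum R)} : Set (PrimeSpectrum R)) =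
      Set.univ := by
    rw [PrimeSpectrum.closure_singleton]
    simp
  rw [DenseRange, dense_iff_closure_eq]
  apply Set.eq_univ_of_univ_subset
  intro y _
  have hy : y ∈ closure ({(⟨⊥, Ideal.isPrime_bot⟩ : PrimeSpectrum R)} :
      Set (PrimeSpectrum R)) := by
    rw [h2]; trivial
  have hsub : ({(⟨⊥, Ideal.isPrime_bot⟩ : PrimeSpectrum R)} : Set (PrimeSpectrum R)) ⊆
      Set.range (Spec.map φ) := by
    rw [Set.singleton_subset_iff]
    exact ⟨_, h1⟩
  exact closure_mono hsub hy

/-- separatedness: the local rings at two distinct non-generic codimension one points generate the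
function field. -/
theorem sup_stalkSubring_eq_top [X.IsSeparated] (x x' : X) (hxx' : x ≠ x')
    (hx : x ≠ genericPoint X) (hx' : x' ≠ genericPoint X)
    (hdim : ringKrullDim (X.presheaf.stalk x) ≤ 1)
    (hdim' : ringKrullDim (X.presheaf.stalk x') ≤ 1) :
    stalkSubring x ⊔ stalkSubring x' = ⊤ := by
  by_contra hne
  obtain ⟨V, hle, hV⟩ := KA.exists_valuationSubring_ne_top (stalkSubring x)
    (stalkSubring x ⊔ stalkSubring x') le_sup_left hne
  have hxV : ∀ a : X.presheaf.stalk x, algebraMap _ X.functionField a ∈ V := fun a =>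
    hle (le_sup_left (a := stalkSubring x) ⟨a, rfl⟩)
  have hx'V : ∀ a : X.presheaf.stalk x', algebraMap _ X.functionField a ∈ V := fun a =>
    hle (le_sup_right (b := stalkSubring x') ⟨a, rfl⟩)
  let ρ : X.presheaf.stalk x →+* V :=
    (algebraMap (X.presheaf.stalk x) X.functionField).codRestrict V.toSubring hxV
  let ρ' : X.presheaf.stalk x' →+* V :=
    (algebraMap (X.presheaf.stalk x') X.functionField).codRestrict V.toSubring hx'V
  let RV : CommRingCat.{u} := CommRingCat.of V
  let φ : Spec RV ⟶ X := Spec.map (CommRingCat.ofHom ρ) ≫ X.fromSpecStalk x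
  let φ' : Spec RV ⟶ X := Spec.map (CommRingCat.ofHom ρ') ≫ X.fromSpecStalk x'
  let j : RV ⟶ X.functionField := CommRingCat.ofHom V.subtype
  have hjφ : Spec.map j ≫ φ = X.fromSpecStalk (genericPoint X) := by
    have e1 : CommRingCat.ofHom ρ ≫ j = X.presheaf.stalkSpecializes (genericPoint_specializes x) := by
      ext a
      rfl
    rw [← Category.assoc, ← Spec.map_comp, e1]
    exact Scheme.SpecMap_stalkSpecializes_fromSpecStalk _
  have hjφ' : Spec.map j ≫ φ' = X.fromSpecStalk (genericPoint X) := by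
    have e1 : CommRingCat.ofHom ρ' ≫ j =
        X.presheaf.stalkSpecializes (genericPoint_specializes x') := by
      ext a
      rfl
    rw [← Category.assoc, ← Spec.map_comp, e1]
    exact Scheme.SpecMap_stalkSpecializes_fromSpecStalk _
  have hdom : IsDominant (Spec.map j) :=
    isDominant_Spec_map_of_injective j Subtype.val_injective
  have hφφ' : φ = φ' := ext_of_isDominant (Spec.map j) (hjφ.trans hjφ'.symm)
  -- the image of the closed point
  let c : Spec RV := IsLocalRing.closedPoint V
  have hy : φ c ⤳ x := by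
    have : φ c ∈ Set.range (X.fromSpecStalk x) := ⟨(Spec.map (CommRingCat.ofHom ρ)) c, rfl⟩
    rw [Scheme.range_fromSpecStalk] at this
    exact this
  have hy' : φ c ⤳ x' := by
    have : φ' c ∈ Set.range (X.fromSpecStalk x') := ⟨(Spec.map (CommRingCat.ofHom ρ')) c, rfl⟩
    rw [Scheme.range_fromSpecStalk, ← hφφ'] at this
    exact this
  have hyη : φ c = genericPoint X := by
    rcases eq_or_eq_genericPoint_of_specializes x hdim _ hy with h | h
    · rcases eq_or_eq_genericPoint_of_specializes x' hdim' _ hy' with h' | h'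
      · exact absurd (h.symm.trans h') hxx'
      · exact h'
    · exact h
  -- hence the contraction of the maximal ideal is zero
  have hcomap : Ideal.comap ρ (IsLocalRing.maximalIdeal V) = ⊥ := by
    have h1 : X.fromSpecStalk x ((Spec.map (CommRingCat.ofHom ρ)) c) =
        X.fromSpecStalk x ⟨⊥, Ideal.isPrime_bot⟩ := by
      rw [fromSpecStalk_bot x]; exact hyη
    have h2 := (X.fromSpecStalk x).isEmbedding.injective h1
    exact congrArg PrimeSpectrum.asIdeal h2
  apply hV
  rw [eq_top_iff]
  intro z _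
  obtain ⟨a, b, hb, rfl⟩ := IsFractionRing.div_surjective (A := X.presheaf.stalk x) z
  have hb0 : b ≠ 0 := nonZeroDivisors.ne_zero hb
  have hρb : ρ b ∉ IsLocalRing.maximalIdeal V := by
    intro h
    have : b ∈ Ideal.comap ρ (IsLocalRing.maximalIdeal V) := h
    rw [hcomap] at this
    exact hb0 this
  have hunit : IsUnit (ρ b) := by
    by_contra hnu
    exact hρb ((IsLocalRing.mem_maximalIdeal _).mpr hnu)
  obtain ⟨w, hw⟩ := hunit.exists_right_inv
  have hw' : algebraMap (X.presheaf.stalk x) X.functionField b * (w : X.functionField) = 1 :=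
    congrArg Subtype.val hw
  have hinv : (algebraMap (X.presheaf.stalk x) X.functionField b)⁻¹ = (w : X.functionField) :=
    inv_eq_of_mul_eq_one_right hw'
  rw [div_eq_mul_inv, hinv]
  exact V.mul_mem _ _ (hxV a) w.2

end Integral

/-- **integral separated case**: finitely many points with Noetherian local rings of dimension at
most one lie in an affine open. -/
theorem exists_affineOpen_of_integral (X : Scheme.{u}) [IsIntegral X] [X.IsSeparated]
    (s : Finset X)
    (hs : ∀ x ∈ s, IsNoetherianRing (X.presheaf.stalk x) ∧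
      ringKrullDim (X.presheaf.stalk x) ≤ 1) :
    ∃ U : X.Opens, IsAffineOpen U ∧ ∀ x ∈ s, x ∈ U := by
  classical
  have hqs : QuasiSeparatedSpace X := inferInstance
  set s' := s.erase (genericPoint X) with hs'
  rcases s'.eq_empty_or_nonempty with hempty | hne
  · obtain ⟨_, ⟨U, hU, rfl⟩, hηU, -⟩ := X.isBasis_affineOpens.exists_subset_of_mem_open
      (Set.mem_univ (genericPoint X)) isOpen_univ
    refine ⟨U, hU, fun x hx => ?_⟩
    by_cases hxη : x = genericPoint X
    · rw [hxη]; exact hηU
    · have : x ∈ s' := Finset.mem_erase.mpr ⟨hxη, hx⟩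
      rw [hempty] at this
      exact absurd this (Finset.notMem_empty _)
  · obtain ⟨x₀, hx₀⟩ := hne
    let ι := {x // x ∈ s'}
    have hneι : Nonempty ι := ⟨⟨x₀, hx₀⟩⟩
    have hmem : ∀ i : ι, i.1 ≠ genericPoint X ∧ i.1 ∈ s := fun i => Finset.mem_erase.mp i.2
    let A : ι → Subring X.functionField := fun i => stalkSubring i.1
    have hNoeth : ∀ i, IsNoetherianRing (A i) := fun i =>
      isNoetherianRing_stalkSubring i.1 (hs _ (hmem i).2).1
    have hdim : ∀ i, ringKrullDim (A i) = 1 := fun i =>
      ringKrullDim_stalkSubring i.1 (hmem i).1 (hs _ (hmem i).2).2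
    have hsl : ∀ i, Finite (MaximalSpectrum (A i)) := fun i =>
      finite_maximalSpectrum_stalkSubring i.1
    have hfrac : ∀ i, IsFractionRing (A i) X.functionField := fun i => inferInstance
    have hgen : ∀ i j, i ≠ j → A i ⊔ A j = ⊤ := fun i j hij =>
      sup_stalkSubring_eq_top i.1 j.1 (fun h => hij (Subtype.ext h)) (hmem i).1 (hmem j).1
        (hs _ (hmem i).2).2 (hs _ (hmem j).2).2
    have hx : ∀ i, ∃ x : X.functionField, x ∈ A i ∧ x ≠ 0 ∧ ∀ j, j ≠ i →
        ∃ h : x⁻¹ ∈ A j, (⟨x⁻¹, h⟩ : A j) ∈ (⊥ : Ideal (A j)).jacobson := by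
      intro i
      obtain ⟨x, hxA, hx0, hx⟩ := KA.exists_inv_mem_jacobson_of_finite (A i)
        (fun j : {j // j ≠ i} => A j.1) (fun j => hdim j.1) (fun j => hsl j.1)
        (fun j => hgen i j.1 j.2.symm)
      exact ⟨x, hxA, hx0, fun j hj => hx ⟨j, hj⟩⟩
    choose xx hxxA hxx0 hxx using hx
    obtain ⟨f, -, hf⟩ := KA.exists_partition_of_unity_family A xx hxxA hxx0 hxx
    have hfmem : ∀ t l : ι, f t ∈ A l := by
      intro t l
      by_cases h : l = t
      · subst h; exact (hf l).2.1
      · exact ((hf t).2.2.2 l h).choose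
    have hW : ∀ t : ι, ∃ W : X.Opens, IsAffineOpen W ∧ t.1 ∈ W := fun t => by
      obtain ⟨_, ⟨W, hW, rfl⟩, htW, -⟩ := X.isBasis_affineOpens.exists_subset_of_mem_open
        (Set.mem_univ t.1) isOpen_univ
      exact ⟨W, hW, htW⟩
    choose W hWaff htW using hW
    have hsec : ∀ l : ι, ∃ (N : X.Opens) (_ : IsAffineOpen N) (hxN : l.1 ∈ N) (β : ι → Γ(X, N)),
        ∀ t ∈ (Finset.univ : Finset ι),
          X.presheaf.germ N (genericPoint X) (genericPoint_mem_of_mem hxN) (β t) = f t ∧
          X.basicOpen (β t) ≤ W t := fun l =>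
      exists_section_family l.1 (hs _ (hmem l).2).2 f (fun t => hfmem t l) W
        (fun t => ⟨_, htW t⟩) (by
          intro t hunit
          by_cases h : l = t
          · subst h; exact htW l
          · exfalso
            obtain ⟨h', hjac⟩ := (hf t).2.2.2 l h
            have h1 : (⊥ : Ideal (A l)).jacobson = IsLocalRing.maximalIdeal (A l) :=
              IsLocalRing.jacobson_eq_maximalIdeal ⊥ bot_ne_top
            rw [h1] at hjac
            exact (IsLocalRing.mem_maximalIdeal _).mp hjac hunit) Finset.univ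
    choose N hNaff hlN β hβ using hsec
    obtain ⟨U, hU, hxU⟩ := exists_affineOpen_of_local_sections X (fun t : ι => t.1) W hWaff htW
      N hNaff hlN β
      (fun t l l' => res_eq_of_germ_eq (β l t) (β l' t) (genericPoint_mem_of_mem (hlN l))
        (genericPoint_mem_of_mem (hlN l'))
        (((hβ l t (Finset.mem_univ t)).1).trans ((hβ l' t (Finset.mem_univ t)).1).symm))
      (fun l t => (hβ l t (Finset.mem_univ t)).2)
      (by
        intro t
        rw [Scheme.mem_basicOpen X (β t t) t.1 (hlN t)]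
        have : Nonempty (N t) := ⟨⟨t.1, hlN t⟩⟩
        have h1 : algebraMap (X.presheaf.stalk t.1) X.functionField
            (X.presheaf.germ (N t) t.1 (hlN t) (β t t)) = f t := by
          rw [Scheme.algebraMap_germ_eq_germToFunctionField X (hlN t) (β t t)]
          exact (hβ t t (Finset.mem_univ t)).1
        have h2 : IsUnit (⟨f t, (hf t).2.1⟩ : A t) := by
          refine ⟨⟨⟨f t, (hf t).2.1⟩, ⟨(f t)⁻¹, (hf t).2.2.1⟩, ?_, ?_⟩, rfl⟩
          · exact Subtype.ext (mul_inv_cancel₀ (hf t).1)
          · exact Subtype.ext (inv_mul_cancel₀ (hf t).1)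
        have h3 : stalkEquiv t.1 (X.presheaf.germ (N t) t.1 (hlN t) (β t t)) =
            (⟨f t, (hf t).2.1⟩ : A t) := Subtype.ext h1
        rw [← h3] at h2
        exact (MulEquiv.isUnit_map (stalkEquiv t.1)).mp h2)
    refine ⟨U, hU, fun x hx => ?_⟩
    by_cases hxη : x = genericPoint X
    · rw [hxη]; exact genericPoint_mem_of_mem (hxU ⟨x₀, hx₀⟩)
    · exact hxU ⟨x, Finset.mem_erase.mpr ⟨hxη, hx⟩⟩

theorem isSeparated_of_mono' {W X : Scheme.{u}} (f : W ⟶ X) [Mono f] [X.IsSeparated] :
    W.IsSeparated :=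
  ⟨by rw [← Limits.terminal.comp_from f]; infer_instance⟩

/-- The reduced induced subscheme on a closed subset is reduced. -/
theorem isReduced_vanishingIdeal_subscheme' {X : Scheme.{u}} (W : TopologicalSpace.Closeds X) :
    IsReduced (Scheme.IdealSheafData.vanishingIdeal W).subscheme := by
  have : ∀ U, IsReduced ((Scheme.IdealSheafData.vanishingIdeal W).subschemeCover.openCover.X U) := by
    intro U
    let U' : X.affineOpens := U
    change IsReduced (Spec (.of <| Γ(X, U'.1) ⧸ (Scheme.IdealSheafData.vanishingIdeal W).ideal U'))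
    have : _root_.IsReduced (Γ(X, U'.1) ⧸ (Scheme.IdealSheafData.vanishingIdeal W).ideal U') := by
      rw [← Ideal.isRadical_iff_quotient_reduced, Scheme.IdealSheafData.vanishingIdeal_ideal]
      exact PrimeSpectrum.isRadical_vanishingIdeal _
    infer_instance
  exact IsReduced.of_openCover _ (Scheme.IdealSheafData.vanishingIdeal W).subschemeCover.openCover

/-- one irreducible component. -/
theorem exists_affineOpen_component (Y : Scheme.{u}) [Y.IsSeparated] (W : Closeds Y)
    (hW : IsIrreducible (W : Set Y)) (T : Finset Y)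
    (hT : ∀ x ∈ T, IsNoetherianRing (Y.presheaf.stalk x) ∧
      ringKrullDim (Y.presheaf.stalk x) ≤ 1) :
    ∃ V : (Scheme.IdealSheafData.vanishingIdeal W).subscheme.Opens, IsAffineOpen V ∧
      ∀ t ∈ T, t ∈ (W : Set Y) →
        t ∈ (Scheme.IdealSheafData.vanishingIdeal W).subschemeι.base '' (V : Set _) := by
  classical
  have hrange : Set.range (Scheme.IdealSheafData.vanishingIdeal W).subschemeι = (W : Set Y) := by
    rw [Scheme.IdealSheafData.range_subschemeι]
    exact Scheme.IdealSheafData.coe_support_vanishingIdeal _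
  have hred := isReduced_vanishingIdeal_subscheme' W
  have hirrS : IrreducibleSpace (Scheme.IdealSheafData.vanishingIdeal W).subscheme := by
    have h1 : IsIrreducible (Set.range (Scheme.IdealSheafData.vanishingIdeal W).subschemeι) :=
      hrange ▸ hW
    have h2 := Subtype.irreducibleSpace h1
    exact ((Scheme.IdealSheafData.vanishingIdeal W).subschemeι.isClosedEmbedding.isEmbedding.toHomeomorph).irreducibleSpace_iff.mpr h2
  have hint : IsIntegral (Scheme.IdealSheafData.vanishingIdeal W).subscheme :=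
    isIntegral_of_irreducibleSpace_of_isReduced _
  have hsep : (Scheme.IdealSheafData.vanishingIdeal W).subscheme.IsSeparated :=
    isSeparated_of_mono' (Scheme.IdealSheafData.vanishingIdeal W).subschemeι
  let T' : Finset (Scheme.IdealSheafData.vanishingIdeal W).subscheme :=
    T.preimage (Scheme.IdealSheafData.vanishingIdeal W).subschemeι
      ((Scheme.IdealSheafData.vanishingIdeal W).subschemeι.isClosedEmbedding.injective.injOn)
  obtain ⟨V, hV, hVT⟩ := exists_affineOpen_of_integral
    (Scheme.IdealSheafData.vanishingIdeal W).subscheme T' (by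
    intro y hy
    have hyT : (Scheme.IdealSheafData.vanishingIdeal W).subschemeι y ∈ T :=
      Finset.mem_preimage.mp hy
    obtain ⟨hN, hd⟩ := hT _ hyT
    have hsurj : Function.Surjective
        ((Scheme.IdealSheafData.vanishingIdeal W).subschemeι.stalkMap y).hom :=
      (Scheme.IdealSheafData.vanishingIdeal W).subschemeι.stalkMap_surjective y
    exact ⟨isNoetherianRing_of_surjective _ _ _ hsurj,
      (ringKrullDim_le_of_surjective _ hsurj).trans hd⟩)
  refine ⟨V, hV, fun t ht htZ => ?_⟩
  rw [← hrange] at htZ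
  obtain ⟨y, rfl⟩ := htZ
  exact ⟨y, hVT y (Finset.mem_preimage.mpr ht), rfl⟩

/-- separated with finitely many irreducible components. -/
theorem exists_affineOpen_of_separated_finite (Y : Scheme.{u}) [Y.IsSeparated]
    (hirr : (irreducibleComponents (Y : Type u)).Finite) (T : Finset Y)
    (hT : ∀ x ∈ T, IsNoetherianRing (Y.presheaf.stalk x) ∧
      ringKrullDim (Y.presheaf.stalk x) ≤ 1) :
    ∃ U : Y.Opens, IsAffineOpen U ∧ ∀ t ∈ T, t ∈ U := by
  refine exists_affineOpen_of_irreducibleComponents Y hirr T ?_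
  intro Z hZ
  exact exists_affineOpen_component Y ⟨Z, isClosed_of_mem_irreducibleComponents Z hZ⟩ hZ.1 T hT

/-- **S0217**. -/
theorem exists_affineOpen_of_separated (X : Scheme.{u}) [X.IsSeparated]
    (hirr : ∀ U : X.Opens, IsCompact (U : Set X) → (irreducibleComponents (U : Set X)).Finite)
    (s : Finset X)
    (hs : ∀ x ∈ s, IsNoetherianRing (X.presheaf.stalk x) ∧
      ringKrullDim (X.presheaf.stalk x) ≤ 1) :
    ∃ U : X.Opens, IsAffineOpen U ∧ ∀ x ∈ s, x ∈ U := by
  classical
  have hW : ∀ x : X, ∃ W : X.Opens, IsAffineOpen W ∧ x ∈ W := fun x => by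
    obtain ⟨_, ⟨W, hW, rfl⟩, hxW, -⟩ := X.isBasis_affineOpens.exists_subset_of_mem_open
      (Set.mem_univ x) isOpen_univ
    exact ⟨W, hW, hxW⟩
  choose W hWaff hxW using hW
  let X₀ : X.Opens := ⨆ x : s, W x.1
  have hcpt : IsCompact (X₀ : Set X) := by
    rw [Opens.coe_iSup]
    exact isCompact_iUnion (fun x => (hWaff x.1).isCompact)
  have hfin := hirr X₀ hcpt
  have hmem : ∀ x : s, x.1 ∈ X₀ := fun x => Opens.mem_iSup.mpr ⟨x, hxW x.1⟩
  have hYsep : X₀.toScheme.IsSeparated := isSeparated_of_mono' X₀.ι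
  let T : Finset X₀.toScheme := s.attach.image (fun x => ⟨x.1, hmem x⟩)
  obtain ⟨V, hV, hVT⟩ := exists_affineOpen_of_separated_finite X₀.toScheme hfin T (by
    intro y hy
    obtain ⟨x, -, hxy⟩ := Finset.mem_image.mp hy
    have hyx : X₀.ι y = x.1 := by rw [← hxy]; rfl
    obtain ⟨hN, hd⟩ := hs (X₀.ι y) (hyx ▸ x.2)
    have e := (asIso (X₀.ι.stalkMap y)).commRingCatIsoToRingEquiv
    exact ⟨isNoetherianRing_of_ringEquiv _ e, by rw [← ringKrullDim_eq_of_ringEquiv e]; exact hd⟩)
  refine ⟨X₀.ι ''ᵁ V, hV.image_of_isOpenImmersion X₀.ι, fun x hx => ?_⟩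
  exact ⟨⟨x, hmem ⟨x, hx⟩⟩, hVT _ (Finset.mem_image.mpr ⟨⟨x, hx⟩, Finset.mem_attach _ _, rfl⟩), rfl⟩

end Groth.Agent.Lib.Helper39.SpreadAff
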